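import Mathlib
import Cfsg.Agent.Lib.Helper11.R2C5
import Cfsg.Agent.S0639

/-!
# Rank-two `p`-groups, `p > 3`, generated by commutators with odd-order automorphisms
(type-level core of S1448)
-/

set_option autoImplicit false
set_option linter.unusedSectionVars false
open Cfsg
open scoped commutatorElement

namespace Cfsg.Agent.Lib.Helper11.R2C

universe u

namespace Data

variable {p : ℕ} [hpF : Fact p.Prime] {P : Type u} [Group P] [Finite P] {Z W E : Subgroup P}
  {x : P}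

/-- `σ(g) g⁻¹` centralizes the cyclic characteristic subgroup `C_P(E)`. -/
theorem comm_aut_mem (h : Data p P Z W E x) (hp2 : p ≠ 2) (hP : IsPGroup p P) (σ : MulAut P)
    (g : P) : σ g * g⁻¹ ∈
      Subgroup.centralizer ((Subgroup.centralizer (E : Set P) : Subgroup P) : Set P) := by
  haveI := h.isCyclic_Q hp2 hP
  obtain ⟨⟨gq, hgQ⟩, hgen⟩ := exists_zpow_surjective ↥(Subgroup.centralizer (E : Set P))
  have hgen' : ∀ q ∈ Subgroup.centralizer (E : Set P), ∃ k : ℤ, q = gq ^ k := by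
    intro q hq
    obtain ⟨k, hk⟩ := hgen ⟨q, hq⟩
    refine ⟨k, ?_⟩
    have := congrArg Subtype.val hk
    simpa using this.symm
  have hEn : E.Normal :=
    ⟨fun e he t => by rw [← h.hE, conj_pow, (h.hE e).mpr he, mul_one, mul_inv_cancel]⟩
  have hQn : (Subgroup.centralizer (E : Set P)).Normal := Subgroup.normal_centralizer
  have key : ∀ t : P, ∀ q ∈ Subgroup.centralizer (E : Set P),
      σ t * q * (σ t)⁻¹ = t * q * t⁻¹ := by
    intro t q hq
    obtain ⟨m, rfl⟩ := hgen' q hq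
    obtain ⟨u, hu⟩ := hgen' (t * gq * t⁻¹) (hQn.conj_mem gq hgQ t)
    obtain ⟨J', hJ'⟩ := hgen' (σ⁻¹ gq) (h.aut_Q σ⁻¹ gq hgQ)
    have h1 : σ t * gq * (σ t)⁻¹ = t * gq * t⁻¹ := by
      calc σ t * gq * (σ t)⁻¹ = σ (t * σ⁻¹ gq * t⁻¹) := by
            rw [map_mul, map_mul, map_inv, MulAut.apply_inv_self]
        _ = σ ((t * gq * t⁻¹) ^ J') := by rw [hJ', conj_zpow]
        _ = σ ((σ⁻¹ gq) ^ u) := by rw [hu, hJ', ← zpow_mul, ← zpow_mul, mul_comm]
        _ = gq ^ u := by rw [map_zpow, MulAut.apply_inv_self]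
        _ = t * gq * t⁻¹ := hu.symm
    rw [← conj_zpow, ← conj_zpow, h1]
  rw [Subgroup.mem_centralizer_iff]
  intro q hq
  have hq' : g⁻¹ * q * g ∈ Subgroup.centralizer (E : Set P) := by
    have := hQn.conj_mem q hq g⁻¹
    simpa using this
  have h2 := key g (g⁻¹ * q * g) hq'
  have h3 : σ g * (g⁻¹ * q * g) * (σ g)⁻¹ = q := by rw [h2]; group
  calc q * (σ g * g⁻¹) = (σ g * (g⁻¹ * q * g) * (σ g)⁻¹) * (σ g * g⁻¹) := by rw [h3]
    _ = σ g * g⁻¹ * q := by group

end Data

/-- **Type-level core of S1448.** -/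
theorem core {P : Type u} [Group P] [Finite P] {p : ℕ} [Fact p.Prime] (hp : 3 < p)
    (hP : IsPGroup p P)
    (hr : ∀ A : Subgroup P, (∀ a ∈ A, ∀ b ∈ A, a * b = b * a) → (∀ a ∈ A, a ^ p = 1) →
      Nat.card A ≤ p ^ 2)
    (hmeta : Cfsg.IsMetacyclic P → ∀ a b : P, a * b = b * a)
    (S : Set (MulAut P)) (hodd : ∀ σ ∈ S, Odd (orderOf σ))
    (hgen : ∀ T : Subgroup P, (∀ σ ∈ S, ∀ g : P, σ g * g⁻¹ ∈ T) → T = ⊤) :
    (∀ a b : P, a * b = b * a) ∨
    ∃ Z E : Subgroup P, E ⊔ Subgroup.centralizer (E : Set P) = ⊤ ∧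
      ¬ (∀ a ∈ E, ∀ b ∈ E, a * b = b * a) ∧ Nat.card E = p ^ 3 ∧ (∀ g : P, g ^ p = 1 ↔ g ∈ E) ∧
      IsCyclic ↥(Subgroup.centralizer (E : Set P)) ∧ ⁅E, E⁆ = Z ∧
      (∀ g : P, g ∈ Z ↔ g ∈ E ∧ g ∈ Subgroup.centralizer (E : Set P)) := by
  have hpp : p.Prime := Fact.out
  have hp2 : p ≠ 2 := by omega
  by_cases hcyc : IsCyclic P
  · left
    apply hmeta
    refine ⟨⊤, inferInstance, ?_, ?_⟩
    · exact isCyclic_of_surjective (Subgroup.topEquiv : (⊤ : Subgroup P) ≃* P).symm
        Subgroup.topEquiv.symm.surjective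
    · exact isCyclic_of_surjective (QuotientGroup.mk' (⊤ : Subgroup P))
        (QuotientGroup.mk'_surjective _)
  · have hnc' : ¬ IsCyclic ↥(⊤ : Subgroup P) := fun hc =>
      hcyc (isCyclic_of_surjective (Subgroup.topEquiv : (⊤ : Subgroup P) ≃* P)
        Subgroup.topEquiv.surjective)
    obtain ⟨W, -, hWn, hWe, hWcard⟩ := Cfsg.Agent.S0636.result hp2 hP ⊤ hnc'
    have hWab : ∀ a ∈ W, ∀ b ∈ W, a * b = b * a := fun a ha b hb =>
      congrArg Subtype.val (hWe.1.is_comm.comm ⟨a, ha⟩ ⟨b, hb⟩)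
    by_cases hall : ∀ g : P, g ^ p = 1 → g ∈ W
    · left
      apply hmeta
      apply Cfsg.Agent.S0639.result hp hP
      have hle : Cfsg.omegaOne p (⊤ : Subgroup P) ≤ W := by
        unfold Cfsg.omegaOne
        rw [Subgroup.closure_le]
        rintro g ⟨-, hg⟩
        exact hall g hg
      calc Nat.card (Cfsg.omegaOne p (⊤ : Subgroup P)) ≤ Nat.card W := Subgroup.card_le_of_le hle
        _ = p ^ 2 := hWcard
    · push Not at hall
      obtain ⟨x, hx, hxW⟩ := hall
      obtain ⟨Z, E, D⟩ := exists_data hp hP hr W hWab hWe.2 hWcard x hx hxW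
      by_cases hgood : ∀ c ∈ Subgroup.centralizer (W : Set P), th x c ∈ Z
      · right
        refine ⟨Z, E, D.good hgood, D.not_comm, D.hEcard, D.hE, D.isCyclic_Q hp2 hP,
          D.commutator_E, ?_⟩
        intro g
        exact ⟨fun hg => ⟨D.hWE (D.hZW hg), D.Z_le_Q hg⟩, fun hg => D.E_inf_Q g hg.1 hg.2⟩
      · exfalso
        push Not at hgood
        obtain ⟨r, hrC, hrZ⟩ := hgood
        have hQc : Subgroup.centralizer (E : Set P) ≤ Subgroup.center P := by
          have hT := hgen (Subgroup.centralizer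
            ((Subgroup.centralizer (E : Set P) : Subgroup P) : Set P))
            (fun σ _ g => D.comm_aut_mem hp2 hP σ g)
          intro q hq
          rw [Subgroup.mem_center_iff]
          intro g
          have hg : g ∈ Subgroup.centralizer
              ((Subgroup.centralizer (E : Set P) : Subgroup P) : Set P) := by
            rw [hT]; exact Subgroup.mem_top g
          exact (Subgroup.mem_centralizer_iff.mp hg q hq).symm
        have hC := hgen (Subgroup.centralizer (W : Set P))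
          (fun σ hσ g => D.bad hp2 hP r hrC hrZ hQc σ (hodd σ hσ) g)
        exact D.x_not_C (by rw [hC]; exact Subgroup.mem_top x)

end Cfsg.Agent.Lib.Helper11.R2C
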