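import Mathlib
import Cfsg.Prelude.Def_Local
import Cfsg.Agent.Lib.Helper11.QuadGeneric
import Cfsg.Agent.Lib.Helper11.PSolvCoprime
import Cfsg.Agent.Lib.Helper95.SL23
import Cfsg.Agent.Lib.Helper1.QuatSylow
import Cfsg.Agent.Lib.Helper91.Coprime2

/-!
# Non-commuting unipotent pairs of `SL₂` generating a `p`-solvable group

Over a finite field of odd characteristic `p`, two non-commuting elements of order `p` of `SL₂`
generating a `p`-solvable group force `p = 3` and a section isomorphic to `SL₂(3)`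
(`sl2_core`).
-/

set_option autoImplicit false

namespace Cfsg.Agent.Lib.Helper11

open Cfsg

local notation "SL₂(" K ")" => Matrix.SpecialLinearGroup (Fin 2) K

theorem sl2_two_ne_zero {K : Type*} [Field K] (p : ℕ) [Fact p.Prime] [CharP K p] (hp : p ≠ 2) :
    (2 : K) ≠ 0 := by
  have hpp : p.Prime := Fact.out
  intro h
  have h' : ((2 : ℕ) : K) = 0 := by exact_mod_cast h
  rw [CharP.cast_eq_zero_iff K p] at h'
  exact hp ((Nat.prime_dvd_prime_iff_eq hpp Nat.prime_two).mp h')

/-- A nontrivial `p`-element of `SL₂` in odd characteristic `p` is not scalar. -/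
theorem sl2_not_scalar_of_pElement {K : Type*} [Field K] (p : ℕ) [Fact p.Prime] [CharP K p]
    (hp : p ≠ 2) (z : SL₂(K)) {k : ℕ} (hz : z ^ p ^ k = 1) (hz1 : z ≠ 1) :
    ∀ r : K, z.1 ≠ Matrix.scalar (Fin 2) r := by
  intro r hr
  have h2 := sl2_two_ne_zero (K := K) p hp
  have ht : z.1.trace = 2 := by
    apply Cfsg.Agent.Lib.Helper41.trace_of_pow_char_pow p (k := k)
    have := congrArg Subtype.val hz
    simpa using this
  rw [hr] at ht
  have hr1 : r = 1 := by
    have h3 : 2 * r = 2 := by simpa [Matrix.trace_fin_two] using ht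
    have h4 : 2 * (r - 1) = 0 := by linear_combination h3
    rcases mul_eq_zero.mp h4 with h | h
    · exact absurd h h2
    · linear_combination h
  apply hz1
  apply Subtype.ext
  rw [hr, hr1]
  simp

/-- `p`-subgroups of `SL₂` over a finite field of odd characteristic `p` are commutative. -/
theorem sl2_pGroup_comm {K : Type*} [Field K] [Finite K] (p : ℕ) [Fact p.Prime] [CharP K p]
    (hp : p ≠ 2) (T : Subgroup SL₂(K)) (hT : IsPGroup p T) :
    ∀ a ∈ T, ∀ b ∈ T, a * b = b * a := by
  haveI : Finite SL₂(K) := by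
    unfold Matrix.SpecialLinearGroup
    infer_instance
  intro a ha b hb
  by_cases hnt : Nontrivial T
  · haveI := hT.center_nontrivial
    obtain ⟨z, hz1⟩ := exists_ne (1 : Subgroup.center T)
    have hzz1 : ((z : T) : SL₂(K)) ≠ 1 := by
      intro h
      apply hz1
      apply Subtype.ext
      apply Subtype.ext
      exact h
    obtain ⟨k, hk⟩ := hT (z : T)
    have hzk : ((z : T) : SL₂(K)) ^ p ^ k = 1 := by
      have := congrArg Subtype.val hk
      rwa [Subgroup.coe_pow, Subgroup.coe_one] at this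
    have hns := sl2_not_scalar_of_pElement p hp _ hzk hzz1
    have hca : a.1 * ((z : T) : SL₂(K)).1 = ((z : T) : SL₂(K)).1 * a.1 := by
      have h1 := Subgroup.mem_center_iff.mp z.2 ⟨a, ha⟩
      have h2 := congrArg (fun t : T => ((t : SL₂(K)) : Matrix (Fin 2) (Fin 2) K)) h1
      simpa using h2
    have hcb : b.1 * ((z : T) : SL₂(K)).1 = ((z : T) : SL₂(K)).1 * b.1 := by
      have h1 := Subgroup.mem_center_iff.mp z.2 ⟨b, hb⟩
      have h2 := congrArg (fun t : T => ((t : SL₂(K)) : Matrix (Fin 2) (Fin 2) K)) h1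
      simpa using h2
    have := Cfsg.Agent.Lib.Helper41.commute_of_commute_nonscalar hns hca hcb
    apply Subtype.ext
    rw [Matrix.SpecialLinearGroup.coe_mul, Matrix.SpecialLinearGroup.coe_mul]
    exact this
  · rw [not_nontrivial_iff_subsingleton] at hnt
    have h1 : (⟨a, ha⟩ : T) = ⟨b, hb⟩ := Subsingleton.elim _ _
    have : a = b := congrArg Subtype.val h1
    rw [this]

/-- Two non-commuting elements of order `p` of `SL₂` generate a group with trivial `O_p`. -/
theorem sl2_pCore_closure_eq_bot {K : Type*} [Field K] [Finite K] (p : ℕ) [Fact p.Prime]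
    [CharP K p] (hp : p ≠ 2) (x y : SL₂(K)) (hx : x ^ p = 1) (hy : y ^ p = 1)
    (hxy : x * y ≠ y * x) :
    pCore p ↥(Subgroup.closure ({x, y} : Set SL₂(K))) = ⊥ := by
  haveI : Finite SL₂(K) := by
    unfold Matrix.SpecialLinearGroup
    infer_instance
  set X := Subgroup.closure ({x, y} : Set SL₂(K)) with hX
  by_contra hne
  obtain ⟨u, hu1⟩ := (Subgroup.ne_bot_iff_exists_ne_one).mp hne
  have hxX : x ∈ X := Subgroup.subset_closure (by simp)
  have hyX : y ∈ X := Subgroup.subset_closure (by simp)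
  have hP : IsPGroup p (pCore p X) := Cfsg.Agent.Lib.Helper63.pCore_isPGroup' p X
  have huu1 : ((u : X) : SL₂(K)) ≠ 1 := by
    intro h
    apply hu1
    apply Subtype.ext
    apply Subtype.ext
    exact h
  obtain ⟨k, hk⟩ := hP u
  have huk : ((u : X) : SL₂(K)) ^ p ^ k = 1 := by
    have := congrArg (fun t : pCore p X => ((t : X) : SL₂(K))) hk
    simpa using this
  have hns := sl2_not_scalar_of_pElement p hp _ huk huu1
  have key : ∀ w : SL₂(K), ∀ hw : w ∈ X, w ^ p = 1 →
      w.1 * ((u : X) : SL₂(K)).1 = ((u : X) : SL₂(K)).1 * w.1 := by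
    intro w hw hwp
    have hwp' : (⟨w, hw⟩ : X) ^ p ^ 1 = 1 :=
      Subtype.ext (by rw [pow_one, Subgroup.coe_pow]; exact hwp)
    have hT : IsPGroup p (Subgroup.zpowers (⟨w, hw⟩ : X) ⊔ pCore p X : Subgroup X) :=
      IsPGroup.to_sup_of_normal_right (isPGroup_zpowers_of_pow _ hwp') hP
    have hT' := hT.map X.subtype
    have h1 : w ∈ (Subgroup.zpowers (⟨w, hw⟩ : X) ⊔ pCore p X : Subgroup X).map X.subtype :=
      ⟨⟨w, hw⟩, Subgroup.mem_sup_left (Subgroup.mem_zpowers _), rfl⟩
    have h2 : ((u : X) : SL₂(K)) ∈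
        (Subgroup.zpowers (⟨w, hw⟩ : X) ⊔ pCore p X : Subgroup X).map X.subtype :=
      ⟨(u : X), Subgroup.mem_sup_right u.2, rfl⟩
    have h3 := sl2_pGroup_comm p hp _ hT' w h1 _ h2
    have h4 := congrArg Subtype.val h3
    rwa [Matrix.SpecialLinearGroup.coe_mul, Matrix.SpecialLinearGroup.coe_mul] at h4
  have := Cfsg.Agent.Lib.Helper41.commute_of_commute_nonscalar hns (key x hxX hx) (key y hyX hy)
  apply hxy
  apply Subtype.ext
  rw [Matrix.SpecialLinearGroup.coe_mul, Matrix.SpecialLinearGroup.coe_mul]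
  exact this

/-- A finite `2`-group with at most one involution is cyclic or generalized quaternion. -/
theorem cyclic_or_quaternion_of_unique_involution {Q : Type*} [Group Q] [Finite Q]
    (hQ : IsPGroup 2 Q) (h1 : ∀ s t : Q, orderOf s = 2 → orderOf t = 2 → s = t) :
    IsCyclic Q ∨ ∃ n : ℕ, Nonempty (Q ≃* QuaternionGroup (2 ^ n)) := by
  haveI : Fact (Nat.Prime 2) := ⟨Nat.prime_two⟩
  have key : ∀ H : Subgroup Q, Nat.card H = 2 → ∃ x : Q, orderOf x = 2 ∧ H = Subgroup.zpowers x := by
    intro H hH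
    obtain ⟨y, hy⟩ := exists_prime_orderOf_dvd_card' (G := H) 2 (by rw [hH])
    have hy' : orderOf (y : Q) = 2 := by rw [Subgroup.orderOf_coe]; exact hy
    refine ⟨y, hy', ?_⟩
    symm
    apply Subgroup.eq_of_le_of_card_ge
    · rw [Subgroup.zpowers_le]; exact y.2
    · rw [hH, Nat.card_zpowers, hy']
  have huniq : ∀ H K : Subgroup Q, Nat.card H = 2 → Nat.card K = 2 → H = K := by
    intro H K hH hK
    obtain ⟨x, hx, rfl⟩ := key H hH
    obtain ⟨y, hy, rfl⟩ := key K hK
    rw [h1 x y hx hy]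
  rcases Cfsg.Agent.S0016.result 2 hQ huniq with h | ⟨-, n, he⟩
  · exact Or.inl h
  · exact Or.inr ⟨n, he⟩

/-- An element of order `p` of `SL₂` (odd characteristic `p`) normalizing but not centralizing a
`q`-subgroup, `q ≠ p`, forces `p = 3` and a section isomorphic to `SL₂(3)`. -/
theorem sl2_section_of_normalized {K : Type*} [Field K] [Finite K] (p : ℕ) [Fact p.Prime]
    [CharP K p] (hp : p ≠ 2) (x : SL₂(K)) (hx : x ^ p = 1) (q : ℕ) (hq : q.Prime) (hqp : q ≠ p)
    (R : Subgroup SL₂(K)) (hR : IsPGroup q R)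
    (hxN : x ∈ Subgroup.normalizer (R : Set SL₂(K)))
    (hxC : x ∉ Subgroup.centralizer (R : Set SL₂(K))) :
    p = 3 ∧ ∃ (L K' : Subgroup SL₂(K)) (_ : (K'.subgroupOf L).Normal),
      L ≤ R ⊔ Subgroup.zpowers x ∧
      Nonempty ((L ⧸ K'.subgroupOf L) ≃* Matrix.SpecialLinearGroup (Fin 2) (ZMod 3)) := by
  have hpp : p.Prime := Fact.out
  haveI : Finite SL₂(K) := by
    unfold Matrix.SpecialLinearGroup
    infer_instance
  have hK2 := sl2_two_ne_zero (K := K) p hp
  have hordx : orderOf x ∣ p := orderOf_dvd_of_pow_eq_one hx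
  have hoddx : Odd (orderOf x) := by
    rcases (Nat.dvd_prime hpp).mp hordx with h | h
    · rw [h]; exact odd_one
    · rw [h]; exact hpp.odd_of_ne_two hp
  have hcop2 : (orderOf x).Coprime 2 := Nat.Coprime.symm (Nat.coprime_two_left.mpr hoddx)
  by_cases hq2 : q = 2
  · subst hq2
    have h1 : ∀ s t : R, orderOf s = 2 → orderOf t = 2 → s = t := by
      intro s t hs ht
      apply Subtype.ext
      apply sl2_involution_unique hK2
      · rw [Subgroup.orderOf_coe]; exact hs
      · rw [Subgroup.orderOf_coe]; exact ht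
    rcases cyclic_or_quaternion_of_unique_involution hR h1 with hcyc | ⟨n, ⟨e⟩⟩
    · exact absurd
        (Cfsg.Agent.Lib.Helper1.mem_centralizer_of_cyclic_two_group R hcyc hR x hxN hcop2) hxC
    · rcases Nat.lt_or_ge n 2 with hn | hn
      · interval_cases n
        · exfalso
          rw [pow_zero] at e
          haveI := QuaternionGroup.quaternionGroup_one_isCyclic
          have hcyc : IsCyclic R := isCyclic_of_surjective e.symm e.symm.surjective
          exact hxC
            (Cfsg.Agent.Lib.Helper1.mem_centralizer_of_cyclic_two_group R hcyc hR x hxN hcop2)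
        · rw [pow_one] at e
          have hyN : ∀ h ∈ R, x * h * x⁻¹ ∈ R :=
            fun h hh => (Subgroup.mem_normalizer_iff.mp hxN h).mp hh
          have hyC : ∃ h ∈ R, x * h * x⁻¹ ≠ h := by
            by_contra hcon
            push Not at hcon
            apply hxC
            rw [Subgroup.mem_centralizer_iff]
            intro h hh
            have := hcon h hh
            rw [mul_inv_eq_iff_eq_mul] at this
            exact this.symm
          refine ⟨?_, Cfsg.Agent.Lib.Helper95.SL23.exists_section_SL23 R e x hyN hoddx hyC⟩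
          by_contra hp3
          have h3 := Cfsg.Agent.Lib.Helper95.SL23.cube_centralizes R e x hyN hoddx
          have hcop : Nat.Coprime 3 p := by
            rw [Nat.coprime_primes Nat.prime_three hpp]
            exact fun h => hp3 h.symm
          obtain ⟨m, -, hm⟩ := Nat.exists_mul_mod_eq_one_of_coprime hcop hpp.one_lt
          have hxm : x = (x ^ 3) ^ m := by
            rw [← pow_mul, pow_eq_pow_mod (3 * m) hx, hm, pow_one]
          have hc3 : x ^ 3 ∈ Subgroup.centralizer (R : Set SL₂(K)) := by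
            rw [Subgroup.mem_centralizer_iff]
            intro h' hh'
            have := h3 h' hh'
            rw [mul_inv_eq_iff_eq_mul] at this
            exact this.symm
          have hcx : x ∈ Subgroup.centralizer (R : Set SL₂(K)) := by
            rw [hxm]
            exact Subgroup.pow_mem _ hc3 m
          exact hxC hcx
      · exfalso
        have hM : 4 ≤ 2 ^ n := by
          calc 4 = 2 ^ 2 := by norm_num
            _ ≤ 2 ^ n := Nat.pow_le_pow_right (by norm_num) hn
        exact hxC (Cfsg.Agent.Lib.Helper1.mem_centralizer_of_quaternion_large R hR (2 ^ n) hM e x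
          hxN hcop2)
  · exfalso
    apply hxC
    have hqodd : Odd q := hq.odd_of_ne_two hq2
    set Y := R ⊔ Subgroup.zpowers x with hY
    have hodd : Odd (Nat.card Y) := by
      have h1 := Cfsg.Agent.Lib.Helper91.card_sup_mul_card_inf_of_le_normalizer R
        (Subgroup.zpowers x) (by rw [Subgroup.zpowers_le]; exact hxN)
      have h2 : Nat.card Y ∣ Nat.card R * Nat.card (Subgroup.zpowers x) := Dvd.intro _ h1
      haveI : Fact q.Prime := ⟨hq⟩
      obtain ⟨j, hj⟩ := IsPGroup.iff_card.mp hR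
      rw [hj, Nat.card_zpowers] at h2
      have h3 : Odd (q ^ j * orderOf x) := (hqodd.pow).mul hoddx
      exact h3.of_dvd_nat h2
    have hxY : x ∈ Y := Subgroup.mem_sup_right (Subgroup.mem_zpowers x)
    have htx : x.1.trace = 2 := by
      apply Cfsg.Agent.Lib.Helper41.trace_of_pow_char_pow p (k := 1)
      rw [pow_one]
      have := congrArg Subtype.val hx
      simpa using this
    rw [Subgroup.mem_centralizer_iff]
    intro g hg
    have hgY : g ∈ Y := Subgroup.mem_sup_left hg
    have hcY : g * x * g⁻¹ ∈ Y := Y.mul_mem (Y.mul_mem hgY hxY) (Y.inv_mem hgY)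
    have hcp : (g * x * g⁻¹) ^ p = 1 := by
      rw [conj_pow, hx, mul_one, mul_inv_cancel]
    have htc : (g * x * g⁻¹).1.trace = 2 := by
      apply Cfsg.Agent.Lib.Helper41.trace_of_pow_char_pow p (k := 1)
      rw [pow_one, ← Matrix.SpecialLinearGroup.coe_pow, hcp, Matrix.SpecialLinearGroup.coe_one]
    have hcomm := Cfsg.Agent.Lib.Helper41.odd_order_unipotent_commute p hp (Nat.card Y) Y rfl
      inferInstance hodd x hxY (g * x * g⁻¹) hcY htx htc
    have hcR : x⁻¹ * (g * x * g⁻¹) ∈ R := by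
      have h1 : x⁻¹ * g * x⁻¹⁻¹ ∈ R :=
        (Subgroup.mem_normalizer_iff.mp (Subgroup.inv_mem _ hxN) g).mp hg
      have h2 : x⁻¹ * (g * x * g⁻¹) = (x⁻¹ * g * x⁻¹⁻¹) * g⁻¹ := by group
      rw [h2]
      exact R.mul_mem h1 (R.inv_mem hg)
    have hcp' : (x⁻¹ * (g * x * g⁻¹)) ^ p = 1 := by
      have hc' : Commute x⁻¹ (g * x * g⁻¹) :=
        Commute.inv_left (show Commute x (g * x * g⁻¹) from hcomm)
      rw [hc'.mul_pow, inv_pow, hx, hcp, inv_one, one_mul]
    have hc1 : x⁻¹ * (g * x * g⁻¹) = 1 := by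
      obtain ⟨j, hj⟩ := hR ⟨_, hcR⟩
      have hj' : (x⁻¹ * (g * x * g⁻¹)) ^ q ^ j = 1 := by
        have := congrArg Subtype.val hj
        rwa [Subgroup.coe_pow, Subgroup.coe_one] at this
      have h1 : orderOf (x⁻¹ * (g * x * g⁻¹)) ∣ p := orderOf_dvd_of_pow_eq_one hcp'
      have h2 : orderOf (x⁻¹ * (g * x * g⁻¹)) ∣ q ^ j := orderOf_dvd_of_pow_eq_one hj'
      have h3 : Nat.Coprime p (q ^ j) :=
        Nat.Coprime.pow_right j ((Nat.coprime_primes hpp hq).mpr (Ne.symm hqp))
      have h4 := Nat.Coprime.eq_one_of_dvd (Nat.Coprime.coprime_dvd_left h1 h3) h2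
      exact orderOf_eq_one_iff.mp h4
    have h5 : g * x * g⁻¹ = x := by
      have := congrArg (fun t => x * t) hc1
      simpa using this
    calc g * x = (g * x * g⁻¹) * g := by group
      _ = x * g := by rw [h5]

/-- **Core theorem**: two non-commuting elements of order `p` of `SL₂` over a finite field of odd
characteristic `p` generating a `p`-solvable group force `p = 3` and a section `SL₂(3)`. -/
theorem sl2_core {K : Type*} [Field K] [Finite K] (p : ℕ) [Fact p.Prime] [CharP K p]
    (hp : p ≠ 2) (x y : SL₂(K)) (hx : x ^ p = 1) (hy : y ^ p = 1) (hxy : x * y ≠ y * x)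
    (hsol : IsPSolvable p ↥(Subgroup.closure ({x, y} : Set SL₂(K)))) :
    p = 3 ∧ ∃ (L K' : Subgroup SL₂(K)) (_ : (K'.subgroupOf L).Normal),
      L ≤ Subgroup.closure ({x, y} : Set SL₂(K)) ∧
      Nonempty ((L ⧸ K'.subgroupOf L) ≃* Matrix.SpecialLinearGroup (Fin 2) (ZMod 3)) := by
  haveI : Finite SL₂(K) := by
    unfold Matrix.SpecialLinearGroup
    infer_instance
  have hOp := sl2_pCore_closure_eq_bot p hp x y hx hy hxy
  set X := Subgroup.closure ({x, y} : Set SL₂(K)) with hX
  have hxX : x ∈ X := Subgroup.subset_closure (by simp)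
  have hx1 : (⟨x, hxX⟩ : X) ≠ 1 := by
    intro h
    have h' : x = 1 := congrArg Subtype.val h
    apply hxy
    rw [h', one_mul, mul_one]
  have hxp : (⟨x, hxX⟩ : X) ^ p ^ 1 = 1 :=
    Subtype.ext (by rw [pow_one, Subgroup.coe_pow]; exact hx)
  obtain ⟨q, hq, R, hqp, hRq, hN, hC⟩ :=
    exists_normalized_not_centralized hsol hOp ⟨x, hxX⟩ hxp hx1
  have hN' : x ∈ Subgroup.normalizer ((R.map X.subtype : Subgroup SL₂(K)) : Set SL₂(K)) :=
    Subgroup.le_normalizer_map X.subtype ⟨⟨x, hxX⟩, hN, rfl⟩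
  have hC' : x ∉ Subgroup.centralizer ((R.map X.subtype : Subgroup SL₂(K)) : Set SL₂(K)) := by
    intro h
    apply hC
    rw [Subgroup.mem_centralizer_iff] at h ⊢
    intro r hr
    exact Subtype.ext (h r ⟨r, hr, rfl⟩)
  obtain ⟨hp3, L, K', hK', hL, he⟩ :=
    sl2_section_of_normalized p hp x hx q hq hqp (R.map X.subtype) (hRq.map _) hN' hC'
  refine ⟨hp3, L, K', hK', hL.trans ?_, he⟩
  apply sup_le
  · exact Subgroup.map_subtype_le R
  · rw [Subgroup.zpowers_le]
    exact hxX

end Cfsg.Agent.Lib.Helper11
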