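import Mathlib
import Cfsg.Prelude.Def_Local
import Cfsg.Agent.Lib.Helper11.SL2PSolv

/-!
# A `p`-element of `SL₂` normalizing a `p'`-subgroup

For a finite field of odd characteristic `p`, an element `a` of order `p` of `SL₂` normalizing
but not centralizing a `p'`-subgroup `R` forces `p = 3`, `R ≃ Q₈` and `R⟨a⟩ ≃ SL₂(3)`.
-/

set_option autoImplicit false
open scoped commutatorElement

namespace Cfsg.Agent.Lib.Helper11

open Cfsg

local notation "SL₂(" K ")" => Matrix.SpecialLinearGroup (Fin 2) K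

/-- An element of `SL₂` commuting with a nontrivial `p`-element has order dividing `2p`. -/
theorem sl2_pow_of_commute_pElement {K : Type*} [Field K] (p : ℕ) [Fact p.Prime] [CharP K p]
    (hp : p ≠ 2) (a g : SL₂(K)) {k : ℕ} (ha : a ^ p ^ k = 1) (ha1 : a ≠ 1)
    (hc : g * a = a * g) : g ^ (2 * p) = 1 := by
  have hns := sl2_not_scalar_of_pElement p hp a ha ha1
  have hta : a.1.trace = 2 := by
    apply Cfsg.Agent.Lib.Helper41.trace_of_pow_char_pow p (k := k)
    rw [← Matrix.SpecialLinearGroup.coe_pow, ha, Matrix.SpecialLinearGroup.coe_one]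
  have hc' : g.1 * a.1 = a.1 * g.1 := by
    rw [← Matrix.SpecialLinearGroup.coe_mul, hc, Matrix.SpecialLinearGroup.coe_mul]
  obtain ⟨⟨s, t⟩, hst⟩ := Cfsg.Agent.Lib.Helper41.comm_form hns hc'
  simp only at hst
  have hda := Cfsg.Agent.Lib.Helper41.sl2_det_entries a
  rw [Matrix.trace_fin_two] at hta
  have hdg := Cfsg.Agent.Lib.Helper41.sl2_det_entries g
  have e00 : g.1 0 0 = s + t * a.1 0 0 := by
    rw [hst, Cfsg.Agent.Lib.Helper41.scalar_eq]; simp
  have e01 : g.1 0 1 = t * a.1 0 1 := by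
    rw [hst, Cfsg.Agent.Lib.Helper41.scalar_eq]; simp
  have e10 : g.1 1 0 = t * a.1 1 0 := by
    rw [hst, Cfsg.Agent.Lib.Helper41.scalar_eq]; simp
  have e11 : g.1 1 1 = s + t * a.1 1 1 := by
    rw [hst, Cfsg.Agent.Lib.Helper41.scalar_eq]; simp
  rw [e00, e01, e10, e11] at hdg
  have he : (s + t) * (s + t) = 1 := by
    linear_combination hdg - s * t * hta - t * t * hda
  have htg : g.1.trace = 2 * (s + t) := by
    rw [Matrix.trace_fin_two, e00, e11]
    linear_combination t * hta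
  apply Cfsg.Agent.Lib.Helper41.pow_two_mul_char_of_trace_sq p g
  rw [htg]
  linear_combination 4 * he

/-- An element of order `p` of `SL₂` (odd characteristic `p`) normalizing a `q`-subgroup with
`q` odd and different from `p` centralizes it. -/
theorem sl2_centralizes_of_odd {K : Type*} [Field K] [Finite K] (p : ℕ) [Fact p.Prime]
    [CharP K p] (hp : p ≠ 2) (x : SL₂(K)) (hx : x ^ p = 1) (q : ℕ) (hq : q.Prime) (hqp : q ≠ p)
    (hq2 : q ≠ 2) (R : Subgroup SL₂(K)) (hR : IsPGroup q R)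
    (hxN : x ∈ Subgroup.normalizer (R : Set SL₂(K))) :
    x ∈ Subgroup.centralizer (R : Set SL₂(K)) := by
  have hpp : p.Prime := Fact.out
  haveI : Finite SL₂(K) := by
    unfold Matrix.SpecialLinearGroup
    infer_instance
  have hordx : orderOf x ∣ p := orderOf_dvd_of_pow_eq_one hx
  have hoddx : Odd (orderOf x) := by
    rcases (Nat.dvd_prime hpp).mp hordx with h | h
    · rw [h]; exact odd_one
    · rw [h]; exact hpp.odd_of_ne_two hp
  have hqodd : Odd q := hq.odd_of_ne_two hq2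
  set Y := R ⊔ Subgroup.zpowers x with hY
  have hodd : Odd (Nat.card Y) := by
    have h1 := Cfsg.Agent.Lib.Helper91.card_sup_mul_card_inf_of_le_normalizer R
      (Subgroup.zpowers x) (by rw [Subgroup.zpowers_le]; exact hxN)
    have h2 : Nat.card Y ∣ Nat.card R * Nat.card (Subgroup.zpowers x) := Dvd.intro _ h1
    haveI : Fact q.Prime := ⟨hq⟩
    obtain ⟨j, hj⟩ := IsPGroup.iff_card.mp hR
    rw [hj, Nat.card_zpowers] at h2
    have h3 : Odd (q ^ j * orderOf x) := (hqodd.pow).mul hoddx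
    exact h3.of_dvd_nat h2
  have hxY : x ∈ Y := Subgroup.mem_sup_right (Subgroup.mem_zpowers x)
  have htx : x.1.trace = 2 := by
    apply Cfsg.Agent.Lib.Helper41.trace_of_pow_char_pow p (k := 1)
    rw [pow_one, ← Matrix.SpecialLinearGroup.coe_pow, hx, Matrix.SpecialLinearGroup.coe_one]
  rw [Subgroup.mem_centralizer_iff]
  intro g hg
  have hgY : g ∈ Y := Subgroup.mem_sup_left hg
  have hcY : g * x * g⁻¹ ∈ Y := Y.mul_mem (Y.mul_mem hgY hxY) (Y.inv_mem hgY)
  have hcp : (g * x * g⁻¹) ^ p = 1 := by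
    rw [conj_pow, hx, mul_one, mul_inv_cancel]
  have htc : (g * x * g⁻¹).1.trace = 2 := by
    apply Cfsg.Agent.Lib.Helper41.trace_of_pow_char_pow p (k := 1)
    rw [pow_one, ← Matrix.SpecialLinearGroup.coe_pow, hcp, Matrix.SpecialLinearGroup.coe_one]
  have hcomm := Cfsg.Agent.Lib.Helper41.odd_order_unipotent_commute p hp (Nat.card Y) Y rfl
    inferInstance hodd x hxY (g * x * g⁻¹) hcY htx htc
  have hcR : x⁻¹ * (g * x * g⁻¹) ∈ R := by
    have h1 : x⁻¹ * g * x⁻¹⁻¹ ∈ R :=
      (Subgroup.mem_normalizer_iff.mp (Subgroup.inv_mem _ hxN) g).mp hg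
    have h2 : x⁻¹ * (g * x * g⁻¹) = (x⁻¹ * g * x⁻¹⁻¹) * g⁻¹ := by group
    rw [h2]
    exact R.mul_mem h1 (R.inv_mem hg)
  have hcp' : (x⁻¹ * (g * x * g⁻¹)) ^ p = 1 := by
    have hc' : Commute x⁻¹ (g * x * g⁻¹) :=
      Commute.inv_left (show Commute x (g * x * g⁻¹) from hcomm)
    rw [hc'.mul_pow, inv_pow, hx, hcp, inv_one, one_mul]
  have hc1 : x⁻¹ * (g * x * g⁻¹) = 1 := by
    obtain ⟨j, hj⟩ := hR ⟨_, hcR⟩
    have hj' : (x⁻¹ * (g * x * g⁻¹)) ^ q ^ j = 1 := by
      have := congrArg Subtype.val hj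
      rwa [Subgroup.coe_pow, Subgroup.coe_one] at this
    have h1 : orderOf (x⁻¹ * (g * x * g⁻¹)) ∣ p := orderOf_dvd_of_pow_eq_one hcp'
    have h2 : orderOf (x⁻¹ * (g * x * g⁻¹)) ∣ q ^ j := orderOf_dvd_of_pow_eq_one hj'
    have h3 : Nat.Coprime p (q ^ j) :=
      Nat.Coprime.pow_right j ((Nat.coprime_primes hpp hq).mpr (Ne.symm hqp))
    have h4 := Nat.Coprime.eq_one_of_dvd (Nat.Coprime.coprime_dvd_left h1 h3) h2
    exact orderOf_eq_one_iff.mp h4
  have h5 : g * x * g⁻¹ = x := by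
    have := congrArg (fun t => x * t) hc1
    simpa using this
  calc g * x = (g * x * g⁻¹) * g := by group
    _ = x * g := by rw [h5]

/-- An element of order `p` of `SL₂` (odd characteristic `p`) normalizing but not centralizing a
`2`-subgroup `R` forces `p = 3` and `R ≃ Q₈`. -/
theorem sl2_q8_of_two_group {K : Type*} [Field K] [Finite K] (p : ℕ) [Fact p.Prime]
    [CharP K p] (hp : p ≠ 2) (x : SL₂(K)) (hx : x ^ p = 1)
    (R : Subgroup SL₂(K)) (hR : IsPGroup 2 R)
    (hxN : x ∈ Subgroup.normalizer (R : Set SL₂(K)))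
    (hxC : x ∉ Subgroup.centralizer (R : Set SL₂(K))) :
    p = 3 ∧ Nonempty (R ≃* QuaternionGroup 2) := by
  have hpp : p.Prime := Fact.out
  haveI : Finite SL₂(K) := by
    unfold Matrix.SpecialLinearGroup
    infer_instance
  have hK2 := sl2_two_ne_zero (K := K) p hp
  have hordx : orderOf x ∣ p := orderOf_dvd_of_pow_eq_one hx
  have hoddx : Odd (orderOf x) := by
    rcases (Nat.dvd_prime hpp).mp hordx with h | h
    · rw [h]; exact odd_one
    · rw [h]; exact hpp.odd_of_ne_two hp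
  have hcop2 : (orderOf x).Coprime 2 := Nat.Coprime.symm (Nat.coprime_two_left.mpr hoddx)
  have h1 : ∀ s t : R, orderOf s = 2 → orderOf t = 2 → s = t := by
    intro s t hs ht
    apply Subtype.ext
    apply sl2_involution_unique hK2
    · rw [Subgroup.orderOf_coe]; exact hs
    · rw [Subgroup.orderOf_coe]; exact ht
  rcases cyclic_or_quaternion_of_unique_involution hR h1 with hcyc | ⟨n, ⟨e⟩⟩
  · exact absurd
      (Cfsg.Agent.Lib.Helper1.mem_centralizer_of_cyclic_two_group R hcyc hR x hxN hcop2) hxC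
  · rcases Nat.lt_or_ge n 2 with hn | hn
    · interval_cases n
      · exfalso
        rw [pow_zero] at e
        haveI := QuaternionGroup.quaternionGroup_one_isCyclic
        have hcyc : IsCyclic R := isCyclic_of_surjective e.symm e.symm.surjective
        exact hxC
          (Cfsg.Agent.Lib.Helper1.mem_centralizer_of_cyclic_two_group R hcyc hR x hxN hcop2)
      · rw [pow_one] at e
        refine ⟨?_, ⟨e⟩⟩
        have hyN : ∀ h ∈ R, x * h * x⁻¹ ∈ R :=
          fun h hh => (Subgroup.mem_normalizer_iff.mp hxN h).mp hh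
        by_contra hp3
        have h3 := Cfsg.Agent.Lib.Helper95.SL23.cube_centralizes R e x hyN hoddx
        have hcop : Nat.Coprime 3 p := by
          rw [Nat.coprime_primes Nat.prime_three hpp]
          exact fun h => hp3 h.symm
        obtain ⟨m, -, hm⟩ := Nat.exists_mul_mod_eq_one_of_coprime hcop hpp.one_lt
        have hxm : x = (x ^ 3) ^ m := by
          rw [← pow_mul, pow_eq_pow_mod (3 * m) hx, hm, pow_one]
        have hc3 : x ^ 3 ∈ Subgroup.centralizer (R : Set SL₂(K)) := by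
          rw [Subgroup.mem_centralizer_iff]
          intro h' hh'
          have := h3 h' hh'
          rw [mul_inv_eq_iff_eq_mul] at this
          exact this.symm
        have hcx : x ∈ Subgroup.centralizer (R : Set SL₂(K)) := by
          rw [hxm]
          exact Subgroup.pow_mem _ hc3 m
        exact hxC hcx
    · exfalso
      have hM : 4 ≤ 2 ^ n := by
        calc 4 = 2 ^ 2 := by norm_num
          _ ≤ 2 ^ n := Nat.pow_le_pow_right (by norm_num) hn
      exact hxC (Cfsg.Agent.Lib.Helper1.mem_centralizer_of_quaternion_large R hR (2 ^ n) hM e x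
        hxN hcop2)

/-- **A `p`-element of `SL₂` normalizing a `p'`-subgroup**: if `a ^ p = 1`, `a` normalizes but
does not centralize the `p'`-subgroup `R`, then `p = 3`, `R ≃ Q₈` and `R⟨a⟩ ≃ SL₂(3)`. -/
theorem sl2_normalized_pPrime {K : Type*} [Field K] [Finite K] (p : ℕ) [Fact p.Prime]
    [CharP K p] (hp : p ≠ 2) (a : SL₂(K)) (ha : a ^ p = 1) (R : Subgroup SL₂(K))
    (hR : (Nat.card R).Coprime p) (haN : a ∈ Subgroup.normalizer (R : Set SL₂(K)))
    (haC : a ∉ Subgroup.centralizer (R : Set SL₂(K))) :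
    p = 3 ∧ Nonempty (R ≃* QuaternionGroup 2) ∧
      Nonempty (↥(R ⊔ Subgroup.zpowers a) ≃* Matrix.SpecialLinearGroup (Fin 2) (ZMod 3)) := by
  have hpp : p.Prime := Fact.out
  haveI : Finite SL₂(K) := by
    unfold Matrix.SpecialLinearGroup
    infer_instance
  have ha1 : a ≠ 1 := by
    rintro rfl
    exact haC (Subgroup.one_mem _)
  have hap : a ^ p ^ 1 = 1 := by rw [pow_one]; exact ha
  have hU : IsPGroup p (Subgroup.zpowers a) := isPGroup_zpowers_of_pow a hap
  have hRp : ¬ p ∣ Nat.card R := by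
    rw [← Nat.Prime.coprime_iff_not_dvd hpp]
    exact hR.symm
  have hUR : Subgroup.zpowers a ≤ Subgroup.normalizer (R : Set SL₂(K)) := by
    rw [Subgroup.zpowers_le]
    exact haN
  -- odd Sylow subgroups of `R` are trivial
  have hodd : ∀ q : ℕ, q.Prime → q ≠ 2 → ¬ q ∣ Nat.card R := by
    intro q hq hq2 hdvd
    haveI : Fact q.Prime := ⟨hq⟩
    obtain ⟨Q', hQ'⟩ := Cfsg.Agent.Lib.Helper48.exists_invariant_sylow R (Subgroup.zpowers a)
      hU hRp hUR q
    have hqp : q ≠ p := by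
      rintro rfl
      exact hRp hdvd
    have hQq : IsPGroup q ((Q' : Subgroup R).map R.subtype) := Q'.isPGroup'.map _
    have hcen := sl2_centralizes_of_odd p hp a ha q hq hqp hq2 _ hQq
      (hQ' (Subgroup.mem_zpowers a))
    apply Q'.ne_bot_of_dvd_card hdvd
    rw [eq_bot_iff]
    intro g hg
    rw [Subgroup.mem_bot]
    have hgR : (g : SL₂(K)) ∈ (Q' : Subgroup R).map R.subtype := ⟨g, hg, rfl⟩
    have hcg : (g : SL₂(K)) * a = a * (g : SL₂(K)) :=
      Subgroup.mem_centralizer_iff.mp hcen _ hgR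
    have h2p := sl2_pow_of_commute_pElement p hp a (g : SL₂(K)) hap ha1 hcg
    obtain ⟨j, hj⟩ := Q'.isPGroup' ⟨g, hg⟩
    have hj' : (g : SL₂(K)) ^ q ^ j = 1 := by
      have := congrArg (fun t : (Q' : Subgroup R) => ((t : R) : SL₂(K))) hj
      simpa using this
    have h1 : orderOf (g : SL₂(K)) ∣ 2 * p := orderOf_dvd_of_pow_eq_one h2p
    have h2 : orderOf (g : SL₂(K)) ∣ q ^ j := orderOf_dvd_of_pow_eq_one hj'
    have h3 : Nat.Coprime (2 * p) (q ^ j) := by
      apply Nat.Coprime.pow_right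
      apply Nat.Coprime.mul_left
      · exact (Nat.coprime_primes Nat.prime_two hq).mpr (Ne.symm hq2)
      · exact (Nat.coprime_primes hpp hq).mpr (Ne.symm hqp)
    have h4 := Nat.Coprime.eq_one_of_dvd (Nat.Coprime.coprime_dvd_left h1 h3) h2
    have h5 : (g : SL₂(K)) = 1 := orderOf_eq_one_iff.mp h4
    exact Subtype.ext h5
  have hR2 : IsPGroup 2 R := by
    have hne : Nat.card R ≠ 0 := Nat.card_pos.ne'
    have := Nat.eq_prime_pow_of_unique_prime_dvd hne (p := 2) (fun {d} hd hdvd => by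
      by_contra h2
      exact hodd d hd h2 hdvd)
    exact IsPGroup.of_card this
  obtain ⟨hp3, ⟨e⟩⟩ := sl2_q8_of_two_group p hp a ha R hR2 haN haC
  refine ⟨hp3, ⟨e⟩, ?_⟩
  -- recognition inside `X = R ⊔ ⟨a⟩`
  set X := R ⊔ Subgroup.zpowers a with hX
  have hRX : R ≤ X := le_sup_left
  have haX : a ∈ X := Subgroup.mem_sup_right (Subgroup.mem_zpowers a)
  let e' : (R.subgroupOf X) ≃* QuaternionGroup 2 := (Subgroup.subgroupOfEquivOfLe hRX).trans e
  apply Cfsg.Agent.Lib.Helper95.SL23.nonempty_mulEquiv_SL23 (R.subgroupOf X) e' (⟨a, haX⟩ : X)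
  · apply Subtype.ext
    rw [Subgroup.coe_pow, Subgroup.coe_one, ← hp3]
    exact ha
  · intro h hh
    rw [Subgroup.mem_subgroupOf] at hh ⊢
    exact (Subgroup.mem_normalizer_iff.mp haN _).mp hh
  · by_contra hcon
    push Not at hcon
    apply haC
    rw [Subgroup.mem_centralizer_iff]
    intro r hr
    have h1 := hcon ⟨r, hRX hr⟩ (Subgroup.mem_subgroupOf.mpr hr)
    have h2 : a * r * a⁻¹ = r := congrArg Subtype.val h1
    rw [mul_inv_eq_iff_eq_mul] at h2
    exact h2.symm
  · rw [eq_top_iff]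
    rintro ⟨y, hy⟩ -
    have hle : X ≤ ((R.subgroupOf X) ⊔ Subgroup.zpowers (⟨a, haX⟩ : X)).map X.subtype := by
      rw [Subgroup.map_sup, Subgroup.subgroupOf_map_subtype, MonoidHom.map_zpowers]
      apply sup_le
      · exact le_sup_of_le_left (le_inf le_rfl hRX)
      · exact le_sup_right
    obtain ⟨z, hz, hzy⟩ := hle hy
    have : z = ⟨y, hy⟩ := Subtype.ext hzy
    rw [← this]
    exact hz

end Cfsg.Agent.Lib.Helper11
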