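import Mathlib
import Cfsg.Agent.Lib.Helper11.FFDich
import Cfsg.Agent.Lib.Helper11.QuadLin
import Cfsg.Agent.Lib.Helper11.QuadStable
import Cfsg.Agent.Lib.Helper11.SL2Normalized

/-!
The subgroup `E = [K, a]⟨a⟩` of a transvection is isomorphic to `SL₂(p)` and `p ∈ {2, 3}`.
-/

set_option autoImplicit false

namespace Cfsg.Agent.Lib.Helper11.FF

open scoped commutatorElement
open Cfsg.Agent.Lib.Helper47 Cfsg.Agent.Lib.Helper34

/-- a group generated by elements of order `p` acting on an elementary abelian group of order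
`p²` maps to `SL₂(p)`, injectively on the image of the action. -/
theorem exists_sl2_hom_of_card_sq {p : ℕ} [Fact p.Prime] {A : Type*} [CommGroup A] [Finite A]
    (hA : ∀ x : A, x ^ p = 1) (hcard : Nat.card A = p ^ 2) {E : Type*} [Group E]
    (ρ : E →* MulAut A)
    (hgen : ∀ N : Subgroup E, (∀ g : E, g ^ p = 1 → g ∈ N) → N = ⊤) :
    ∃ φ : E →* Matrix.SpecialLinearGroup (Fin 2) (ZMod p), ∀ h, φ h = 1 → ρ h = 1 := by
  have hpp : p.Prime := Fact.out
  letI : Module (ZMod p) (Additive A) :=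
    AddCommGroup.zmodModule (n := p) (fun x => congrArg Additive.ofMul (hA x.toMul))
  have hU : Module.finrank (ZMod p) (Additive A) = 2 := by
    haveI : Fintype (Additive A) := Fintype.ofFinite _
    have h1 := Module.card_eq_pow_finrank (K := ZMod p) (V := Additive A)
    rw [ZMod.card, ← Nat.card_eq_fintype_card] at h1
    have h2 : Nat.card (Additive A) = Nat.card A := rfl
    rw [h2, hcard] at h1
    exact (Nat.pow_right_injective hpp.two_le h1).symm
  have hdet : ∀ h, LinearEquiv.det (((Cfsg.Agent.Lib.Helper11.linHom p A).comp ρ) h) = 1 := by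
    have hker := hgen ((LinearEquiv.det.comp ((Cfsg.Agent.Lib.Helper11.linHom p A).comp ρ)).ker) (by
      intro g hg
      rw [MonoidHom.mem_ker]
      apply Cfsg.Agent.Lib.Helper11.unit_eq_one_of_pow_char (p := p)
      rw [← map_pow, hg, map_one])
    intro h
    have : h ∈ (LinearEquiv.det.comp ((Cfsg.Agent.Lib.Helper11.linHom p A).comp ρ)).ker := by
      rw [hker]; exact Subgroup.mem_top h
    exact MonoidHom.mem_ker.mp this
  obtain ⟨φ, hφ⟩ := Cfsg.Agent.Lib.Helper11.exists_sl2_hom_of_finrank_two hU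
    ((Cfsg.Agent.Lib.Helper11.linHom p A).comp ρ) hdet
  refine ⟨φ, fun h hh => ?_⟩
  apply Cfsg.Agent.Lib.Helper11.linHom_injective p A
  rw [map_one]
  exact hφ h hh

variable {G : Type*} [Group G]

section sl2

variable [Finite G] {p : ℕ} [Fact p.Prime] {V H K : Subgroup G} {a : G}

theorem IsTransv.EE_le_normalizer_spn (hs : Setup p V H K) (ht : IsTransv p V H a) :
    EE K a ≤ Subgroup.normalizer ((spn V K a : Subgroup G) : Set G) := by
  apply EE_le_of_conj_mem
  intro x hx
  have hx' := ht.mem_normalizer_spn_of_mem_K hs hx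
  have ha' := ht.mem_normalizer_spn_of_commute hs ht.mem rfl
  exact Subgroup.mul_mem _ (Subgroup.mul_mem _ hx' ha') (Subgroup.inv_mem _ hx')

theorem IsTransv.exists_sl2_hom (hs : Setup p V H K) (ht : IsTransv p V H a)
    (hna : ∃ x ∈ K, x * a ≠ a * x) :
    ∃ φ : ↥(EE K a) →* Matrix.SpecialLinearGroup (Fin 2) (ZMod p), Function.Injective φ := by
  have hSV := spn_le hs ht.mem (K := K)
  have hES := ht.EE_le_normalizer_spn hs
  letI : CommGroup (spn V K a) :=
    { (inferInstance : Group (spn V K a)) with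
      mul_comm := fun x y => Subtype.ext (hs.comm _ (hSV x.2) _ (hSV y.2)) }
  have hexp : ∀ x : spn V K a, x ^ p = 1 := fun x => Subtype.ext (by
    rw [Subgroup.coe_pow]; exact hs.exp _ (hSV x.2))
  have hgen : ∀ N : Subgroup ↥(EE K a), (∀ g : ↥(EE K a), g ^ p = 1 → g ∈ N) → N = ⊤ := by
    intro N hN
    have h1 : EE K a ≤ N.map (EE K a).subtype := by
      apply EE_le_of_conj_mem
      intro x hx
      refine ⟨⟨x * a * x⁻¹, conj_mem_EE hx⟩, hN _ ?_, rfl⟩
      apply Subtype.ext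
      rw [Subgroup.coe_pow]
      show (x * a * x⁻¹) ^ p = 1
      rw [conj_pow, ht.pow]; group
    rw [eq_top_iff]
    intro g _
    obtain ⟨n, hn, hng⟩ := h1 g.2
    have : n = g := Subtype.ext hng
    rw [← this]; exact hn
  obtain ⟨φ, hφ⟩ := exists_sl2_hom_of_card_sq hexp (ht.card_spn hs hna)
    ((spn V K a).normalizerMonoidHom.comp (Subgroup.inclusion hES)) hgen
  refine ⟨φ, (injective_iff_map_eq_one φ).mpr fun h hh => ?_⟩
  have h1 := hφ h hh
  have h2 : (h : G) ∈ EE K a ⊓ Subgroup.centralizer (spn V K a : Set G) := by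
    refine ⟨h.2, ?_⟩
    show (h : G) ∈ Subgroup.centralizer (spn V K a : Set G)
    rw [Subgroup.mem_centralizer_iff]
    intro s hs'
    have h3 : (((spn V K a).normalizerMonoidHom.comp (Subgroup.inclusion hES)) h ⟨s, hs'⟩ :
        spn V K a) = ⟨s, hs'⟩ := by rw [h1]; rfl
    have h4 : (h : G) * s * (h : G)⁻¹ = s := congrArg Subtype.val h3
    calc s * (h : G) = (h : G) * s * (h : G)⁻¹ * (h : G) := by rw [h4]
      _ = (h : G) * s := by group
  rw [ht.EE_inf_centralizer_spn hs hna, Subgroup.mem_bot] at h2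
  exact Subtype.ext h2

theorem IsTransv.not_commute_QQ (hs : Setup p V H K) (ht : IsTransv p V H a)
    (hna : ∃ x ∈ K, x * a ≠ a * x) : ¬ ∀ q ∈ QQ K a, q * a = a * q := by
  have h := ht.not_forall_commute hs hna K.one_mem
  simpa using h

theorem IsTransv.QQ_inf_zpowers (hs : Setup p V H K) (ht : IsTransv p V H a) :
    QQ K a ⊓ Subgroup.zpowers a = ⊥ := by
  rw [eq_bot_iff]
  rintro x ⟨hx1, hx2⟩
  rw [Subgroup.mem_bot]
  apply hs.eq_one_of_pow (QQ_le_K hs ht.mem hx1)
  obtain ⟨i, rfl⟩ := Subgroup.mem_zpowers_iff.mp hx2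
  rw [← zpow_natCast, ← zpow_mul, mul_comm, zpow_mul, zpow_natCast, ht.pow, one_zpow]

theorem IsTransv.card_EE (hs : Setup p V H K) (ht : IsTransv p V H a) :
    Nat.card (EE K a) = Nat.card (QQ K a) * p := by
  have h1 := Cfsg.Agent.Lib.Helper91.card_sup_mul_card_inf_of_le_normalizer (QQ K a)
    (Subgroup.zpowers a) (Subgroup.zpowers_le.mpr ht.mem_normalizer_QQ)
  rw [ht.QQ_inf_zpowers hs, Subgroup.card_bot, mul_one, Nat.card_zpowers,
    orderOf_eq_prime ht.pow ht.ne_one] at h1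
  exact h1

theorem IsTransv.sup_subgroupOf_eq_top (ht : IsTransv p V H a) :
    (QQ K a).subgroupOf (EE K a) ⊔ Subgroup.zpowers (⟨a, self_mem_EE⟩ : ↥(EE K a)) = ⊤ := by
  have _ := ht
  rw [eq_top_iff]
  intro g _
  have h1 : ((QQ K a).subgroupOf (EE K a) ⊔
      Subgroup.zpowers (⟨a, self_mem_EE⟩ : ↥(EE K a))).map (EE K a).subtype = EE K a := by
    rw [Subgroup.map_sup, Subgroup.map_subgroupOf_eq_of_le QQ_le_EE, MonoidHom.map_zpowers]
    rfl
  have h2 : (g : G) ∈ ((QQ K a).subgroupOf (EE K a) ⊔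
      Subgroup.zpowers (⟨a, self_mem_EE⟩ : ↥(EE K a))).map (EE K a).subtype := by
    rw [h1]; exact g.2
  obtain ⟨t, ht', htg⟩ := h2
  have : t = g := Subtype.ext htg
  rw [← this]; exact ht'

/-- **`E ≅ SL₂(p)` and `p ∈ {2, 3}`.** -/
theorem IsTransv.EE_iso (hs : Setup p V H K) (ht : IsTransv p V H a)
    (hna : ∃ x ∈ K, x * a ≠ a * x) :
    (p = 2 ∨ p = 3) ∧ Nonempty (↥(EE K a) ≃* Matrix.SpecialLinearGroup (Fin 2) (ZMod p)) ∧
      (p = 2 → IsPGroup 3 ↥(QQ K a)) ∧
      (p = 3 → IsPGroup 2 ↥(QQ K a) ∧ ¬ IsMulCommutative ↥(QQ K a)) := by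
  have hpp : p.Prime := Fact.out
  obtain ⟨φ, hφ⟩ := ht.exists_sl2_hom hs hna
  have hQa := ht.not_commute_QQ hs hna
  have hcardE := ht.card_EE hs
  by_cases hp2 : p = 2
  · subst hp2
    have hQ1 : QQ K a ≠ ⊥ := by
      intro h
      apply hQa
      intro q hq
      rw [h, Subgroup.mem_bot] at hq
      rw [hq]; simp
    have hQ2 : 1 < Nat.card (QQ K a) := (Subgroup.one_lt_card_iff_ne_bot _).mpr hQ1
    have hQodd : (Nat.card (QQ K a)).Coprime 2 :=
      Nat.Coprime.coprime_dvd_left (Subgroup.card_dvd_of_le (QQ_le_K hs ht.mem)) hs.Kcop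
    have hQ3 : 3 ≤ Nat.card (QQ K a) := by
      rcases Nat.lt_or_ge 2 (Nat.card (QQ K a)) with h | h
      · exact h
      · exfalso
        have h2 : Nat.card (QQ K a) = 2 := by omega
        rw [h2] at hQodd
        exact absurd hQodd (by decide)
    have hSL : Nat.card (Matrix.SpecialLinearGroup (Fin 2) (ZMod 2)) = 6 := by
      rw [Nat.card_eq_fintype_card]; decide
    haveI : Finite (Matrix.SpecialLinearGroup (Fin 2) (ZMod 2)) := Nat.finite_of_card_ne_zero (by rw [hSL]; norm_num)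
    have hle : Nat.card (EE K a) ≤ 6 := by
      rw [← hSL]; exact Nat.card_le_card_of_injective φ hφ
    have hE6 : Nat.card (EE K a) = 6 := by omega
    have hbij : Function.Bijective φ :=
      (Nat.bijective_iff_injective_and_card φ).mpr ⟨hφ, by rw [hE6, hSL]⟩
    refine ⟨Or.inl rfl, ⟨MulEquiv.ofBijective φ hbij⟩, fun _ => ?_, fun h => absurd h (by decide)⟩
    have hQc : Nat.card (QQ K a) = 3 ^ 1 := by omega
    exact IsPGroup.of_card hQc
  · have ha' : (φ ⟨a, self_mem_EE⟩) ^ p = 1 := by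
      rw [← map_pow]
      have : (⟨a, self_mem_EE⟩ : ↥(EE K a)) ^ p = 1 := Subtype.ext (by
        rw [Subgroup.coe_pow]; exact ht.pow)
      rw [this, map_one]
    have hRcard : Nat.card (((QQ K a).subgroupOf (EE K a)).map φ) = Nat.card (QQ K a) := by
      rw [Subgroup.card_map_of_injective hφ]
      exact Nat.card_congr (Subgroup.subgroupOfEquivOfLe QQ_le_EE).toEquiv
    have hR : (Nat.card (((QQ K a).subgroupOf (EE K a)).map φ)).Coprime p := by
      rw [hRcard]
      exact Nat.Coprime.coprime_dvd_left (Subgroup.card_dvd_of_le (QQ_le_K hs ht.mem)) hs.Kcop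
    have haN : φ ⟨a, self_mem_EE⟩ ∈ Subgroup.normalizer
        ((((QQ K a).subgroupOf (EE K a)).map φ : Subgroup _) : Set _) := by
      apply Subgroup.le_normalizer_map φ
      refine ⟨_, ?_, rfl⟩
      show (⟨a, self_mem_EE⟩ : ↥(EE K a)) ∈ Subgroup.normalizer
        (((QQ K a).subgroupOf (EE K a) : Subgroup ↥(EE K a)) : Set ↥(EE K a))
      rw [Subgroup.mem_normalizer_iff]
      intro h
      rw [Subgroup.mem_subgroupOf, Subgroup.mem_subgroupOf]
      exact Subgroup.mem_normalizer_iff.mp ht.mem_normalizer_QQ (h : G)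
    have haC : φ ⟨a, self_mem_EE⟩ ∉ Subgroup.centralizer
        ((((QQ K a).subgroupOf (EE K a)).map φ : Subgroup _) : Set _) := by
      intro h
      apply hQa
      intro q hq
      have h1 : φ ⟨q, QQ_le_EE hq⟩ ∈ ((QQ K a).subgroupOf (EE K a)).map φ :=
        ⟨_, Subgroup.mem_subgroupOf.mpr hq, rfl⟩
      have h2 := Subgroup.mem_centralizer_iff.mp h _ h1
      rw [← map_mul, ← map_mul] at h2
      have h3 := hφ h2
      exact congrArg Subtype.val h3
    obtain ⟨hp3, ⟨eQ⟩, ⟨eE⟩⟩ := Cfsg.Agent.Lib.Helper11.sl2_normalized_pPrime p hp2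
      (φ ⟨a, self_mem_EE⟩) ha' (((QQ K a).subgroupOf (EE K a)).map φ) hR haN haC
    subst hp3
    have hrange : ((QQ K a).subgroupOf (EE K a)).map φ ⊔ Subgroup.zpowers (φ ⟨a, self_mem_EE⟩) =
        φ.range := by
      rw [← MonoidHom.map_zpowers, ← Subgroup.map_sup, ht.sup_subgroupOf_eq_top,
        MonoidHom.range_eq_map]
    have e1 : ↥(EE K a) ≃* Matrix.SpecialLinearGroup (Fin 2) (ZMod 3) :=
      ((MonoidHom.ofInjective hφ).trans (MulEquiv.subgroupCongr hrange.symm)).trans eE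
    have e2 : ↥(QQ K a) ≃* QuaternionGroup 2 :=
      ((Subgroup.subgroupOfEquivOfLe QQ_le_EE).symm.trans
        (((QQ K a).subgroupOf (EE K a)).equivMapOfInjective φ hφ)).trans eQ
    refine ⟨Or.inr rfl, ⟨e1⟩, fun h => absurd h (by decide), fun _ => ⟨?_, ?_⟩⟩
    · have hc : Nat.card (QQ K a) = 2 ^ 3 := by
        rw [Nat.card_congr e2.toEquiv, Nat.card_eq_fintype_card, QuaternionGroup.card]
        norm_num
      exact IsPGroup.of_card hc
    · intro hcomm
      have h1 : ∀ x y : QuaternionGroup 2, x * y = y * x := by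
        intro x y
        have := hcomm.is_comm.comm (e2.symm x) (e2.symm y)
        have h2 := congrArg e2 this
        simpa using h2
      exact absurd (h1 (QuaternionGroup.a 1) (QuaternionGroup.xa 0)) (by decide)

end sl2

end Cfsg.Agent.Lib.Helper11.FF
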