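import Mathlib
import Cfsg.Agent.Lib.Helper11.FFDecomp
import Cfsg.Agent.Lib.Helper11.FFSL2
import Cfsg.Agent.Lib.Helper25.Basic

/-!
Global structure for failure of factorization: when `H` is generated by its best offenders,
every `E_a = [K, a]⟨a⟩` is normal in `H`, is a direct factor, and `V` splits accordingly.
-/

set_option autoImplicit false

namespace Cfsg.Agent.Lib.Helper11.FF

open scoped commutatorElement
open Cfsg.Agent.Lib.Helper47 Cfsg.Agent.Lib.Helper34

variable {G : Type*} [Group G]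

section glob

variable [Finite G] {p : ℕ} [Fact p.Prime] {V H K : Subgroup G} {a : G}

/-- a subgroup containing all transvections contains `H`. -/
theorem le_of_transv_mem (hs : Setup p V H K) (hCK : H ⊓ Subgroup.centralizer (K : Set G) ≤ K)
    (hS3 : H = ⨆ A : {A : Subgroup G // A ≤ H ∧ Cfsg.IsBestOffenderOn p V A}, (A : Subgroup G))
    (T : Subgroup G) (h : ∀ b, IsTransv p V H b → b ∈ T) : H ≤ T := by
  refine hS3.le.trans (iSup_le ?_)
  rintro ⟨A, hAH, hA⟩
  refine (offender_le_iSup hs hCK _ A rfl hAH hA).trans (iSup_le ?_)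
  rintro ⟨C, hCA, hC⟩
  obtain ⟨c, rfl, hc⟩ := hC.exists_transv hs hCK (hCA.trans hAH)
  exact Subgroup.zpowers_le.mpr (h c hc)

theorem IsTransv.hna (hs : Setup p V H K) (hCK : H ⊓ Subgroup.centralizer (K : Set G) ≤ K)
    (ht : IsTransv p V H a) : ∃ x ∈ K, x * a ≠ a * x :=
  exists_not_commute hs hCK ht.mem ht.pow ht.ne_one

theorem IsTransv.le_normalizer_EE (hs : Setup p V H K)
    (hCK : H ⊓ Subgroup.centralizer (K : Set G) ≤ K)
    (hS3 : H = ⨆ A : {A : Subgroup G // A ≤ H ∧ Cfsg.IsBestOffenderOn p V A}, (A : Subgroup G))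
    (ht : IsTransv p V H a) : H ≤ Subgroup.normalizer ((EE K a : Subgroup G) : Set G) := by
  apply le_of_transv_mem hs hCK hS3
  intro b htb
  rcases htb.dichotomy hs ht (htb.hna hs hCK) (ht.hna hs hCK) with h | ⟨h, -, -⟩
  · exact Subgroup.le_normalizer (h ▸ (self_mem_EE : b ∈ EE K b))
  · exact Subgroup.centralizer_le_normalizer _ (h (self_mem_EE : b ∈ EE K b))

theorem IsTransv.le_EE_sup (hs : Setup p V H K)
    (hCK : H ⊓ Subgroup.centralizer (K : Set G) ≤ K)
    (hS3 : H = ⨆ A : {A : Subgroup G // A ≤ H ∧ Cfsg.IsBestOffenderOn p V A}, (A : Subgroup G))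
    (ht : IsTransv p V H a) :
    H ≤ EE K a ⊔ (H ⊓ Subgroup.centralizer ((spn V K a : Subgroup G) : Set G)) := by
  apply le_of_transv_mem hs hCK hS3
  intro b htb
  rcases htb.dichotomy hs ht (htb.hna hs hCK) (ht.hna hs hCK) with h | ⟨-, -, h⟩
  · exact (le_sup_left : EE K a ≤ _) (h ▸ (self_mem_EE : b ∈ EE K b))
  · refine (le_sup_right : (H ⊓ Subgroup.centralizer ((spn V K a : Subgroup G) : Set G)) ≤ _)
      ⟨htb.mem, ?_⟩
    show b ∈ Subgroup.centralizer ((spn V K a : Subgroup G) : Set G)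
    rw [Subgroup.mem_centralizer_iff]
    intro s hs'
    exact (Subgroup.mem_centralizer_iff.mp (h hs') b self_mem_EE).symm

theorem IsTransv.EE_sup_eq (hs : Setup p V H K)
    (hCK : H ⊓ Subgroup.centralizer (K : Set G) ≤ K)
    (hS3 : H = ⨆ A : {A : Subgroup G // A ≤ H ∧ Cfsg.IsBestOffenderOn p V A}, (A : Subgroup G))
    (ht : IsTransv p V H a) :
    EE K a ⊔ (H ⊓ Subgroup.centralizer ((spn V K a : Subgroup G) : Set G)) = H :=
  le_antisymm (sup_le (EE_le_H hs ht.mem) inf_le_left) (ht.le_EE_sup hs hCK hS3)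

theorem IsTransv.EE_inf_eq (hs : Setup p V H K)
    (hCK : H ⊓ Subgroup.centralizer (K : Set G) ≤ K)
    (ht : IsTransv p V H a) :
    EE K a ⊓ (H ⊓ Subgroup.centralizer ((spn V K a : Subgroup G) : Set G)) = ⊥ := by
  rw [eq_bot_iff, ← ht.EE_inf_centralizer_spn hs (ht.hna hs hCK)]
  exact inf_le_inf_left _ inf_le_right

theorem IsTransv.commutator_EE_compl (hs : Setup p V H K)
    (hCK : H ⊓ Subgroup.centralizer (K : Set G) ≤ K)
    (hS3 : H = ⨆ A : {A : Subgroup G // A ≤ H ∧ Cfsg.IsBestOffenderOn p V A}, (A : Subgroup G))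
    (ht : IsTransv p V H a) :
    ⁅EE K a, H ⊓ Subgroup.centralizer ((spn V K a : Subgroup G) : Set G)⁆ = ⊥ := by
  rw [eq_bot_iff, Subgroup.commutator_le]
  intro e he c hc
  rw [← ht.EE_inf_centralizer_spn hs (ht.hna hs hCK)]
  have hcn := ht.le_normalizer_EE hs hCK hS3 hc.1
  have hen := ht.EE_le_normalizer_spn hs he
  constructor
  · have e1 : ⁅e, c⁆ = e * (c * e⁻¹ * c⁻¹) := by rw [commutatorElement_def]; group
    rw [e1]
    exact Subgroup.mul_mem _ he (conj_mem_of_mem_normalizer hcn (Subgroup.inv_mem _ he))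
  · show ⁅e, c⁆ ∈ Subgroup.centralizer ((spn V K a : Subgroup G) : Set G)
    have e1 : ⁅e, c⁆ = (e * c * e⁻¹) * c⁻¹ := by rw [commutatorElement_def]
    rw [e1]
    exact Subgroup.mul_mem _ (conj_mem_centralizer_of_mem_normalizer hen hc.2)
      (Subgroup.inv_mem _ hc.2)

theorem IsTransv.commutator_V_compl (hs : Setup p V H K)
    (hCK : H ⊓ Subgroup.centralizer (K : Set G) ≤ K)
    (hS3 : H = ⨆ A : {A : Subgroup G // A ≤ H ∧ Cfsg.IsBestOffenderOn p V A}, (A : Subgroup G))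
    (ht : IsTransv p V H a) :
    ⁅V, H ⊓ Subgroup.centralizer ((spn V K a : Subgroup G) : Set G)⁆ ≤
      V ⊓ Subgroup.centralizer ((EE K a : Subgroup G) : Set G) := by
  have hna := ht.hna hs hCK
  rw [Subgroup.commutator_le]
  intro v hv c hc
  have hcn := ht.le_normalizer_EE hs hCK hS3 hc.1
  have hcV := hs.norm hc.1
  have hcW : c ∈ Subgroup.normalizer
      ((V ⊓ Subgroup.centralizer ((EE K a : Subgroup G) : Set G) : Subgroup G) : Set G) :=
    mem_normalizer_inf hcV (mem_normalizer_centralizer hcn)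
  have hv' : v ∈ spn V K a ⊔ (V ⊓ Subgroup.centralizer ((EE K a : Subgroup G) : Set G)) := by
    rw [ht.spn_sup_fix_EE hs hna]; exact hv
  have hSV := spn_le hs ht.mem (K := K)
  have hcomm : ∀ x ∈ spn V K a,
      ∀ y ∈ V ⊓ Subgroup.centralizer ((EE K a : Subgroup G) : Set G), x * y = y * x :=
    fun x hx y hy => hs.comm x (hSV hx) y hy.1
  rw [Cfsg.Agent.Lib.Helper25.mem_sup_of_commute hcomm] at hv'
  obtain ⟨s, hs', w, hw, rfl⟩ := hv'
  have hcs : c * s⁻¹ * c⁻¹ = s⁻¹ := by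
    have := Subgroup.mem_centralizer_iff.mp hc.2 s⁻¹ (Subgroup.inv_mem _ hs')
    rw [← this]; group
  have hwc : ⁅w, c⁆ ∈ V ⊓ Subgroup.centralizer ((EE K a : Subgroup G) : Set G) := by
    have e1 : ⁅w, c⁆ = w * (c * w⁻¹ * c⁻¹) := by rw [commutatorElement_def]; group
    rw [e1]
    exact Subgroup.mul_mem _ hw (conj_mem_of_mem_normalizer hcW (Subgroup.inv_mem _ hw))
  have e2 : ⁅s * w, c⁆ = s * ⁅w, c⁆ * (c * s⁻¹ * c⁻¹) := by
    simp only [commutatorElement_def]; group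
  rw [e2, hcs, hs.comm s (hSV hs') _ hwc.1]
  have : ⁅w, c⁆ * s * s⁻¹ = ⁅w, c⁆ := by group
  rw [this]; exact hwc

end glob

end Cfsg.Agent.Lib.Helper11.FF
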