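import Mathlib
import Cfsg.Prelude.Def_Local
import Cfsg.Prelude.Def_PLocal
import Cfsg.Agent.Lib.Helper11.SL2PSolv

/-!
# `p`-stability of `p`-solvable groups

* `sl23_section_of_not_noSL2`: a `p`-solvable subgroup failing `NoSL2` has `p = 3` and an
  `SL₂(3)`-section;
* `noSL2_of_isPSolvable`: `p`-solvable groups with `p ≥ 5` satisfy `NoSL2`;
* `sl23_section_of_quad`: a quadratic element outside `O_p` of a faithful `p`-solvable group;
* `isActionPStable_of_isPSolvable`.
-/

set_option autoImplicit false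
open scoped commutatorElement

namespace Cfsg.Agent.Lib.Helper11

open Cfsg

/-- Subgroups of the image of a finite `p`-solvable group are `p`-solvable. -/
theorem isPSolvable_of_le_range {A B : Type*} [Group A] [Group B] [Finite A] (p : ℕ)
    [Fact p.Prime] (f : A →* B) (h : IsPSolvable p A) (Z : Subgroup B) (hZ : Z ≤ f.range) :
    IsPSolvable p Z := by
  have h1 : IsPSolvable p (Z.comap f) := Cfsg.Agent.Lib.Helper69.isPSolvable_subgroup p h _
  refine Cfsg.Agent.Lib.Helper69.isPSolvable_of_surj p (f.subgroupComap Z) ?_ h1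
  rintro ⟨z, hz⟩
  obtain ⟨a, rfl⟩ := hZ hz
  exact ⟨⟨a, hz⟩, rfl⟩

theorem isPSolvable_of_le {G : Type*} [Group G] [Finite G] (p : ℕ) [Fact p.Prime]
    {H Y : Subgroup G} (hYH : Y ≤ H) (h : IsPSolvable p H) : IsPSolvable p Y :=
  isPSolvable_of_le_range p H.subtype h Y (by rw [Subgroup.range_subtype]; exact hYH)

/-- A surjection from a subgroup onto `X` exhibits `X` as a section. -/
theorem exists_section_of_surjective {G : Type*} [Group G] {X : Type*} [Group X]
    (L : Subgroup G) (φ : L →* X) (hφ : Function.Surjective φ) :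
    ∃ (K : Subgroup G) (_ : (K.subgroupOf L).Normal), Nonempty ((L ⧸ K.subgroupOf L) ≃* X) := by
  have hker : (φ.ker.map L.subtype).subgroupOf L = φ.ker :=
    Subgroup.comap_map_eq_self_of_injective L.subtype_injective φ.ker
  have hn : ((φ.ker.map L.subtype).subgroupOf L).Normal := by
    rw [hker]; infer_instance
  exact ⟨φ.ker.map L.subtype, hn,
    ⟨(QuotientGroup.quotientMulEquivOfEq hker).trans
      (QuotientGroup.quotientKerEquivOfSurjective φ hφ)⟩⟩

/-- Sections of the image of a homomorphism defined on a subgroup lift to sections inside that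
subgroup. -/
theorem exists_section_of_hom {G B X : Type*} [Group G] [Group B] [Group X] (Y : Subgroup G)
    (f : Y →* B) (L K : Subgroup B) (hK : (K.subgroupOf L).Normal) (hL : L ≤ f.range)
    (e : (L ⧸ K.subgroupOf L) ≃* X) :
    ∃ (L' K' : Subgroup G) (_ : (K'.subgroupOf L').Normal), L' ≤ Y ∧
      Nonempty ((L' ⧸ K'.subgroupOf L') ≃* X) := by
  have hg : Function.Surjective (f.subgroupComap L) := by
    rintro ⟨z, hz⟩
    obtain ⟨a, rfl⟩ := hL hz
    exact ⟨⟨a, hz⟩, rfl⟩
  let e₀ : (L.comap f) ≃* (L.comap f).map Y.subtype :=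
    (L.comap f).equivMapOfInjective Y.subtype Y.subtype_injective
  let φ : ((L.comap f).map Y.subtype) →* X :=
    e.toMonoidHom.comp ((QuotientGroup.mk' (K.subgroupOf L)).comp
      ((f.subgroupComap L).comp e₀.symm.toMonoidHom))
  have hφ : Function.Surjective φ :=
    e.surjective.comp ((QuotientGroup.mk'_surjective _).comp (hg.comp e₀.symm.surjective))
  obtain ⟨K', hK', he⟩ := exists_section_of_surjective ((L.comap f).map Y.subtype) φ hφ
  exact ⟨(L.comap f).map Y.subtype, K', hK', Subgroup.map_subtype_le _, he⟩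

/-- A `p`-solvable subgroup failing `NoSL2` forces `p = 3` and an `SL₂(3)`-section. -/
theorem sl23_section_of_not_noSL2 {G : Type*} [Group G] [Finite G] {p : ℕ} [Fact p.Prime]
    (hp : p ≠ 2) (H : Subgroup G) (hsol : IsPSolvable p H) (hno : ¬ NoSL2 p H) :
    p = 3 ∧ ∃ (K L : Subgroup G) (_ : (L.subgroupOf K).Normal), K ≤ H ∧
      Nonempty ((K ⧸ L.subgroupOf K) ≃* Matrix.SpecialLinearGroup (Fin 2) (ZMod 3)) := by
  unfold NoSL2 at hno
  push Not at hno
  obtain ⟨K, instF, instFin, instC, Y, hYH, f, x, y, hx, hy, hxy⟩ := hno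
  have hYsol : IsPSolvable p Y := isPSolvable_of_le p hYH hsol
  have hcl : Subgroup.closure ({f x, f y} : Set (Matrix.SpecialLinearGroup (Fin 2) K)) ≤
      f.range := by
    rw [Subgroup.closure_le]
    intro z hz
    rcases hz with hz | hz
    · rw [hz]; exact ⟨x, rfl⟩
    · rw [Set.mem_singleton_iff.mp hz]; exact ⟨y, rfl⟩
  have hXsol := isPSolvable_of_le_range p f hYsol _ hcl
  obtain ⟨hp3, L, K', hK', hL, ⟨e⟩⟩ := sl2_core p hp (f x) (f y) hx hy hxy hXsol
  obtain ⟨L', K'', hK'', hL', he⟩ := exists_section_of_hom Y f L K' hK' (hL.trans hcl) e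
  exact ⟨hp3, L', K'', hK'', hL'.trans hYH, he⟩

/-- `p`-solvable groups with `p ≥ 5` have no non-commuting unipotent pairs in `SL₂`-images. -/
theorem noSL2_of_isPSolvable {G : Type*} [Group G] [Finite G] {p : ℕ} [Fact p.Prime]
    (hp : 5 ≤ p) (hsol : IsPSolvable p G) : NoSL2 p (⊤ : Subgroup G) := by
  by_contra hno
  have hp2 : p ≠ 2 := by omega
  have hsolT : IsPSolvable p (⊤ : Subgroup G) :=
    Cfsg.Agent.Lib.Helper69.isPSolvable_subgroup p hsol ⊤
  obtain ⟨hp3, -⟩ := sl23_section_of_not_noSL2 hp2 ⊤ hsolT hno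
  omega

/-- A `p`-solvable group with `p ≥ 5` is `p`-stable in the action sense. -/
theorem isActionPStable_of_isPSolvable {G : Type*} [Group G] [Finite G] {p : ℕ} [Fact p.Prime]
    (hp : 5 ≤ p) (hsol : IsPSolvable p G) : IsActionPStable p G :=
  isActionPStable_of_noSL2 (by omega) (noSL2_of_isPSolvable hp hsol)

/-- For odd `p`, a `p`-solvable group acting faithfully on an elementary abelian `p`-group with
a quadratic element outside `O_p` has `p = 3` and involves `SL₂(3)`. -/
theorem sl23_section_of_quad {G : Type*} [Group G] [Finite G] {p : ℕ} [Fact p.Prime]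
    (hp : p ≠ 2) (V H : Subgroup G) (hV : IsElementaryAbelian p V)
    (hHV : H ≤ Subgroup.normalizer (V : Set G))
    (hf : H ⊓ Subgroup.centralizer (V : Set G) = ⊥) (hsep : IsPSolvable p H) (a : G)
    (haH : a ∈ H) (hq : ⁅⁅V, Subgroup.zpowers a⁆, Subgroup.zpowers a⁆ = ⊥)
    (hna : a ∉ (pCore p H).map H.subtype) :
    p = 3 ∧ ∃ (K L : Subgroup G) (_ : (L.subgroupOf K).Normal), K ≤ H ∧
      Nonempty ((K ⧸ L.subgroupOf K) ≃* Matrix.SpecialLinearGroup (Fin 2) (ZMod 3)) := by
  by_cases hno : NoSL2 p H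
  · exact absurd (quad_mem_pCore_ns hp V H hV hHV hf hno a haH hq) hna
  · exact sl23_section_of_not_noSL2 hp H hsep hno

end Cfsg.Agent.Lib.Helper11
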