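import Mathlib
import Cfsg.Agent.Lib.Helper11.FFHyp
import Cfsg.Agent.Lib.Helper10.ElemAb
import Cfsg.Agent.Lib.Helper10.Thompson
import Cfsg.Agent.Lib.Helper11.PSolvCoprime
import Cfsg.Agent.Lib.Helper11.PSolvStable

/-!
Transfer of the conjugation action of `G` on a normal subgroup `V` to a *faithful* action
inside the holomorph `V ⋊ Aut V`: `psi V : G →* Hol V` has kernel `C_G(V)`, and its range acts
faithfully on the copy `VV V` of `V`.  Best offenders are mapped to best offenders.
-/

set_option autoImplicit false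

namespace Cfsg.Agent.Lib.Helper11.FFT

open scoped commutatorElement

variable {G : Type*} [Group G] (V : Subgroup G) [V.Normal]

/-- the holomorph of `V`. -/
abbrev Hol := ↥V ⋊[MonoidHom.id (MulAut ↥V)] MulAut ↥V

instance instFiniteHol [Finite G] : Finite (Hol V) :=
  Finite.of_equiv _ SemidirectProduct.equivProd.symm

/-- `G → Hol V` through the conjugation action. -/
def psi : G →* Hol V := SemidirectProduct.inr.comp MulAut.conjNormal

/-- the copy of `V` in its holomorph. -/
def VV : Subgroup (Hol V) := (SemidirectProduct.inl : ↥V →* Hol V).range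

theorem psi_conj (g : G) (v : V) :
    psi V g * SemidirectProduct.inl v * (psi V g)⁻¹ =
      (SemidirectProduct.inl (MulAut.conjNormal g v) : Hol V) := by
  have := SemidirectProduct.inl_aut (φ := MonoidHom.id (MulAut ↥V)) (MulAut.conjNormal g) v
  rw [MonoidHom.id_apply] at this
  rw [this]
  simp [psi]

/-- `psi g` commutes with `inl v` iff `g` commutes with `v`. -/
theorem psi_commute_iff (g : G) (v : V) :
    psi V g * SemidirectProduct.inl v = SemidirectProduct.inl v * psi V g ↔
      g * (v : G) = (v : G) * g := by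
  have h1 := psi_conj V g v
  constructor
  · intro h
    have h2 : psi V g * SemidirectProduct.inl v * (psi V g)⁻¹ =
        (SemidirectProduct.inl v : Hol V) := by rw [h]; group
    rw [h1] at h2
    have h3 := congrArg Subtype.val (SemidirectProduct.inl_injective h2)
    rw [MulAut.conjNormal_apply] at h3
    calc g * (v : G) = g * v * g⁻¹ * g := by group
      _ = v * g := by rw [h3]
  · intro h
    have h2 : (MulAut.conjNormal g v : V) = v := by
      apply Subtype.ext
      rw [MulAut.conjNormal_apply, h]; group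
    rw [h2] at h1
    calc psi V g * SemidirectProduct.inl v
        = psi V g * SemidirectProduct.inl v * (psi V g)⁻¹ * psi V g := by group
      _ = SemidirectProduct.inl v * psi V g := by rw [h1]

theorem psi_ker : (psi V).ker = Subgroup.centralizer (V : Set G) := by
  ext g
  rw [MonoidHom.mem_ker, Subgroup.mem_centralizer_iff]
  constructor
  · intro h v hv
    have h1 := (psi_commute_iff V g ⟨v, hv⟩).mp (by rw [h, one_mul, mul_one])
    exact h1.symm
  · intro h
    have h1 : (MulAut.conjNormal g : MulAut V) = 1 := by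
      ext v
      rw [MulAut.conjNormal_apply, MulAut.one_apply]
      rw [← h v v.2]; group
    show SemidirectProduct.inr (MulAut.conjNormal g) = 1
    rw [h1, map_one]

instance VV_normal : (VV V).Normal := by
  unfold VV
  rw [SemidirectProduct.range_inl_eq_ker_rightHom]
  infer_instance

theorem VV_elem {p : ℕ} (hV : Cfsg.IsElementaryAbelian p V) :
    Cfsg.IsElementaryAbelian p (VV V) := by
  haveI := hV.1
  constructor
  · refine ⟨⟨?_⟩⟩
    rintro ⟨_, x, rfl⟩ ⟨_, y, rfl⟩
    apply Subtype.ext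
    show SemidirectProduct.inl x * SemidirectProduct.inl y =
      (SemidirectProduct.inl y * SemidirectProduct.inl x : Hol V)
    rw [← map_mul, ← map_mul]
    exact congrArg _ (hV.1.is_comm.comm x y)
  · rintro _ ⟨x, rfl⟩
    rw [← map_pow]
    have : x ^ p = 1 := Subtype.ext (by rw [Subgroup.coe_pow]; exact hV.2 x x.2)
    rw [this, map_one]

theorem card_VV : Nat.card (VV V) = Nat.card V := by
  unfold VV
  exact (Nat.card_congr (MonoidHom.ofInjective SemidirectProduct.inl_injective).toEquiv).symm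

theorem faith : (psi V).range ⊓ Subgroup.centralizer (VV V : Set (Hol V)) = ⊥ := by
  rw [eq_bot_iff]
  rintro x ⟨⟨g, rfl⟩, hc⟩
  rw [Subgroup.mem_bot, ← MonoidHom.mem_ker, psi_ker, Subgroup.mem_centralizer_iff]
  intro v hv
  have h1 := Subgroup.mem_centralizer_iff.mp hc (SemidirectProduct.inl ⟨v, hv⟩) ⟨_, rfl⟩
  exact ((psi_commute_iff V g ⟨v, hv⟩).mp h1.symm).symm

theorem inl_mem_centralizer_map (B : Subgroup G) (v : V) :
    (SemidirectProduct.inl v : Hol V) ∈ Subgroup.centralizer ((B.map (psi V) : Subgroup _) : Set _)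
      ↔ (v : G) ∈ Subgroup.centralizer (B : Set G) := by
  rw [Subgroup.mem_centralizer_iff, Subgroup.mem_centralizer_iff]
  constructor
  · intro h b hb
    exact (psi_commute_iff V b v).mp (h _ ⟨b, hb, rfl⟩)
  · rintro h _ ⟨b, hb, rfl⟩
    exact (psi_commute_iff V b v).mpr (h b hb)

theorem card_fix (B : Subgroup G) :
    Nat.card ↥(VV V ⊓ Subgroup.centralizer ((B.map (psi V) : Subgroup _) : Set _)) =
      Nat.card ↥(V ⊓ Subgroup.centralizer (B : Set G)) := by
  symm
  refine Nat.card_eq_of_bijective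
    (fun x : ↥(V ⊓ Subgroup.centralizer (B : Set G)) =>
      (⟨SemidirectProduct.inl ⟨x.1, x.2.1⟩, ⟨⟨_, rfl⟩,
        (inl_mem_centralizer_map V B ⟨x.1, x.2.1⟩).mpr x.2.2⟩⟩ :
        ↥(VV V ⊓ Subgroup.centralizer ((B.map (psi V) : Subgroup _) : Set _)))) ⟨?_, ?_⟩
  · intro x y h
    have h1 := SemidirectProduct.inl_injective (congrArg Subtype.val h)
    have h2 : (x : G) = y := congrArg (fun t : ↥V => (t : G)) h1
    exact Subtype.ext h2
  · rintro ⟨_, ⟨v, rfl⟩, hc⟩
    exact ⟨⟨v.1, v.2, (inl_mem_centralizer_map V B v).mp hc⟩, rfl⟩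

theorem card_map (B : Subgroup G) :
    Nat.card B = Nat.card (B.map (psi V)) * Nat.card ↥(B ⊓ Subgroup.centralizer (V : Set G)) := by
  have h1 := Subgroup.card_eq_card_quotient_mul_card_subgroup ((psi V).comp B.subtype).ker
  have h2 : Nat.card (B ⧸ ((psi V).comp B.subtype).ker) = Nat.card (B.map (psi V)) := by
    rw [Nat.card_congr (QuotientGroup.quotientKerEquivRange ((psi V).comp B.subtype)).toEquiv,
      ← MonoidHom.map_range, Subgroup.range_subtype]
  have h3 : ((psi V).comp B.subtype).ker =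
      (B ⊓ Subgroup.centralizer (V : Set G)).subgroupOf B := by
    ext x
    rw [MonoidHom.mem_ker, Subgroup.mem_subgroupOf, MonoidHom.comp_apply, Subgroup.mem_inf,
      ← psi_ker, MonoidHom.mem_ker]
    exact ⟨fun h => ⟨x.2, h⟩, fun h => h.2⟩
  rw [h2, h3, Cfsg.Agent.Lib.Helper10.card_subgroupOf_of_le inf_le_left] at h1
  exact h1

theorem map_eq_bot_iff (B : Subgroup G) :
    B.map (psi V) = ⊥ ↔ B ≤ Subgroup.centralizer (V : Set G) := by
  rw [← psi_ker, Subgroup.map_eq_bot_iff]

theorem bestOffender_map [Finite G] {p : ℕ} {A : Subgroup G} (hA : Cfsg.IsBestOffenderOn p V A) :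
    Cfsg.IsBestOffenderOn p (VV V) (A.map (psi V)) := by
  refine ⟨?_, ?_, ?_⟩
  · intro B' hB'
    have hB : (A ⊓ B'.comap (psi V)).map (psi V) = B' := by
      apply le_antisymm
      · rintro _ ⟨b, hb, rfl⟩
        exact hb.2
      · intro y hy
        obtain ⟨a, ha, rfl⟩ := hB' hy
        exact ⟨a, ⟨ha, hy⟩, rfl⟩
    have hBC : (A ⊓ B'.comap (psi V)) ⊓ Subgroup.centralizer (V : Set G) =
        A ⊓ Subgroup.centralizer (V : Set G) := by
      apply le_antisymm (inf_le_inf_right _ inf_le_left)
      rintro x ⟨hx, hxc⟩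
      refine ⟨⟨hx, ?_⟩, hxc⟩
      have hxc' : x ∈ (psi V).ker := by rw [psi_ker]; exact hxc
      rw [MonoidHom.mem_ker] at hxc'
      show psi V x ∈ B'
      rw [hxc']; exact B'.one_mem
    have h1 := hA.1 (A ⊓ B'.comap (psi V)) inf_le_left
    rw [card_map V (A ⊓ B'.comap (psi V)), card_map V A, hBC, hB, ← card_fix V, ← card_fix V A,
      hB] at h1
    have hpos : 0 < Nat.card ↥(A ⊓ Subgroup.centralizer (V : Set G)) := Nat.card_pos
    nlinarith [h1, hpos]
  · rw [← Subgroup.map_commutator]
    have h1 : (⁅A, A⁆).map (psi V) = ⊥ := (map_eq_bot_iff V _).mpr hA.2.1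
    rw [h1]; exact bot_le
  · rintro _ ⟨a, ha, rfl⟩
    have h1 : psi V (a ^ p) = 1 := by
      rw [← MonoidHom.mem_ker, psi_ker]; exact hA.2.2 a ha
    rw [← map_pow, h1]
    exact Subgroup.one_mem _

/-- dual Hall–Higman: in a finite `p`-solvable group with `O_p = 1`,
`C(O_{p'}) ≤ O_{p'}`. -/
theorem centralizer_pPrimeCore_le {X : Type*} [Group X] [Finite X] {p : ℕ}
    [Fact p.Prime] (hsol : Cfsg.IsPSolvable p X) (hOp : Cfsg.pCore p X = ⊥) :
    Subgroup.centralizer (Cfsg.pPrimeCore p X : Set X) ≤ Cfsg.pPrimeCore p X := by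
  set C := Subgroup.centralizer (Cfsg.pPrimeCore p X : Set X) with hC
  haveI hCn : C.Normal := Subgroup.normal_centralizer
  have hCsol : Cfsg.IsPSolvable p C := Cfsg.Agent.Lib.Helper69.isPSolvable_subgroup p hsol C
  have h1 : Cfsg.pCore p C = ⊥ := by
    haveI : (Cfsg.pCore p C).Characteristic := Cfsg.Agent.Lib.Helper63.pCore_characteristic' p C
    have hn : ((Cfsg.pCore p C).map C.subtype).Normal :=
      ConjAct.normal_of_characteristic_of_normal
    have h2 := Cfsg.Agent.Lib.Helper63.le_pCore' hn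
      ((Cfsg.Agent.Lib.Helper63.pCore_isPGroup' p C).map _)
    rw [hOp, le_bot_iff, Subgroup.map_eq_bot_iff_of_injective _ C.subtype_injective] at h2
    exact h2
  have h2 : Cfsg.pPrimeCore p C ≤ Subgroup.center C := by
    haveI : (Cfsg.pPrimeCore p C).Characteristic :=
      Cfsg.Agent.Lib.Helper63.pPrimeCore_characteristic' p C
    have hn : ((Cfsg.pPrimeCore p C).map C.subtype).Normal :=
      ConjAct.normal_of_characteristic_of_normal
    have hcard : (Nat.card ((Cfsg.pPrimeCore p C).map C.subtype)).Coprime p := by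
      rw [Subgroup.card_map_of_injective C.subtype_injective]
      exact Cfsg.Agent.Lib.Helper63.card_pPrimeCore_coprime' p C
    have h3 := Cfsg.Agent.Lib.Helper63.le_pPrimeCore' hn hcard
    intro z hz
    rw [Subgroup.mem_center_iff]
    intro c
    have hzN : (z : X) ∈ Cfsg.pPrimeCore p X := h3 ⟨z, hz, rfl⟩
    have hcc : (c : X) ∈ Subgroup.centralizer (Cfsg.pPrimeCore p X : Set X) := c.2
    rw [Subgroup.mem_centralizer_iff] at hcc
    exact Subtype.ext (hcc _ hzN).symm
  have h3 := Cfsg.Agent.Lib.Helper11.card_coprime_of_central_pPrimeCore hCsol h1 h2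
  exact Cfsg.Agent.Lib.Helper63.le_pPrimeCore' hCn h3

/-- the faithful setup in the holomorph, for `H = psi(G)`. -/
theorem setup_range [Finite G] {p : ℕ} [Fact p.Prime] (hV : Cfsg.IsElementaryAbelian p V)
    (hsol : Cfsg.IsPSolvable p G) (hOp : Cfsg.pCore p ↥(psi V).range = ⊥) :
    FF.Setup p (VV V) (psi V).range (FF.coreOf p (psi V).range) ∧
      (psi V).range ⊓ Subgroup.centralizer (FF.coreOf p (psi V).range : Set (Hol V)) ≤
        FF.coreOf p (psi V).range := by
  refine ⟨FF.setup_of_hyp (VV V) (psi V).range (VV_elem V hV) ?_ (faith V),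
    FF.hCK_of_hyp (psi V).range ?_⟩
  · rw [Subgroup.normalizer_eq_top]; exact le_top
  · exact centralizer_pPrimeCore_le
      (Cfsg.Agent.Lib.Helper11.isPSolvable_of_le_range p (psi V) hsol _ le_rfl) hOp

end Cfsg.Agent.Lib.Helper11.FFT
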