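import Mathlib
import Cfsg.Agent.Lib.Helper11.FFTransfer
import Cfsg.Agent.Lib.Helper25.Basic
import Cfsg.Agent.Lib.Helper23.Transport

/-!
`[Ω₁(Z(J(C_G(V)))), J(G)] ≤ V` for a normal elementary abelian `p`-subgroup `V` of a
`p`-solvable group with `O_p(G/C_G(V)) = 1` (Kurzweil–Stellmacher 9.3.9).
-/

set_option autoImplicit false

namespace Cfsg.Agent.Lib.Helper11.FFT

open scoped commutatorElement
open Cfsg.Agent.Lib.Helper10

variable {G : Type*} [Group G]

/-- for `V` normal, the elements `g` with `[W, g] ⊆ V` form a subgroup. -/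
def commInto (W V : Subgroup G) [hn : V.Normal] : Subgroup G where
  carrier := {g | ∀ w ∈ W, ⁅w, g⁆ ∈ V}
  one_mem' := by
    intro w _
    simp
  mul_mem' := by
    intro a b ha hb w hw
    have e : ⁅w, a * b⁆ = ⁅w, a⁆ * (a * ⁅w, b⁆ * a⁻¹) := by
      simp only [commutatorElement_def]; group
    rw [e]
    exact V.mul_mem (ha w hw) (hn.conj_mem _ (hb w hw) a)
  inv_mem' := by
    intro a ha w hw
    have e : ⁅w, a⁻¹⁆ = a⁻¹ * (⁅w, a⁆)⁻¹ * a⁻¹⁻¹ := by
      simp only [commutatorElement_def]; group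
    rw [e]
    exact hn.conj_mem _ (V.inv_mem (ha w hw)) a⁻¹

theorem mem_commInto {W V : Subgroup G} [V.Normal] {g : G} :
    g ∈ commInto W V ↔ ∀ w ∈ W, ⁅w, g⁆ ∈ V := Iff.rfl

variable (V : Subgroup G) [V.Normal]

/-- for a largest elementary abelian `A`, `C_A(V) V` is again a largest one. -/
theorem inf_sup_mem_max [Finite G] {p : ℕ} [Fact p.Prime]
    (hV : Cfsg.IsElementaryAbelian p V) (hsol : Cfsg.IsPSolvable p G)
    (hOp : Cfsg.pCore p ↥(psi V).range = ⊥) {A : Subgroup G}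
    (hA : A ∈ Cfsg.maxElementaryAbelianSubgroups p G) :
    (A ⊓ Subgroup.centralizer (V : Set G)) ⊔ V ∈ Cfsg.maxElementaryAbelianSubgroups p G := by
  obtain ⟨hs, hCK⟩ := setup_range V hV hsol hOp
  have hAe := isElementaryAbelian_iff.mp hA.1
  have hbo := isBestOffenderOn_of_mem_max V A hV hA
  have hbo' := bestOffender_map V hbo
  have hc := FF.offender_card hs hCK _ (A.map (psi V)) rfl
    (by rintro _ ⟨a, -, rfl⟩; exact ⟨a, rfl⟩) hbo'
  rw [card_fix, card_VV] at hc
  have hcm := card_map V A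
  have hE : Cfsg.IsElementaryAbelian p ((A ⊓ Subgroup.centralizer (V : Set G)) ⊔ V) := by
    refine isElementaryAbelian_sup (isElementaryAbelian_mono hA.1 inf_le_left) hV ?_
    intro a ha v hv
    exact (Subgroup.mem_centralizer_iff.mp ha.2 v hv).symm
  refine mem_max_of_card_ge hA hE ?_
  have h1 := card_mul_card_le_sup_mul_inf (A ⊓ Subgroup.centralizer (V : Set G)) V
  have h2 : (A ⊓ Subgroup.centralizer (V : Set G)) ⊓ V ≤
      V ⊓ Subgroup.centralizer (A : Set G) := by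
    rintro x ⟨⟨hxA, -⟩, hxV⟩
    refine ⟨hxV, ?_⟩
    show x ∈ Subgroup.centralizer (A : Set G)
    rw [Subgroup.mem_centralizer_iff]
    intro a ha
    exact hAe.1 a ha x hxA
  have h3 := Subgroup.card_le_of_le h2
  have hpos : 0 < Nat.card ↥(V ⊓ Subgroup.centralizer (A : Set G)) := Nat.card_pos
  have h4 : Nat.card A * Nat.card ↥(V ⊓ Subgroup.centralizer (A : Set G)) ≤
      Nat.card ↥((A ⊓ Subgroup.centralizer (V : Set G)) ⊔ V) *
        Nat.card ↥(V ⊓ Subgroup.centralizer (A : Set G)) := by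
    calc Nat.card A * Nat.card ↥(V ⊓ Subgroup.centralizer (A : Set G))
        = Nat.card ↥(A ⊓ Subgroup.centralizer (V : Set G)) * Nat.card V := by
          rw [hcm, ← hc]; ring
      _ ≤ _ := h1
      _ ≤ _ := Nat.mul_le_mul_left _ h3
  exact Nat.le_of_mul_le_mul_right h4 hpos

theorem comm_omega_le [Finite G] {p : ℕ} [Fact p.Prime]
    (hV : Cfsg.IsElementaryAbelian p V) (hsol : Cfsg.IsPSolvable p G)
    (hOp : Cfsg.pCore p ↥(psi V).range = ⊥) :
    ⁅Cfsg.omegaOne p (Cfsg.centerThompsonOf p (Subgroup.centralizer (V : Set G))),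
      Cfsg.thompsonSubgroup p G⁆ ≤ V := by
  have hVe := isElementaryAbelian_iff.mp hV
  have hVC : V ≤ Subgroup.centralizer (V : Set G) := by
    intro v hv
    rw [Subgroup.mem_centralizer_iff]
    intro w hw
    exact hVe.1 w hw v hv
  have hW : ∀ A ∈ Cfsg.maxElementaryAbelianSubgroups p G,
      Cfsg.omegaOne p (Cfsg.centerThompsonOf p (Subgroup.centralizer (V : Set G))) ≤
        (A ⊓ Subgroup.centralizer (V : Set G)) ⊔ V := by
    intro A hA
    have hB := inf_sup_mem_max V hV hsol hOp hA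
    have hBC : (A ⊓ Subgroup.centralizer (V : Set G)) ⊔ V ≤ Subgroup.centralizer (V : Set G) :=
      sup_le inf_le_right hVC
    have hBJ := Cfsg.Agent.Lib.Helper10.le_thompsonSubgroupOf
      (Subgroup.centralizer (V : Set G)) hB hBC
    unfold Cfsg.omegaOne
    rw [Subgroup.closure_le]
    rintro x ⟨hx, hxp⟩
    apply mem_of_commute_max hB hxp
    intro b hb
    exact Subgroup.mem_centralizer_iff.mp hx.2 b (hBJ hb)
  have hJ : Cfsg.thompsonSubgroup p G ≤
      commInto (Cfsg.omegaOne p (Cfsg.centerThompsonOf p (Subgroup.centralizer (V : Set G)))) V := by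
    unfold Cfsg.thompsonSubgroup
    apply sSup_le
    intro A hA a ha
    rw [mem_commInto]
    intro w hw
    have hAe := isElementaryAbelian_iff.mp hA.1
    have hw' := hW A hA hw
    have hcomm : ∀ x ∈ A ⊓ Subgroup.centralizer (V : Set G), ∀ y ∈ V, x * y = y * x :=
      fun x hx y hy => (Subgroup.mem_centralizer_iff.mp hx.2 y hy).symm
    rw [Cfsg.Agent.Lib.Helper25.mem_sup_of_commute hcomm] at hw'
    obtain ⟨a₀, ha₀, v, hv, rfl⟩ := hw'
    have hc : a₀⁻¹ * a⁻¹ = a⁻¹ * a₀⁻¹ := by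
      rw [← mul_inv_rev, ← mul_inv_rev, hAe.1 a ha a₀ ha₀.1]
    have e : ⁅a₀ * v, a⁆ = a₀ * ⁅v, a⁆ * a₀⁻¹ := by
      calc ⁅a₀ * v, a⁆ = a₀ * v * a * v⁻¹ * (a₀⁻¹ * a⁻¹) := by
            simp only [commutatorElement_def]; group
        _ = a₀ * v * a * v⁻¹ * (a⁻¹ * a₀⁻¹) := by rw [hc]
        _ = a₀ * ⁅v, a⁆ * a₀⁻¹ := by simp only [commutatorElement_def]; group
    rw [e]
    have hva : ⁅v, a⁆ ∈ V := by
      have e2 : ⁅v, a⁆ = v * (a * v⁻¹ * a⁻¹) := by simp only [commutatorElement_def]; group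
      rw [e2]
      exact V.mul_mem hv (Subgroup.Normal.conj_mem inferInstance _ (V.inv_mem hv) a)
    exact Subgroup.Normal.conj_mem inferInstance _ hva a₀
  rw [Subgroup.commutator_le]
  intro w hw g hg
  exact (mem_commInto.mp (hJ hg)) w hw

theorem pCore_range_eq_bot {p : ℕ}
    (hO : Cfsg.pCore p (G ⧸ Subgroup.centralizer (V : Set G)) = ⊥) :
    Cfsg.pCore p ↥(psi V).range = ⊥ := by
  let e : G ⧸ Subgroup.centralizer (V : Set G) ≃* ↥(psi V).range :=
    (QuotientGroup.quotientMulEquivOfEq (psi_ker V).symm).trans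
      (QuotientGroup.quotientKerEquivRange (psi V))
  rw [← Cfsg.Agent.Lib.Helper23.pCore_map p e, hO, Subgroup.map_bot]

end Cfsg.Agent.Lib.Helper11.FFT
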