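import Mathlib
import Cfsg.Agent.Lib.Helper11.FFSL2
import Cfsg.Agent.Lib.Helper11.FFOff

/-!
A transvection and a conjugate of it under a non-centralizing element of `K` generate
`E_a = [K, a]⟨a⟩`.
-/

set_option autoImplicit false

namespace Cfsg.Agent.Lib.Helper11.FF

open scoped commutatorElement
open Cfsg.Agent.Lib.Helper47 Cfsg.Agent.Lib.Helper34

variable {G : Type*} [Group G]

section pair

variable [Finite G] {p : ℕ} [Fact p.Prime] {V H K : Subgroup G} {a : G}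

theorem IsTransv.sup_conj_eq (hs : Setup p V H K) (ht : IsTransv p V H a) {x : G} (hx : x ∈ K)
    (hxa : x * a ≠ a * x) :
    Subgroup.zpowers a ⊔ Subgroup.zpowers (x * a * x⁻¹) = EE K a := by
  have hna : ∃ x ∈ K, x * a ≠ a * x := ⟨x, hx, hxa⟩
  have hLE : Subgroup.zpowers a ⊔ Subgroup.zpowers (x * a * x⁻¹) ≤ EE K a :=
    sup_le (Subgroup.zpowers_le.mpr self_mem_EE) (Subgroup.zpowers_le.mpr (conj_mem_EE hx))
  generalize hL : Subgroup.zpowers a ⊔ Subgroup.zpowers (x * a * x⁻¹) = L at hLE ⊢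
  have hLH : L ≤ H := hLE.trans (EE_le_H hs ht.mem)
  have haL : a ∈ L := by
    rw [← hL]; exact (le_sup_left : Subgroup.zpowers a ≤ _) (Subgroup.mem_zpowers a)
  have hxL : x * a * x⁻¹ ∈ L := by
    rw [← hL]
    exact (le_sup_right : Subgroup.zpowers (x * a * x⁻¹) ≤ _) (Subgroup.mem_zpowers _)
  have hs' : Setup p V L (L ⊓ K) := by
    refine ⟨hs.comm, hs.exp, hLH.trans hs.norm, ?_, inf_le_left, ?_, ?_⟩
    · rw [eq_bot_iff, ← hs.faith]
      exact inf_le_inf_right _ hLH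
    · intro l hl
      exact mem_normalizer_inf (Subgroup.le_normalizer hl) (hs.Knorm (hLH hl))
    · exact Nat.Coprime.coprime_dvd_left (Subgroup.card_dvd_of_le inf_le_right) hs.Kcop
  have ht' : IsTransv p V L a := ⟨haL, ht.pow, ht.card⟩
  have hy : ⁅x, a⁆ ∈ L ⊓ K :=
    ⟨by rw [commutatorElement_def]; exact L.mul_mem hxL (L.inv_mem haL),
      hs.comm_mem_K hx ht.mem⟩
  have hya : ⁅x, a⁆ * a ≠ a * ⁅x, a⁆ :=
    fun h => hxa (hs.commute_of_commute_comm hx ht.mem ht.pow h.symm)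
  have hna' : ∃ y ∈ L ⊓ K, y * a ≠ a * y := ⟨_, hy, hya⟩
  obtain ⟨-, ⟨e1⟩, -, -⟩ := ht.EE_iso hs hna
  obtain ⟨-, ⟨e2⟩, -, -⟩ := ht'.EE_iso hs' hna'
  have hE'L : EE (L ⊓ K) a ≤ L := EE_le_H hs' ht'.mem
  have hcard : Nat.card (EE (L ⊓ K) a) = Nat.card (EE K a) := by
    rw [Nat.card_congr e1.toEquiv, Nat.card_congr e2.toEquiv]
  have h1 : EE (L ⊓ K) a = EE K a := Subgroup.eq_of_le_of_card_ge (hE'L.trans hLE) hcard.ge
  exact le_antisymm hLE (h1 ▸ hE'L)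

end pair

end Cfsg.Agent.Lib.Helper11.FF
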