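import Mathlib
import Cfsg.Agent.Lib.Helper11.FFJ
import Cfsg.Agent.Lib.Helper11.FFGlobal
import Cfsg.Agent.Lib.Helper47.ZL
import Cfsg.Agent.S0608
import Cfsg.Agent.S0602

/-!
Failure of Thompson factorization in a `p`-solvable group with `O_{p'} = 1`
(Kurzweil–Stellmacher 9.3.8): `p ∈ {2, 3}` and `J(G)` induces on `W = ⟨Ω₁(Z(S))^G⟩` a group
containing a normal `SL₂(p)`.
-/

set_option autoImplicit false

namespace Cfsg.Agent.Lib.Helper11.FFT

open scoped commutatorElement
open Cfsg.Agent.Lib.Helper10 Cfsg.Agent.Lib.Helper11.FF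

section general

variable {G : Type*} [Group G] [Finite G] {p : ℕ} [Fact p.Prime] {V H K : Subgroup G} {a : G}

theorem offender_le_of_transv_mem (hs : Setup p V H K)
    (hCK : H ⊓ Subgroup.centralizer (K : Set G) ≤ K) (T : Subgroup G)
    (h : ∀ b, IsTransv p V H b → b ∈ T) {A : Subgroup G} (hAH : A ≤ H)
    (hA : Cfsg.IsBestOffenderOn p V A) : A ≤ T := by
  refine (offender_le_iSup hs hCK _ A rfl hAH hA).trans (iSup_le ?_)
  rintro ⟨C, hCA, hC⟩
  obtain ⟨c, rfl, hc⟩ := hC.exists_transv hs hCK (hCA.trans hAH)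
  exact Subgroup.zpowers_le.mpr (h c hc)

theorem transv_mem_normalizer_EE (hs : Setup p V H K)
    (hCK : H ⊓ Subgroup.centralizer (K : Set G) ≤ K) (ht : IsTransv p V H a) {b : G}
    (htb : IsTransv p V H b) : b ∈ Subgroup.normalizer ((EE K a : Subgroup G) : Set G) := by
  rcases htb.dichotomy hs ht (htb.hna hs hCK) (ht.hna hs hCK) with h | ⟨h, -, -⟩
  · exact Subgroup.le_normalizer (h ▸ (self_mem_EE : b ∈ EE K b))
  · exact Subgroup.centralizer_le_normalizer _ (h (self_mem_EE : b ∈ EE K b))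

theorem exists_transv_mem (hs : Setup p V H K)
    (hCK : H ⊓ Subgroup.centralizer (K : Set G) ≤ K) {A : Subgroup G} (hAH : A ≤ H)
    (hA : Cfsg.IsBestOffenderOn p V A) (hA1 : A ≠ ⊥) : ∃ b ∈ A, IsTransv p V H b := by
  by_contra hcon
  push Not at hcon
  apply hA1
  rw [eq_bot_iff]
  refine (offender_le_iSup hs hCK _ A rfl hAH hA).trans (iSup_le ?_)
  rintro ⟨C, hCA, hC⟩
  obtain ⟨c, rfl, hc⟩ := hC.exists_transv hs hCK (hCA.trans hAH)
  exact absurd hc (hcon c (hCA (Subgroup.mem_zpowers c)))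

end general

variable {G : Type*} [Group G]

/-- the normal closure of `Ω₁(Z(S))`, `S` a Sylow `p`-subgroup. -/
abbrev ZW (p : ℕ) (G : Type*) [Group G] : Subgroup G :=
  ⨆ S : Sylow p G, Cfsg.omegaOne p ((S : Subgroup G) ⊓
    Subgroup.centralizer ((S : Subgroup G) : Set G))

instance ZW_normal {p : ℕ} : (ZW p G).Normal := Cfsg.Agent.S0608.V_normal

theorem ZW_elem [Finite G] {p : ℕ} [Fact p.Prime] (hsol : Cfsg.IsPSolvable p G)
    (hO : Cfsg.pPrimeCore p G = ⊥) : Cfsg.IsElementaryAbelian p (ZW p G) := by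
  have hC := Cfsg.Agent.Lib.Helper63.centralizer_pCore_le hO
    (Cfsg.Agent.Lib.Helper63.exists_plengthLE_of_isPSolvable hsol)
  have hle : ZW p G ≤ Cfsg.omegaOne p (Cfsg.pCore p G ⊓
      Subgroup.centralizer (Cfsg.pCore p G : Set G)) := by
    apply iSup_le
    intro S
    apply Cfsg.Agent.Lib.Helper47.omegaOne_mono
    intro x hx
    have hPS : Cfsg.pCore p G ≤ S := Cfsg.Agent.Lib.Helper63.pCore_le_sylow' p S
    have hxc : x ∈ Subgroup.centralizer (Cfsg.pCore p G : Set G) :=
      Subgroup.centralizer_le (by exact_mod_cast hPS) hx.2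
    exact ⟨hC hxc, hxc⟩
  refine isElementaryAbelian_mono (Cfsg.Agent.Lib.Helper47.isElementaryAbelian_omegaOne p _ ?_) hle
  intro x hx y hy
  exact Subgroup.mem_centralizer_iff.mp hy.2 x hx.1

theorem pCore_range_ZW [Finite G] {p : ℕ} [Fact p.Prime] :
    Cfsg.pCore p ↥(psi (ZW p G)).range = ⊥ := by
  haveI hPc : (Cfsg.pCore p ↥(psi (ZW p G)).range).Characteristic :=
    Cfsg.Agent.Lib.Helper63.pCore_characteristic' p _
  haveI hPn : (Cfsg.pCore p ↥(psi (ZW p G)).range).Normal :=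
    Subgroup.normal_of_characteristic _
  haveI hCn : (Subgroup.centralizer ((ZW p G : Subgroup G) : Set G)).Normal :=
    Subgroup.normal_centralizer
  set D : Subgroup G := (Cfsg.pCore p ↥(psi (ZW p G)).range).comap (psi (ZW p G)).rangeRestrict
    with hD
  haveI hDn : D.Normal := Subgroup.Normal.comap hPn _
  have hDC : ∀ d ∈ D, ∃ k : ℕ, d ^ (p ^ k) ∈ Subgroup.centralizer ((ZW p G : Subgroup G) : Set G) := by
    intro d hd
    obtain ⟨k, hk⟩ := (Cfsg.Agent.Lib.Helper63.pCore_isPGroup' p ↥(psi (ZW p G)).range)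
      ⟨(psi (ZW p G)).rangeRestrict d, hd⟩
    refine ⟨k, ?_⟩
    rw [← psi_ker, MonoidHom.mem_ker, map_pow]
    have h1 := congrArg (fun x : ↥(Cfsg.pCore p ↥(psi (ZW p G)).range) =>
      ((x : ↥(psi (ZW p G)).range) : Hol (ZW p G))) hk
    simpa using h1
  have hDle : D ≤ Subgroup.centralizer ((ZW p G : Subgroup G) : Set G) := by
    rw [Subgroup.le_centralizer_iff]
    apply iSup_le
    intro S
    unfold Cfsg.omegaOne
    rw [Subgroup.closure_le]
    rintro z ⟨hz, hzp⟩
    rw [SetLike.mem_coe, Subgroup.mem_centralizer_iff]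
    intro d hd
    have hzW : z ∈ ZW p G :=
      (le_iSup (fun S : Sylow p G => Cfsg.omegaOne p ((S : Subgroup G) ⊓
        Subgroup.centralizer ((S : Subgroup G) : Set G))) S)
        (Subgroup.subset_closure ⟨hz, hzp⟩)
    have h0 := Cfsg.Agent.Lib.Helper47.le_sup_sylow_of_pow_mem D
      (Subgroup.centralizer ((ZW p G : Subgroup G) : Set G)) hDC S hd
    rw [Subgroup.mem_sup_of_normal_left] at h0
    obtain ⟨c, hc, s, hs, rfl⟩ := h0
    have h1 : z * c = c * z := Subgroup.mem_centralizer_iff.mp hc z hzW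
    have h2 : s * z = z * s := Subgroup.mem_centralizer_iff.mp hz.2 s hs
    calc c * s * z = c * (z * s) := by rw [mul_assoc, h2]
      _ = z * c * s := by rw [← mul_assoc, ← h1]
      _ = z * (c * s) := mul_assoc _ _ _
  rw [eq_bot_iff]
  intro x hx
  obtain ⟨g, rfl⟩ := (psi (ZW p G)).rangeRestrict_surjective x
  have hg : g ∈ D := hx
  have h3 := hDle hg
  rw [← psi_ker, MonoidHom.mem_ker] at h3
  rw [Subgroup.mem_bot]
  exact Subtype.ext h3

/-- the centralizer of a union of subgroups is the centralizer of their join. -/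
theorem centralizer_iSup_set {ι : Sort*} (f : ι → Subgroup G) :
    Subgroup.centralizer (⨆ i, (f i : Set G)) =
      Subgroup.centralizer ((⨆ i, f i : Subgroup G) : Set G) := by
  apply le_antisymm
  · intro g hg
    rw [Subgroup.mem_centralizer_iff] at hg ⊢
    have h1 : (⨆ i, f i) ≤ Subgroup.centralizer ({g} : Set G) := by
      apply iSup_le
      intro i h hh
      rw [Subgroup.mem_centralizer_iff]
      intro x hx
      rw [Set.mem_singleton_iff] at hx
      subst hx
      have hmem : h ∈ ⨆ i, (f i : Set G) := by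
        rw [Set.iSup_eq_iUnion, Set.mem_iUnion]
        exact ⟨i, hh⟩
      exact (hg h hmem).symm
    intro h hh
    exact (Subgroup.mem_centralizer_iff.mp (h1 hh) g rfl).symm
  · apply Subgroup.centralizer_le
    rw [Set.iSup_eq_iUnion, Set.iUnion_subset_iff]
    intro i
    exact SetLike.coe_subset_coe.mpr (le_iSup f i)

/-- **KS 9.3.8** (one component). -/
theorem tf_fail_structure [Finite G] {p : ℕ} [Fact p.Prime] (hsol : Cfsg.IsPSolvable p G)
    (hO : Cfsg.pPrimeCore p G = ⊥) (hnf : ¬ Cfsg.IsThompsonFactorizable p G) :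
    (p = 2 ∨ p = 3) ∧ ∃ E : Subgroup G,
      Subgroup.centralizer ((ZW p G : Subgroup G) : Set G) ≤ E ∧
      E ≤ Cfsg.thompsonSubgroup p G ⊔ Subgroup.centralizer ((ZW p G : Subgroup G) : Set G) ∧
      Cfsg.thompsonSubgroup p G ⊔ Subgroup.centralizer ((ZW p G : Subgroup G) : Set G) ≤
        Subgroup.normalizer (E : Set G) ∧
      ∃ hn : ((Subgroup.centralizer ((ZW p G : Subgroup G) : Set G)).subgroupOf E).Normal,
        Nonempty ((↥E ⧸ (Subgroup.centralizer ((ZW p G : Subgroup G) : Set G)).subgroupOf E) ≃*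
          Matrix.SpecialLinearGroup (Fin 2) (ZMod p)) := by
  have hWe := ZW_elem hsol hO
  have hOp := pCore_range_ZW (p := p) (G := G)
  obtain ⟨hs, hCK⟩ := setup_range (ZW p G) hWe hsol hOp
  have hJ : ¬ Cfsg.thompsonSubgroup p G ≤
      Subgroup.centralizer ((ZW p G : Subgroup G) : Set G) :=
    fun h => hnf ((Cfsg.Agent.S0608.result hO).mpr h)
  obtain ⟨A, hA, hAC⟩ : ∃ A ∈ Cfsg.maxElementaryAbelianSubgroups p G,
      ¬ A ≤ Subgroup.centralizer ((ZW p G : Subgroup G) : Set G) := by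
    by_contra hcon
    push Not at hcon
    exact hJ (sSup_le hcon)
  have hmapR : ∀ B : Subgroup G, B.map (psi (ZW p G)) ≤ (psi (ZW p G)).range := by
    rintro B _ ⟨a, -, rfl⟩
    exact ⟨a, rfl⟩
  have hbo := bestOffender_map (ZW p G) (isBestOffenderOn_of_mem_max (ZW p G) A hWe hA)
  have hA'1 : A.map (psi (ZW p G)) ≠ ⊥ := fun h => hAC ((map_eq_bot_iff (ZW p G) A).mp h)
  obtain ⟨b, hbA, htb⟩ := exists_transv_mem hs hCK (hmapR A) hbo hA'1
  have hna := htb.hna hs hCK
  obtain ⟨hp, ⟨iso⟩, -, -⟩ := htb.EE_iso hs hna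
  have hbJ : b ∈ (Cfsg.thompsonSubgroup p G).map (psi (ZW p G)) :=
    Subgroup.map_mono (le_thompsonSubgroup hA) hbA
  haveI hJc : (Cfsg.thompsonSubgroup p G).Characteristic := (Cfsg.Agent.S0602.result (p := p)).1
  have hJnorm : (Cfsg.thompsonSubgroup p G).Normal := Subgroup.normal_of_characteristic _
  have hJn : ∀ x ∈ (psi (ZW p G)).range, ∀ y ∈ (Cfsg.thompsonSubgroup p G).map (psi (ZW p G)),
      x * y * x⁻¹ ∈ (Cfsg.thompsonSubgroup p G).map (psi (ZW p G)) := by
    rintro _ ⟨g, rfl⟩ _ ⟨j, hj, rfl⟩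
    exact ⟨g * j * g⁻¹, hJnorm.conj_mem j hj g, by simp⟩
  have hE'J : EE (coreOf p (psi (ZW p G)).range) b ≤
      (Cfsg.thompsonSubgroup p G).map (psi (ZW p G)) := by
    apply sup_le
    · rw [Subgroup.commutator_le]
      intro k hk z hz
      have hzJ : z ∈ (Cfsg.thompsonSubgroup p G).map (psi (ZW p G)) :=
        (Subgroup.zpowers_le.mpr hbJ) hz
      have e : ⁅k, z⁆ = (k * z * k⁻¹) * z⁻¹ := by rw [commutatorElement_def]
      rw [e]
      exact Subgroup.mul_mem _ (hJn k (hs.KH hk) z hzJ) (Subgroup.inv_mem _ hzJ)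
    · exact Subgroup.zpowers_le.mpr hbJ
  have hJ'N : (Cfsg.thompsonSubgroup p G).map (psi (ZW p G)) ≤
      Subgroup.normalizer ((EE (coreOf p (psi (ZW p G)).range) b : Subgroup _) : Set _) := by
    rw [Subgroup.map_le_iff_le_comap]
    unfold Cfsg.thompsonSubgroup
    apply sSup_le
    intro A₂ hA₂
    rw [← Subgroup.map_le_iff_le_comap]
    exact offender_le_of_transv_mem hs hCK _
      (fun c hc => transv_mem_normalizer_EE hs hCK htb hc) (hmapR A₂)
      (bestOffender_map (ZW p G) (isBestOffenderOn_of_mem_max (ZW p G) A₂ hWe hA₂))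
  have hCE : Subgroup.centralizer ((ZW p G : Subgroup G) : Set G) ≤
      (EE (coreOf p (psi (ZW p G)).range) b).comap (psi (ZW p G)) := by
    intro c hc
    rw [← psi_ker, MonoidHom.mem_ker] at hc
    show psi (ZW p G) c ∈ EE (coreOf p (psi (ZW p G)).range) b
    rw [hc]
    exact Subgroup.one_mem _
  refine ⟨hp, (EE (coreOf p (psi (ZW p G)).range) b).comap (psi (ZW p G)), hCE, ?_, ?_, ?_⟩
  · intro e he
    obtain ⟨j, hj, hje⟩ := hE'J (show psi (ZW p G) e ∈ _ from he)
    have h1 : j⁻¹ * e ∈ Subgroup.centralizer ((ZW p G : Subgroup G) : Set G) := by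
      rw [← psi_ker, MonoidHom.mem_ker, map_mul, map_inv, hje, inv_mul_cancel]
    have h2 : e = j * (j⁻¹ * e) := by group
    rw [h2]
    exact Subgroup.mul_mem_sup hj h1
  · apply sup_le
    · intro j hj
      exact Subgroup.le_normalizer_comap (psi (ZW p G)) (hJ'N ⟨j, hj, rfl⟩)
    · exact hCE.trans Subgroup.le_normalizer
  · haveI hCn : (Subgroup.centralizer ((ZW p G : Subgroup G) : Set G)).Normal :=
      Subgroup.normal_centralizer
    have hn : ((Subgroup.centralizer ((ZW p G : Subgroup G) : Set G)).subgroupOf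
        ((EE (coreOf p (psi (ZW p G)).range) b).comap (psi (ZW p G)))).Normal := inferInstance
    refine ⟨hn, ?_⟩
    have hf : Function.Surjective
        ((psi (ZW p G)).subgroupComap (EE (coreOf p (psi (ZW p G)).range) b)) := by
      rintro ⟨y, hy⟩
      obtain ⟨j, -, rfl⟩ := hE'J hy
      exact ⟨⟨j, hy⟩, rfl⟩
    have hker : (Subgroup.centralizer ((ZW p G : Subgroup G) : Set G)).subgroupOf
        ((EE (coreOf p (psi (ZW p G)).range) b).comap (psi (ZW p G))) =
        ((psi (ZW p G)).subgroupComap (EE (coreOf p (psi (ZW p G)).range) b)).ker := by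
      ext x
      rw [Subgroup.mem_subgroupOf, MonoidHom.mem_ker, ← psi_ker, MonoidHom.mem_ker]
      constructor
      · intro h
        exact Subtype.ext h
      · intro h
        exact congrArg Subtype.val h
    exact ⟨(QuotientGroup.quotientMulEquivOfEq hker).trans
      ((QuotientGroup.quotientKerEquivOfSurjective _ hf).trans iso)⟩

end Cfsg.Agent.Lib.Helper11.FFT
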