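import Mathlib
import Cfsg.Agent.Lib.Helper11.FFGlobal
import Cfsg.Agent.S0055

/-!
The structure theorem for failure of factorization, for an arbitrary injective
parametrization `f` of the subgroups `E_a = [K, a]⟨a⟩` (`a` a transvection).
-/

set_option autoImplicit false

namespace Cfsg.Agent.Lib.Helper11.FF

open scoped commutatorElement
open Cfsg.Agent.Lib.Helper47 Cfsg.Agent.Lib.Helper34

variable {G : Type*} [Group G]

section thm

variable [Finite G] {p : ℕ} [Fact p.Prime] {V H K : Subgroup G} {a : G}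

theorem exists_transv_of_ne_bot (hs : Setup p V H K)
    (hCK : H ⊓ Subgroup.centralizer (K : Set G) ≤ K)
    (hS3 : H = ⨆ A : {A : Subgroup G // A ≤ H ∧ Cfsg.IsBestOffenderOn p V A}, (A : Subgroup G))
    (hH1 : H ≠ ⊥) : ∃ b, IsTransv p V H b := by
  by_contra hcon
  push Not at hcon
  apply hH1
  rw [eq_bot_iff]
  exact le_of_transv_mem hs hCK hS3 ⊥ (fun b hb => absurd hb (hcon b))

/-- `C_V(K) ≤ C_V(H)`. -/
theorem fix_K_le (hs : Setup p V H K)
    (hCK : H ⊓ Subgroup.centralizer (K : Set G) ≤ K)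
    (hS3 : H = ⨆ A : {A : Subgroup G // A ≤ H ∧ Cfsg.IsBestOffenderOn p V A}, (A : Subgroup G)) :
    V ⊓ Subgroup.centralizer (K : Set G) ≤ V ⊓ Subgroup.centralizer (H : Set G) := by
  intro v hv
  refine ⟨hv.1, ?_⟩
  show v ∈ Subgroup.centralizer (H : Set G)
  have h1 : H ≤ Subgroup.centralizer ({v} : Set G) := by
    apply le_of_transv_mem hs hCK hS3
    intro b htb
    rw [mem_centralizer_singleton_iff]
    have hv' : v ∈ V ⊓ Subgroup.centralizer (QQ K b : Set G) :=
      ⟨hv.1, Subgroup.centralizer_le (by exact_mod_cast (QQ_le_K hs htb.mem : QQ K b ≤ K)) hv.2⟩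
    exact (htb.commute_of_mem_fix hs (htb.hna hs hCK) hv').symm
  rw [Subgroup.mem_centralizer_iff]
  intro h hh
  exact (mem_centralizer_singleton_iff.mp (h1 hh)).symm

theorem structure_thm (hs : Setup p V H K)
    (hCK : H ⊓ Subgroup.centralizer (K : Set G) ≤ K)
    (hS3 : H = ⨆ A : {A : Subgroup G // A ≤ H ∧ Cfsg.IsBestOffenderOn p V A}, (A : Subgroup G))
    (hH1 : H ≠ ⊥) {ι : Type*} (f : ι → Subgroup G) (hinj : Function.Injective f)
    (hf : ∀ i, ∃ a, IsTransv p V H a ∧ f i = EE K a)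
    (hsurj : ∀ a, IsTransv p V H a → ∃ i, f i = EE K a) :
    (p = 2 ∨ p = 3) ∧
    (∀ i, H ≤ Subgroup.normalizer ((f i : Subgroup G) : Set G) ∧
      Nonempty (↥(f i) ≃* Matrix.SpecialLinearGroup (Fin 2) (ZMod p)) ∧
      Nat.card ↥(⁅V, f i⁆) = p ^ 2) ∧
    iSupIndep f ∧ (⨆ i, f i) = H ∧
    iSupIndep (fun o : Option ι =>
      o.elim (V ⊓ Subgroup.centralizer (H : Set G)) (fun i => ⁅V, f i⁆)) ∧
    (V ⊓ Subgroup.centralizer (H : Set G)) ⊔ (⨆ i, ⁅V, f i⁆) = V := by
  have hcomm : ∀ i, ∃ a, IsTransv p V H a ∧ f i = EE K a ∧ ⁅V, f i⁆ = spn V K a := by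
    intro i
    obtain ⟨a, ht, hi⟩ := hf i
    exact ⟨a, ht, hi, by rw [hi]; exact ht.commutator_EE hs⟩
  have hne : ∀ i j, i ≠ j → ∀ a b, IsTransv p V H a → IsTransv p V H b → f i = EE K a →
      f j = EE K b → EE K b ≤ Subgroup.centralizer ((spn V K a : Subgroup G) : Set G) ∧
        spn V K b ≤ Subgroup.centralizer ((EE K a : Subgroup G) : Set G) := by
    intro i j hij a b hta htb hi hj
    rcases htb.dichotomy hs hta (htb.hna hs hCK) (hta.hna hs hCK) with h | ⟨-, h2, h3⟩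
    · exfalso
      apply hij
      apply hinj
      rw [hi, hj, h]
    · exact ⟨Subgroup.le_centralizer_iff.mp h3, h2⟩
  have hWK : (⨆ i, ⁅V, f i⁆) ≤ ⁅V, K⁆ := by
    apply iSup_le
    intro i
    obtain ⟨a, ht, -, hi⟩ := hcomm i
    rw [hi, ← ht.commutator_QQ hs (ht.hna hs hCK)]
    exact Subgroup.commutator_mono le_rfl (QQ_le_K hs ht.mem)
  have hWV : (⨆ i, ⁅V, f i⁆) ≤ V := by
    apply iSup_le
    intro i
    obtain ⟨a, ht, -, hi⟩ := hcomm i
    rw [hi]
    exact spn_le hs ht.mem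
  haveI : IsMulCommutative V := ⟨⟨fun x y => Subtype.ext (hs.comm _ x.2 _ y.2)⟩⟩
  have hKV : K ≤ Subgroup.normalizer (V : Set G) := hs.KH.trans hs.norm
  obtain ⟨hd1, hd2⟩ := Cfsg.Agent.S0055.result K V hKV (hs.coprime_card_of_le le_rfl le_rfl)
  have hfix : V ⊓ Subgroup.centralizer (H : Set G) ≤ V ⊓ Subgroup.centralizer (K : Set G) :=
    inf_le_inf_left _ (Subgroup.centralizer_le (by exact_mod_cast hs.KH))
  refine ⟨?_, ?_, ?_, ?_, ?_, ?_⟩
  · obtain ⟨b, htb⟩ := exists_transv_of_ne_bot hs hCK hS3 hH1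
    exact (htb.EE_iso hs (htb.hna hs hCK)).1
  · intro i
    obtain ⟨a, ht, hi, hi'⟩ := hcomm i
    rw [hi', hi]
    exact ⟨ht.le_normalizer_EE hs hCK hS3, (ht.EE_iso hs (ht.hna hs hCK)).2.1,
      ht.card_spn hs (ht.hna hs hCK)⟩
  · rw [iSupIndep_def]
    intro i
    obtain ⟨a, ht, hi, -⟩ := hcomm i
    rw [hi]
    refine Disjoint.mono_right ?_ (disjoint_iff.mpr (ht.EE_inf_eq hs hCK))
    apply iSup₂_le
    intro j hji
    obtain ⟨b, htb, hj, -⟩ := hcomm j
    rw [hj]
    exact le_inf (EE_le_H hs htb.mem) (hne i j (Ne.symm hji) a b ht htb hi hj).1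
  · apply le_antisymm
    · apply iSup_le
      intro i
      obtain ⟨a, ht, hi, -⟩ := hcomm i
      rw [hi]
      exact EE_le_H hs ht.mem
    · apply le_of_transv_mem hs hCK hS3
      intro b htb
      obtain ⟨i, hi⟩ := hsurj b htb
      exact (le_iSup f i) (hi ▸ (self_mem_EE : b ∈ EE K b))
  · rw [iSupIndep_def]
    intro o
    cases o with
    | none =>
      show Disjoint (V ⊓ Subgroup.centralizer (H : Set G)) _
      refine Disjoint.mono hfix ?_ (disjoint_iff.mpr hd1)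
      apply iSup₂_le
      intro o' ho'
      cases o' with
      | none => exact absurd rfl ho'
      | some j => exact (le_iSup (fun i => ⁅V, f i⁆) j).trans hWK
    | some i =>
      obtain ⟨a, ht, hi, hi'⟩ := hcomm i
      show Disjoint ⁅V, f i⁆ _
      rw [hi']
      refine Disjoint.mono_right ?_ (disjoint_iff.mpr (ht.spn_inf_fix_EE hs (ht.hna hs hCK)))
      apply iSup₂_le
      intro o' ho'
      cases o' with
      | none =>
        show V ⊓ Subgroup.centralizer (H : Set G) ≤ _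
        exact inf_le_inf_left _ (Subgroup.centralizer_le
          (by exact_mod_cast (EE_le_H hs ht.mem : EE K a ≤ H)))
      | some j =>
        show ⁅V, f j⁆ ≤ _
        obtain ⟨b, htb, hj, hj'⟩ := hcomm j
        rw [hj']
        have hji : i ≠ j := fun h => ho' (by rw [h])
        exact le_inf (spn_le hs htb.mem) (hne i j hji a b ht htb hi hj).2
  · apply le_antisymm (sup_le inf_le_left hWV)
    have hstab : H ≤ commStab V (⨆ i, ⁅V, f i⁆) hWV := by
      apply le_of_transv_mem hs hCK hS3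
      intro b htb
      refine ⟨hs.norm htb.mem, ?_⟩
      intro v hv
      obtain ⟨i, hi⟩ := hsurj b htb
      have h1 : ⁅v, b⁆ ∈ ⁅V, f i⁆ := by
        rw [hi]
        exact Subgroup.commutator_mem_commutator hv self_mem_EE
      exact (le_iSup (fun i => ⁅V, f i⁆) i) h1
    have hVK : ⁅V, K⁆ ≤ ⨆ i, ⁅V, f i⁆ := by
      rw [Subgroup.commutator_le]
      intro v hv k hk
      exact (hstab (hs.KH hk)).2 v hv
    calc V = (V ⊓ Subgroup.centralizer (K : Set G)) ⊔ ⁅V, K⁆ := hd2.symm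
      _ ≤ _ := sup_le_sup (fix_K_le hs hCK hS3) hVK

end thm

end Cfsg.Agent.Lib.Helper11.FF
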