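import Mathlib
import Cfsg.Agent.Lib.Helper11.FFTF
import Cfsg.Agent.Lib.Helper11.FFPair
import Cfsg.Agent.Lib.Helper11.ThompsonSylow
import Cfsg.Agent.Lib.Helper48.Generation

/-!
Coprime operators on the failure-of-factorization configuration: an element normalizing the
setup and a component `E = EE K a` of order prime to its own order centralizes `E`; the "norm"
of an element of `E` over a group of such operators.
-/

set_option autoImplicit false

namespace Cfsg.Agent.Lib.Helper11.FF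

open scoped commutatorElement
open Cfsg.Agent.Lib.Helper47 Cfsg.Agent.Lib.Helper34

section conj

variable {G : Type*} [Group G] [Finite G] {p : ℕ} [Fact p.Prime] {V H K : Subgroup G} {a : G}

omit [Finite G] [Fact p.Prime] in
theorem IsTransv.conj_of_normalizes (ht : IsTransv p V H a) {y : G}
    (hyV : y ∈ Subgroup.normalizer (V : Set G)) (hyH : y * a * y⁻¹ ∈ H) :
    IsTransv p V H (y * a * y⁻¹) := by
  refine ⟨hyH, ?_, ?_⟩
  · rw [conj_pow, ht.pow]; group
  · rw [ctr_conj a hyV, card_map_conj, ht.card]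

omit [Finite G] [Fact p.Prime] in
theorem EE_map_conj {y : G} (hyK : y ∈ Subgroup.normalizer (K : Set G)) (a : G) :
    (EE K a).map (MulAut.conj y).toMonoidHom = EE K (y * a * y⁻¹) := by
  show (⁅K, Subgroup.zpowers a⁆ ⊔ Subgroup.zpowers a).map _ =
    ⁅K, Subgroup.zpowers (y * a * y⁻¹)⁆ ⊔ Subgroup.zpowers (y * a * y⁻¹)
  rw [Subgroup.map_sup, Subgroup.map_commutator, MonoidHom.map_zpowers,
    map_conj_eq_self_of_mem_normalizer hyK]
  rfl

omit [Finite G] [Fact p.Prime] in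
theorem conj_mem_EE_conj {y g : G} (hyK : y ∈ Subgroup.normalizer (K : Set G))
    (hg : g ∈ EE K a) : y * g * y⁻¹ ∈ EE K (y * a * y⁻¹) := by
  rw [← EE_map_conj hyK]
  exact conj_mem_map_conj hg

/-- a refined form of `offender_le_of_transv_mem`: only the transvections inside `A` matter. -/
theorem offender_le_of_transv_mem' (hs : Setup p V H K)
    (hCK : H ⊓ Subgroup.centralizer (K : Set G) ≤ K) (T : Subgroup G) {A : Subgroup G}
    (hAH : A ≤ H) (hA : Cfsg.IsBestOffenderOn p V A)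
    (h : ∀ b ∈ A, IsTransv p V H b → b ∈ T) : A ≤ T := by
  refine (offender_le_iSup hs hCK _ A rfl hAH hA).trans (iSup_le ?_)
  rintro ⟨C, hCA, hC⟩
  obtain ⟨c, rfl, hc⟩ := hC.exists_transv hs hCK (hCA.trans hAH)
  exact Subgroup.zpowers_le.mpr (h c (hCA (Subgroup.mem_zpowers c)) hc)

/-- an element of prime order `q ∉ {2, 3}` normalizing `V` and the component `E` centralizes
`[V, E]` (here `p ∈ {2, 3}`). -/
theorem IsTransv.conj_spn_eq_of_normalizes_EE (hs : Setup p V H K) (ht : IsTransv p V H a)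
    (hna : ∃ x ∈ K, x * a ≠ a * x) (hp : p = 2 ∨ p = 3) {q : ℕ} [hq : Fact q.Prime]
    (hq2 : q ≠ 2) (hq3 : q ≠ 3) {z : G} (hzV : z ∈ Subgroup.normalizer (V : Set G))
    (hzE : z ∈ Subgroup.normalizer ((EE K a : Subgroup G) : Set G)) (hzq : z ^ q = 1) :
    ∀ w ∈ spn V K a, z * w * z⁻¹ = w := by
  classical
  have hqp : q.Prime := hq.out
  have hzS : z ∈ Subgroup.normalizer ((spn V K a : Subgroup G) : Set G) := by
    rw [← ht.commutator_EE hs]
    apply Cfsg.Agent.Lib.Helper11.mem_normalizer_of_map_conj_eq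
    rw [Subgroup.map_commutator, map_conj_eq_self_of_mem_normalizer hzV,
      map_conj_eq_self_of_mem_normalizer hzE]
  let z' : Subgroup.normalizer ((spn V K a : Subgroup G) : Set G) := ⟨z, hzS⟩
  let φ : MulAut ↥(spn V K a) := Cfsg.Agent.Lib.Helper48.normConj (spn V K a) z'
  have hφq : φ ^ q = 1 := by
    show (Cfsg.Agent.Lib.Helper48.normConj (spn V K a) z') ^ q = 1
    rw [← map_pow]
    have : z' ^ q = 1 := Subtype.ext hzq
    rw [this, map_one]
  haveI : Fintype ↥(spn V K a) := Fintype.ofFinite _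
  let σ : Equiv.Perm ↥(spn V K a) := MulAut.toPerm _ φ
  have hσ : σ ^ q ^ 1 = 1 := by
    show (MulAut.toPerm _ φ) ^ q ^ 1 = 1
    rw [pow_one, ← map_pow, hφq, map_one]
  have hmod := Equiv.Perm.card_compl_support_modEq hσ
  have hcardF : Nat.card ↥(Cfsg.Agent.Lib.Helper48.fixSubgroup φ) = σ.supportᶜ.card := by
    rw [Nat.card_eq_fintype_card, Fintype.card_subtype]
    congr 1
    ext w
    simp only [Finset.mem_filter, Finset.mem_univ, true_and, Finset.mem_compl,
      Equiv.Perm.mem_support, not_not]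
    rfl
  have hcardS : Fintype.card ↥(spn V K a) = p ^ 2 := by
    rw [← Nat.card_eq_fintype_card]
    exact ht.card_spn hs hna
  rw [← hcardF, hcardS] at hmod
  have hdvd : Nat.card ↥(Cfsg.Agent.Lib.Helper48.fixSubgroup φ) ∣ p ^ 2 := by
    have := Subgroup.card_subgroup_dvd_card (Cfsg.Agent.Lib.Helper48.fixSubgroup φ)
    rwa [ht.card_spn hs hna] at this
  have hFtop : Cfsg.Agent.Lib.Helper48.fixSubgroup φ = ⊤ := by
    apply Subgroup.eq_top_of_card_eq
    rw [ht.card_spn hs hna]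
    have hpp : p.Prime := Fact.out
    obtain ⟨k, hk2, hk⟩ := (Nat.dvd_prime_pow hpp).mp hdvd
    rw [hk] at hmod ⊢
    have hle : p ^ k ≤ p ^ 2 := Nat.pow_le_pow_right hpp.pos hk2
    have hd : q ∣ p ^ 2 - p ^ k := (Nat.modEq_iff_dvd' hle).mp hmod
    interval_cases k
    · exfalso
      rcases hp with rfl | rfl
      · have h3 : q ∣ 3 := by simpa using hd
        exact hq3 ((Nat.prime_dvd_prime_iff_eq hqp Nat.prime_three).mp h3)
      · have h8 : q ∣ 2 ^ 3 := by simpa using hd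
        exact hq2 ((Nat.prime_dvd_prime_iff_eq hqp Nat.prime_two).mp (hqp.dvd_of_dvd_pow h8))
    · exfalso
      rcases hp with rfl | rfl
      · have h2 : q ∣ 2 := by simpa using hd
        exact hq2 ((Nat.prime_dvd_prime_iff_eq hqp Nat.prime_two).mp h2)
      · have h6 : q ∣ 2 * 3 := by simpa using hd
        rcases (Nat.Prime.dvd_mul hqp).mp h6 with h | h
        · exact hq2 ((Nat.prime_dvd_prime_iff_eq hqp Nat.prime_two).mp h)
        · exact hq3 ((Nat.prime_dvd_prime_iff_eq hqp Nat.prime_three).mp h)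
    · rfl
  intro w hw
  have h1 : (⟨w, hw⟩ : ↥(spn V K a)) ∈ Cfsg.Agent.Lib.Helper48.fixSubgroup φ := by
    rw [hFtop]; trivial
  exact congrArg Subtype.val ((Cfsg.Agent.Lib.Helper48.mem_fixSubgroup _ _).mp h1)

/-- an element of prime order `q ∉ {2, 3}` normalizing `V` and the component `E` centralizes
`E` (here `p ∈ {2, 3}`). -/
theorem IsTransv.commute_of_normalizes_EE (hs : Setup p V H K) (ht : IsTransv p V H a)
    (hna : ∃ x ∈ K, x * a ≠ a * x) (hp : p = 2 ∨ p = 3) {q : ℕ} [hq : Fact q.Prime]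
    (hq2 : q ≠ 2) (hq3 : q ≠ 3) {z : G} (hzV : z ∈ Subgroup.normalizer (V : Set G))
    (hzE : z ∈ Subgroup.normalizer ((EE K a : Subgroup G) : Set G)) (hzq : z ^ q = 1) :
    ∀ e ∈ EE K a, z * e = e * z := by
  have hfix := ht.conj_spn_eq_of_normalizes_EE hs hna hp hq2 hq3 hzV hzE hzq
  have hfix' : ∀ w ∈ spn V K a, z⁻¹ * w * z = w := by
    intro w hw
    have h1 := hfix w hw
    calc z⁻¹ * w * z = z⁻¹ * (z * w * z⁻¹) * z := by rw [h1]
      _ = w := by group
  intro e he
  have hc : z * e * z⁻¹ * e⁻¹ ∈ EE K a ⊓ Subgroup.centralizer (spn V K a : Set G) := by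
    refine ⟨(EE K a).mul_mem ((Subgroup.mem_normalizer_iff.mp hzE e).mp he)
      ((EE K a).inv_mem he), ?_⟩
    show z * e * z⁻¹ * e⁻¹ ∈ Subgroup.centralizer (spn V K a : Set G)
    rw [Subgroup.mem_centralizer_iff]
    intro w hw
    have hew : e⁻¹ * w * e ∈ spn V K a := by
      have hn := ht.EE_le_normalizer_spn hs ((EE K a).inv_mem he)
      have := (Subgroup.mem_normalizer_iff.mp hn w).mp hw
      simpa using this
    have h1 := hfix' _ hew
    have h2 := hfix w hw
    have e1 : z * e * z⁻¹ * e⁻¹ * w = z * e * (z⁻¹ * (e⁻¹ * w * e) * z) * z⁻¹ * e⁻¹ := by group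
    rw [e1, h1]
    have e2 : z * e * (e⁻¹ * w * e) * z⁻¹ * e⁻¹ = (z * w * z⁻¹) * (z * e * z⁻¹ * e⁻¹) := by group
    rw [e2, h2]
  rw [ht.EE_inf_centralizer_spn hs hna, Subgroup.mem_bot] at hc
  calc z * e = z * e * z⁻¹ * e⁻¹ * (e * z) := by group
    _ = e * z := by rw [hc, one_mul]

/-- conjugating the span `[V, E]` by an element normalizing the setup. -/
theorem IsTransv.spn_map_conj (hs : Setup p V H K) (ht : IsTransv p V H a) {y : G}
    (hyV : y ∈ Subgroup.normalizer (V : Set G)) (hyK : y ∈ Subgroup.normalizer (K : Set G))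
    (hyH : y * a * y⁻¹ ∈ H) :
    (spn V K a).map (MulAut.conj y).toMonoidHom = spn V K (y * a * y⁻¹) := by
  rw [← ht.commutator_EE hs, ← (ht.conj_of_normalizes hyV hyH).commutator_EE hs,
    Subgroup.map_commutator, map_conj_eq_self_of_mem_normalizer hyV, EE_map_conj hyK]

/-- an element normalizing the setup but not the component `E` moves `[V, E]` into `C_V(E)`. -/
theorem IsTransv.conj_spn_mem_centralizer (hs : Setup p V H K)
    (hCK : H ⊓ Subgroup.centralizer (K : Set G) ≤ K) (ht : IsTransv p V H a) {y : G}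
    (hyV : y ∈ Subgroup.normalizer (V : Set G)) (hyK : y ∈ Subgroup.normalizer (K : Set G))
    (hyH : y * a * y⁻¹ ∈ H)
    (hyE : y ∉ Subgroup.normalizer ((EE K a : Subgroup G) : Set G)) :
    ∀ u ∈ spn V K a, y * u * y⁻¹ ∈ Subgroup.centralizer ((EE K a : Subgroup G) : Set G) := by
  intro u hu
  have hty := ht.conj_of_normalizes hyV hyH
  have hmem : y * u * y⁻¹ ∈ spn V K (y * a * y⁻¹) := by
    rw [← ht.spn_map_conj hs hyV hyK hyH]
    exact conj_mem_map_conj hu
  rcases hty.dichotomy hs ht (hty.hna hs hCK) (ht.hna hs hCK) with h | ⟨-, h, -⟩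
  · exfalso
    apply hyE
    apply Cfsg.Agent.Lib.Helper11.mem_normalizer_of_map_conj_eq
    rw [EE_map_conj hyK a, h]
  · exact h hmem

end conj

section norm

theorem noncommProd_univ_equiv {ι β : Type*} [Fintype ι] [Monoid β] (σ : ι ≃ ι) (f : ι → β)
    (h : ((Finset.univ : Finset ι) : Set ι).Pairwise (Function.onFun Commute f))
    (h' : ((Finset.univ : Finset ι) : Set ι).Pairwise
      (Function.onFun Commute (fun i => f (σ i)))) :
    (Finset.univ : Finset ι).noncommProd (fun i => f (σ i)) h' =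
      (Finset.univ : Finset ι).noncommProd f h := by
  have key : ∀ (s t : Multiset β) (hs : {x | x ∈ s}.Pairwise Commute)
      (ht : {x | x ∈ t}.Pairwise Commute), s = t → s.noncommProd hs = t.noncommProd ht := by
    intro s t hs ht e
    subst e
    rfl
  unfold Finset.noncommProd
  apply key
  have h1 : Multiset.map σ (Finset.univ : Finset ι).val = (Finset.univ : Finset ι).val := by
    simp
  conv_rhs => rw [← h1]
  rw [Multiset.map_map]
  rfl

variable {G : Type*} [Group G] [Finite G] {p : ℕ} [Fact p.Prime] {V H K : Subgroup G} {a : G}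

/-- the norm of `e ∈ E` over a group `Γ` of coprime operators: an element of `H` fixed by `Γ`
and acting on `E` as a power `e ^ m`, `m` a divisor of `|Γ|`. -/
theorem IsTransv.exists_norm' (hs : Setup p V H K)
    (hCK : H ⊓ Subgroup.centralizer (K : Set G) ≤ K)
    (ht : IsTransv p V H a) (hp : p = 2 ∨ p = 3) {q : ℕ} [Fact q.Prime] (hq2 : q ≠ 2)
    (hq3 : q ≠ 3) {Γ : Type*} [Group Γ] [Finite Γ] (θ : Γ →* G)
    (hθV : ∀ x, θ x ∈ Subgroup.normalizer (V : Set G))
    (hθH : ∀ x, θ x ∈ Subgroup.normalizer (H : Set G))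
    (hθK : ∀ x, θ x ∈ Subgroup.normalizer (K : Set G))
    (hθq : ∀ x, θ x ^ q = 1) {e : G} (he : e ∈ EE K a) :
    ∃ (n c : G) (m : ℕ), n ∈ H ∧ (∀ y, θ y * n = n * θ y) ∧ n = e ^ m * c ∧
      c ∈ Subgroup.centralizer ((EE K a : Subgroup G) : Set G) ⊓
        Subgroup.centralizer ((spn V K a : Subgroup G) : Set G) ∧ m ∣ Nat.card Γ := by
  classical
  haveI : Fintype Γ := Fintype.ofFinite Γ
  have hna := ht.hna hs hCK
  have htx : ∀ x : Γ, IsTransv p V H (θ x * a * (θ x)⁻¹) := fun x =>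
    ht.conj_of_normalizes (hθV x) ((Subgroup.mem_normalizer_iff.mp (hθH x) a).mp ht.mem)
  have hstab : ∀ z : Γ, θ z ∈ Subgroup.normalizer ((EE K a : Subgroup G) : Set G) →
      ∀ g ∈ EE K a, θ z * g = g * θ z := fun z hz =>
    ht.commute_of_normalizes_EE hs hna hp hq2 hq3 (hθV z) hz (hθq z)
  have hout : ∀ z : Γ, θ z ∉ Subgroup.normalizer ((EE K a : Subgroup G) : Set G) →
      ∀ g ∈ EE K a,
        θ z * g * (θ z)⁻¹ ∈ Subgroup.centralizer ((EE K a : Subgroup G) : Set G) ⊓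
          Subgroup.centralizer ((spn V K a : Subgroup G) : Set G) := by
    intro z hz g hg
    rcases (htx z).dichotomy hs ht ((htx z).hna hs hCK) hna with h | ⟨h, -, h3⟩
    · exfalso
      apply hz
      apply Cfsg.Agent.Lib.Helper11.mem_normalizer_of_map_conj_eq
      rw [EE_map_conj (hθK z) a, h]
    · refine ⟨h (conj_mem_EE_conj (hθK z) hg), ?_⟩
      show θ z * g * (θ z)⁻¹ ∈ Subgroup.centralizer ((spn V K a : Subgroup G) : Set G)
      rw [Subgroup.mem_centralizer_iff]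
      intro w hw
      exact (Subgroup.mem_centralizer_iff.mp (h3 hw) _ (conj_mem_EE_conj (hθK z) hg)).symm
  let f : Γ → G := fun x => θ x * e * (θ x)⁻¹
  have hcomm : ∀ x y : Γ, Commute (f x) (f y) := by
    intro x y
    have key : ∀ z : Γ, Commute e (θ z * e * (θ z)⁻¹) := by
      intro z
      by_cases hz : θ z ∈ Subgroup.normalizer ((EE K a : Subgroup G) : Set G)
      · have h1 := hstab z hz e he
        have e1 : θ z * e * (θ z)⁻¹ = e := by rw [h1]; group
        rw [e1]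
      · have h1 := (hout z hz e he).1
        exact Subgroup.mem_centralizer_iff.mp h1 e he
    have h2 := key (x⁻¹ * y)
    have h4 : f y = θ x * (θ (x⁻¹ * y) * e * (θ (x⁻¹ * y))⁻¹) * (θ x)⁻¹ := by
      show θ y * e * (θ y)⁻¹ = _
      rw [map_mul, map_inv]; group
    rw [h4]
    exact (Commute.conj_iff (θ x)).mpr h2
  have hpw : ((Finset.univ : Finset Γ) : Set Γ).Pairwise (Function.onFun Commute f) :=
    fun x _ y _ _ => hcomm x y
  let Γ₁ : Subgroup Γ := (Subgroup.normalizer ((EE K a : Subgroup G) : Set G)).comap θ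
  refine ⟨(Finset.univ : Finset Γ).noncommProd f hpw,
    (Finset.univ.filter (fun x => x ∉ Γ₁)).noncommProd f (fun x _ y _ _ => hcomm x y),
    Nat.card Γ₁, ?_, ?_, ?_, ?_, Subgroup.card_subgroup_dvd_card Γ₁⟩
  · apply Subgroup.noncommProd_mem
    intro x _
    exact (Subgroup.mem_normalizer_iff.mp (hθH x) e).mp (EE_le_H hs ht.mem he)
  · intro y
    have h1 := Finset.map_noncommProd (Finset.univ : Finset Γ) f hpw (MulAut.conj (θ y))
    have h2 : (Finset.univ : Finset Γ).noncommProd (fun i => MulAut.conj (θ y) (f i))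
        (fun _ hx _ hy _ => (hpw.of_refl hx hy).map (MulAut.conj (θ y))) =
        (Finset.univ : Finset Γ).noncommProd f hpw := by
      have h3 := noncommProd_univ_equiv (Equiv.mulLeft y) f hpw (fun x _ z _ _ => hcomm _ _)
      rw [← h3]
      apply Finset.noncommProd_congr rfl
      intro x _
      show θ y * (θ x * e * (θ x)⁻¹) * (θ y)⁻¹ = θ (y * x) * e * (θ (y * x))⁻¹
      rw [map_mul]; group
    rw [h2] at h1
    have h4 : θ y * (Finset.univ : Finset Γ).noncommProd f hpw * (θ y)⁻¹ =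
        (Finset.univ : Finset Γ).noncommProd f hpw := h1
    calc θ y * (Finset.univ : Finset Γ).noncommProd f hpw
        = θ y * (Finset.univ : Finset Γ).noncommProd f hpw * (θ y)⁻¹ * θ y := by group
      _ = (Finset.univ : Finset Γ).noncommProd f hpw * θ y := by rw [h4]
  · have hdisj : Disjoint (Finset.univ.filter (fun x : Γ => x ∈ Γ₁))
        (Finset.univ.filter (fun x : Γ => x ∉ Γ₁)) := Finset.disjoint_filter_filter_not _ _ _
    have hun : Finset.univ.filter (fun x : Γ => x ∈ Γ₁) ∪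
        Finset.univ.filter (fun x : Γ => x ∉ Γ₁) = Finset.univ :=
      Finset.filter_union_filter_not_eq _ _
    have h1 : (Finset.univ : Finset Γ).noncommProd f hpw =
        (Finset.univ.filter (fun x : Γ => x ∈ Γ₁) ∪
          Finset.univ.filter (fun x : Γ => x ∉ Γ₁)).noncommProd f
          (fun x _ y _ _ => hcomm x y) :=
      Finset.noncommProd_congr hun.symm (fun _ _ => rfl) _
    have hpw2 : ((Finset.univ.filter (fun x : Γ => x ∈ Γ₁) ∪
        Finset.univ.filter (fun x : Γ => x ∉ Γ₁) : Finset Γ) : Set Γ).Pairwise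
        (Function.onFun Commute f) := fun x _ y _ _ => hcomm x y
    refine h1.trans ((Finset.noncommProd_union_of_disjoint hdisj f hpw2).trans ?_)
    congr 1
    rw [Finset.noncommProd_eq_pow_card _ _ _ e]
    · congr 1
      rw [Nat.card_eq_fintype_card, Fintype.card_subtype]
    · intro x hx
      have hx' : x ∈ Γ₁ := (Finset.mem_filter.mp hx).2
      have h2 := hstab x hx' e he
      show θ x * e * (θ x)⁻¹ = e
      rw [h2]; group
  · apply Subgroup.noncommProd_mem
    intro x hx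
    have hx' : x ∉ Γ₁ := (Finset.mem_filter.mp hx).2
    exact hout x hx' e he

theorem IsTransv.exists_norm (hs : Setup p V H K)
    (hCK : H ⊓ Subgroup.centralizer (K : Set G) ≤ K)
    (ht : IsTransv p V H a) (hp : p = 2 ∨ p = 3) {q : ℕ} [Fact q.Prime] (hq2 : q ≠ 2)
    (hq3 : q ≠ 3) {Γ : Type*} [Group Γ] [Finite Γ] (θ : Γ →* G)
    (hθV : ∀ x, θ x ∈ Subgroup.normalizer (V : Set G))
    (hθH : ∀ x, θ x ∈ Subgroup.normalizer (H : Set G))
    (hθK : ∀ x, θ x ∈ Subgroup.normalizer (K : Set G))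
    (hθq : ∀ x, θ x ^ q = 1) {e : G} (he : e ∈ EE K a) :
    ∃ (n c : G) (m : ℕ), n ∈ H ∧ (∀ y, θ y * n = n * θ y) ∧ n = e ^ m * c ∧
      c ∈ Subgroup.centralizer ((EE K a : Subgroup G) : Set G) ∧ m ∣ Nat.card Γ := by
  obtain ⟨n, c, m, h1, h2, h3, h4, h5⟩ :=
    ht.exists_norm' hs hCK hp hq2 hq3 θ hθV hθH hθK hθq he
  exact ⟨n, c, m, h1, h2, h3, h4.1, h5⟩

end norm

section consumer

variable {G : Type*} [Group G] [Finite G] {p : ℕ} [Fact p.Prime] {V H K : Subgroup G} {a : G}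

/-- `2` and `3` divide the order of `H` as soon as it contains a transvection. -/
theorem IsTransv.ne_of_not_dvd (hs : Setup p V H K) (ht : IsTransv p V H a)
    (hna : ∃ x ∈ K, x * a ≠ a * x) {q : ℕ} (hq : ¬ q ∣ Nat.card H) : q ≠ 2 ∧ q ≠ 3 := by
  obtain ⟨hp, -, h2, h3⟩ := ht.EE_iso hs hna
  have hcard := ht.card_EE hs
  have hdvd : Nat.card (EE K a) ∣ Nat.card H := Subgroup.card_dvd_of_le (EE_le_H hs ht.mem)
  have hQ1 : QQ K a ≠ ⊥ := by
    intro h
    apply ht.not_commute_QQ hs hna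
    intro x hx
    rw [h, Subgroup.mem_bot] at hx
    rw [hx]; simp
  have key : ∀ r : ℕ, r.Prime → IsPGroup r ↥(QQ K a) → r ∣ Nat.card (QQ K a) := by
    intro r hr hrQ
    haveI : Fact r.Prime := ⟨hr⟩
    obtain ⟨n, hn⟩ := IsPGroup.iff_card.mp hrQ
    rw [hn]
    rcases n with _ | n
    · exfalso
      apply hQ1
      rw [pow_zero] at hn
      exact (Subgroup.card_eq_one).mp hn
    · exact dvd_pow_self r (Nat.succ_ne_zero n)
  have hpd : p ∣ Nat.card H := (Dvd.intro_left _ hcard.symm).trans hdvd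
  have hQd : Nat.card (QQ K a) ∣ Nat.card H := (Dvd.intro _ hcard.symm).trans hdvd
  rcases hp with rfl | rfl
  · have h3d : 3 ∣ Nat.card H := (key 3 Nat.prime_three (h2 rfl)).trans hQd
    exact ⟨fun h => hq (h ▸ hpd), fun h => hq (h ▸ h3d)⟩
  · have h2d : 2 ∣ Nat.card H := (key 2 Nat.prime_two (h3 rfl).1).trans hQd
    exact ⟨fun h => hq (h ▸ h2d), fun h => hq (h ▸ hpd)⟩

/-- if `T` contains the transvection `a` and all fixed points in `H` of a group of operators of
exponent `q` (`q` not dividing `|H|`), then `T` contains the component `E`. -/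
theorem IsTransv.EE_le_of_fixed (hs : Setup p V H K)
    (hCK : H ⊓ Subgroup.centralizer (K : Set G) ≤ K) (ht : IsTransv p V H a)
    {q : ℕ} [Fact q.Prime] (hq : ¬ q ∣ Nat.card H)
    {Γ : Type*} [Group Γ] [Finite Γ] (hΓ : ∀ x : Γ, x ^ q = 1) (θ : Γ →* G)
    (hθV : ∀ x, θ x ∈ Subgroup.normalizer (V : Set G))
    (hθH : ∀ x, θ x ∈ Subgroup.normalizer (H : Set G))
    (hθK : ∀ x, θ x ∈ Subgroup.normalizer (K : Set G))
    (T : Subgroup G) (haT : a ∈ T) (hT : ∀ n ∈ H, (∀ y, θ y * n = n * θ y) → n ∈ T) :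
    EE K a ≤ T := by
  have hna := ht.hna hs hCK
  obtain ⟨hq2, hq3⟩ := ht.ne_of_not_dvd hs hna hq
  obtain ⟨hp, -⟩ := ht.EE_iso hs hna
  have hθq : ∀ x, θ x ^ q = 1 := fun x => by rw [← map_pow, hΓ x, map_one]
  obtain ⟨q₀, hq₀, hq₀a⟩ : ∃ q₀ ∈ QQ K a, q₀ * a ≠ a * q₀ := by
    by_contra hcon
    push Not at hcon
    exact ht.not_commute_QQ hs hna hcon
  obtain ⟨n, c, m, hnH, hfix, hn, hc, hm⟩ :=
    ht.exists_norm hs hCK hp hq2 hq3 θ hθV hθH hθK hθq (QQ_le_EE hq₀)
  have hnT : n ∈ T := hT n hnH hfix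
  have hΓp : IsPGroup q Γ := fun x => ⟨1, by rw [pow_one]; exact hΓ x⟩
  obtain ⟨k, hk⟩ := IsPGroup.iff_card.mp hΓp
  have hqq : q.Prime := Fact.out
  obtain ⟨j, rfl⟩ : ∃ j, m = q ^ j := by
    rw [hk] at hm
    obtain ⟨j, -, hj⟩ := (Nat.dvd_prime_pow hqq).mp hm
    exact ⟨j, hj⟩
  have hq₀K : q₀ ∈ K := QQ_le_K hs ht.mem hq₀
  have hord : orderOf q₀ ∣ Nat.card H := Subgroup.orderOf_dvd_natCard _ (hs.KH hq₀K)
  have hcop : (q ^ j).Coprime (orderOf q₀) := by
    apply Nat.Coprime.pow_left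
    rw [Nat.Prime.coprime_iff_not_dvd hqq]
    exact fun h => hq (h.trans hord)
  obtain ⟨i, hi⟩ := exists_pow_eq_self_of_coprime hcop
  have hx₁K : q₀ ^ q ^ j ∈ K := K.pow_mem hq₀K _
  have hx₁a : q₀ ^ q ^ j * a ≠ a * q₀ ^ q ^ j := by
    intro h
    apply hq₀a
    have h1 : Commute (q₀ ^ q ^ j) a := h
    have h2 := h1.pow_left i
    rw [hi] at h2
    exact h2
  have hca : a * c = c * a := Subgroup.mem_centralizer_iff.mp hc a self_mem_EE
  have hconj : q₀ ^ q ^ j * a * (q₀ ^ q ^ j)⁻¹ = n * a * n⁻¹ := by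
    rw [hn]
    have h1 : c * a * c⁻¹ = a := by rw [← hca]; group
    calc q₀ ^ q ^ j * a * (q₀ ^ q ^ j)⁻¹
        = q₀ ^ q ^ j * (c * a * c⁻¹) * (q₀ ^ q ^ j)⁻¹ := by rw [h1]
      _ = q₀ ^ q ^ j * c * a * (q₀ ^ q ^ j * c)⁻¹ := by group
  rw [← ht.sup_conj_eq hs hx₁K hx₁a]
  apply sup_le
  · exact Subgroup.zpowers_le.mpr haT
  · rw [Subgroup.zpowers_le, hconj]
    exact T.mul_mem (T.mul_mem hnT haT) (T.inv_mem hnT)

end consumer

end Cfsg.Agent.Lib.Helper11.FF
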