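import Mathlib
import Cfsg.Agent.Lib.Helper11.FFX
import Cfsg.Agent.Lib.Helper11.ZJ
import Cfsg.Agent.Lib.Helper23.Transport
import Cfsg.Agent.Lib.Helper91.Coprime
import Cfsg.Agent.Lib.Helper57.HSubA

/-!
Coprime operators and the failure of Thompson factorization (Kurzweil–Stellmacher 9.3.9/10):
for a `p`-solvable group `K` with `O_{p'}(K) = 1` and a group `Γ` of automorphisms of exponent
`q`, `q ∤ |K|`, `K = ⟨N_K(J(S)), C_K(Ω₁(Z(S))), C_K(Γ)⟩`.
-/

set_option autoImplicit false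

namespace Cfsg.Agent.Lib.Helper11.FFT

open scoped commutatorElement
open Cfsg.Agent.Lib.Helper10 Cfsg.Agent.Lib.Helper11.FF

section aut

variable {G : Type*} [Group G]

/-- `⟨Ω₁(Z(S))^G⟩` is invariant under automorphisms. -/
theorem ZW_aut_mem {p : ℕ} (α : MulAut G) {w : G} (hw : w ∈ ZW p G) : α w ∈ ZW p G := by
  have hle : (ZW p G).map α.toMonoidHom ≤ ZW p G := by
    show (⨆ S : Sylow p G, Cfsg.omegaOne p ((S : Subgroup G) ⊓
      Subgroup.centralizer ((S : Subgroup G) : Set G))).map α.toMonoidHom ≤ _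
    rw [Subgroup.map_iSup]
    apply iSup_le
    intro S
    refine le_trans ?_ (le_iSup (fun S : Sylow p G => Cfsg.omegaOne p ((S : Subgroup G) ⊓
      Subgroup.centralizer ((S : Subgroup G) : Set G))) (α • S))
    unfold Cfsg.omegaOne
    rw [MonoidHom.map_closure, Subgroup.closure_le]
    rintro _ ⟨x, ⟨hx, hxp⟩, rfl⟩
    apply Subgroup.subset_closure
    have hmem : ∀ s ∈ (S : Subgroup G), α s ∈ ((α • S : Sylow p G) : Subgroup G) := by
      intro s hs
      rw [Sylow.pointwise_smul_def]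
      exact Subgroup.smul_mem_pointwise_smul s α S hs
    refine ⟨⟨hmem x hx.1, ?_⟩, ?_⟩
    · show α x ∈ Subgroup.centralizer (((α • S : Sylow p G) : Subgroup G) : Set G)
      rw [Subgroup.mem_centralizer_iff]
      intro y hy
      rw [SetLike.mem_coe, Sylow.pointwise_smul_def,
        Subgroup.mem_pointwise_smul_iff_inv_smul_mem] at hy
      have h1 := Subgroup.mem_centralizer_iff.mp hx.2 _ hy
      have h2 := congrArg α h1
      simpa [MulAut.smul_def] using h2
    · show α x ^ p = 1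
      rw [← map_pow, hxp, map_one]
  exact hle ⟨w, hw, rfl⟩

/-- restriction of automorphisms to an invariant subgroup. -/
def resAut (W : Subgroup G) (hW : ∀ (α : MulAut G) (w : G), w ∈ W → α w ∈ W) :
    MulAut G →* MulAut ↥W where
  toFun α :=
    { toFun := fun w => ⟨α w, hW α w w.2⟩
      invFun := fun w => ⟨α⁻¹ w, hW α⁻¹ w w.2⟩
      left_inv := fun w => by ext; simp
      right_inv := fun w => by ext; simp
      map_mul' := fun a b => by ext; simp }
  map_one' := by ext; simp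
  map_mul' a b := by ext; simp

theorem resAut_apply (W : Subgroup G) (hW : ∀ (α : MulAut G) (w : G), w ∈ W → α w ∈ W)
    (α : MulAut G) (w : W) : ((resAut W hW α w : W) : G) = α w := rfl

theorem resAut_inv_apply (W : Subgroup G) (hW : ∀ (α : MulAut G) (w : G), w ∈ W → α w ∈ W)
    (α : MulAut G) (w : W) : (((resAut W hW α)⁻¹ w : W) : G) = α⁻¹ w := rfl

variable (V : Subgroup G) [V.Normal]

/-- automorphisms of `G` preserving `V`, inside the holomorph of `V`. -/
def holAut (hV : ∀ (α : MulAut G) (w : G), w ∈ V → α w ∈ V) : MulAut G →* Hol V :=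
  SemidirectProduct.inr.comp (resAut V hV)

theorem holAut_conj_psi (hV : ∀ (α : MulAut G) (w : G), w ∈ V → α w ∈ V) (α : MulAut G)
    (g : G) : holAut V hV α * psi V g * (holAut V hV α)⁻¹ = psi V (α g) := by
  unfold holAut psi
  simp only [MonoidHom.comp_apply]
  rw [← map_inv, ← map_mul, ← map_mul]
  congr 1
  ext w
  show ((resAut V hV α (MulAut.conjNormal g ((resAut V hV α)⁻¹ w)) : V) : G) =
    ((MulAut.conjNormal (α g) w : V) : G)
  rw [resAut_apply, MulAut.conjNormal_apply, MulAut.conjNormal_apply, resAut_inv_apply]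
  simp

theorem holAut_mem_normalizer_range (hV : ∀ (α : MulAut G) (w : G), w ∈ V → α w ∈ V)
    (α : MulAut G) : holAut V hV α ∈ Subgroup.normalizer ((psi V).range : Set (Hol V)) := by
  rw [Subgroup.mem_normalizer_iff]
  intro h
  constructor
  · rintro ⟨g, rfl⟩
    exact ⟨α g, (holAut_conj_psi V hV α g).symm⟩
  · rintro ⟨g, hg⟩
    refine ⟨α⁻¹ g, ?_⟩
    have h1 := holAut_conj_psi V hV α⁻¹ g
    rw [← h1, hg, map_inv]
    group

end aut

section core

variable {G : Type*} [Group G]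

/-- the normalizer of `H` normalizes `O_{p'}(H)`. -/
theorem mem_normalizer_coreOf {p : ℕ} {H : Subgroup G} {y : G}
    (hy : y ∈ Subgroup.normalizer (H : Set G)) :
    y ∈ Subgroup.normalizer ((coreOf p H : Subgroup G) : Set G) := by
  apply Cfsg.Agent.Lib.Helper11.mem_normalizer_of_map_conj_eq
  have h1 := Cfsg.Agent.Lib.Helper23.pPrimeCore_map p
    (Cfsg.Agent.Lib.Helper48.normConj H ⟨y, hy⟩ : ↥H ≃* ↥H)
  show ((Cfsg.pPrimeCore p ↥H).map H.subtype).map (MulAut.conj y).toMonoidHom =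
    (Cfsg.pPrimeCore p ↥H).map H.subtype
  rw [Subgroup.map_map]
  conv_rhs => rw [← h1]
  rw [Subgroup.map_map]
  rfl

/-- an element normalizing every member of a family normalizes the join. -/
theorem mem_normalizer_iSup {ι : Sort*} (f : ι → Subgroup G) {g : G}
    (h : ∀ i, g ∈ Subgroup.normalizer ((f i : Subgroup G) : Set G)) :
    g ∈ Subgroup.normalizer ((⨆ i, f i : Subgroup G) : Set G) := by
  apply Cfsg.Agent.Lib.Helper11.mem_normalizer_of_map_conj_eq
  rw [Subgroup.map_iSup]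
  congr 1
  funext i
  exact Cfsg.Agent.Lib.Helper11.map_conj_eq_of_mem_normalizer (h i)

end core

section main

variable {K : Type*} [Group K] [Finite K] {p : ℕ} [Fact p.Prime]

/-- a `p`-subgroup of a normal subgroup `L` is conjugate into a given Sylow `p`-subgroup by an
element of `L`. -/
theorem exists_conj_le_sylow_of_normal (S : Sylow p K) (L : Subgroup K) [L.Normal]
    {A : Subgroup K} (hA : IsPGroup p A) (hAL : A ≤ L) :
    ∃ j ∈ L, ∀ a ∈ A, j * a * j⁻¹ ∈ (S : Subgroup K) := by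
  obtain ⟨P, hP⟩ := Cfsg.Agent.Lib.Helper11.exists_sylow_inf_normal S L
  have hA' : IsPGroup p (A.subgroupOf L) := hA.comap_subtype
  obtain ⟨Q, hQ⟩ := hA'.exists_le_sylow
  obtain ⟨n, hn⟩ := MulAction.exists_smul_eq ↥L Q P
  refine ⟨(n : K), n.2, ?_⟩
  intro a ha
  have h1 : (⟨a, hAL ha⟩ : ↥L) ∈ (Q : Subgroup ↥L) := hQ (Subgroup.mem_subgroupOf.mpr ha)
  have h2 : n * (⟨a, hAL ha⟩ : ↥L) * n⁻¹ ∈ ((n • Q : Sylow p ↥L) : Subgroup ↥L) := by
    rw [Cfsg.Agent.Lib.Helper11.mem_sylow_smul_iff']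
    have e : n⁻¹ * (n * (⟨a, hAL ha⟩ : ↥L) * n⁻¹) * n = ⟨a, hAL ha⟩ := by group
    rw [e]
    exact h1
  rw [hn, hP, Subgroup.mem_subgroupOf] at h2
  exact h2

/-- **KS 9.3.9.** Generation by `N_K(J(S))`, `C_K(Ω₁(Z(S)))` and the fixed points of a group of
coprime operators of prime exponent. -/
theorem coprime_generation (hsol : Cfsg.IsPSolvable p K) (hO : Cfsg.pPrimeCore p K = ⊥)
    {q : ℕ} [Fact q.Prime] (hq : ¬ q ∣ Nat.card K) {Γ : Type*} [Group Γ] [Finite Γ]
    (hΓ : ∀ x : Γ, x ^ q = 1) (Φ : Γ →* MulAut K)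
    (hlift : ∀ D : Subgroup K, (∀ x d, d ∈ D → Φ x d ∈ D) → ∀ k : K,
      (∀ x, k⁻¹ * Φ x k ∈ D) → ∃ d ∈ D, ∀ x, Φ x (k * d) = k * d)
    (S : Sylow p K) (F : Subgroup K) (hF : ∀ k, (∀ x, Φ x k = k) → k ∈ F) :
    Subgroup.normalizer (Cfsg.thompsonSubgroupOf p (S : Subgroup K) : Set K) ⊔
      Subgroup.centralizer (Cfsg.omegaOne p ((S : Subgroup K) ⊓
        Subgroup.centralizer ((S : Subgroup K) : Set K)) : Set K) ⊔ F = ⊤ := by
  by_cases hTF : Cfsg.IsThompsonFactorizable p K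
  · rw [eq_top_iff]
    intro g _
    obtain ⟨x, hx, c, hc, n, hn, rfl⟩ := hTF S g
    rw [hO, Subgroup.mem_bot] at hx
    subst hx
    rw [one_mul]
    exact Subgroup.mem_sup_left
      (Subgroup.mul_mem _ (Subgroup.mem_sup_right hc) (Subgroup.mem_sup_left hn))
  have hWe := ZW_elem hsol hO
  have hOp := pCore_range_ZW (p := p) (G := K)
  obtain ⟨hs, hCK⟩ := setup_range (ZW p K) hWe hsol hOp
  have hWinv : ∀ (α : MulAut K) (w : K), w ∈ ZW p K → α w ∈ ZW p K :=
    fun α w hw => ZW_aut_mem α hw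
  have hθψ : ∀ x k, (holAut (ZW p K) hWinv).comp Φ x * psi (ZW p K) k *
      ((holAut (ZW p K) hWinv).comp Φ x)⁻¹ = psi (ZW p K) (Φ x k) :=
    fun x k => holAut_conj_psi _ hWinv (Φ x) k
  have hθV : ∀ x, (holAut (ZW p K) hWinv).comp Φ x ∈
      Subgroup.normalizer ((VV (ZW p K) : Subgroup (Hol (ZW p K))) : Set (Hol (ZW p K))) := by
    intro x
    rw [Subgroup.normalizer_eq_top]
    trivial
  have hθH : ∀ x, (holAut (ZW p K) hWinv).comp Φ x ∈
      Subgroup.normalizer ((psi (ZW p K)).range : Set (Hol (ZW p K))) :=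
    fun x => holAut_mem_normalizer_range _ hWinv (Φ x)
  have hθK : ∀ x, (holAut (ZW p K) hWinv).comp Φ x ∈ Subgroup.normalizer
      ((coreOf p (psi (ZW p K)).range : Subgroup (Hol (ZW p K))) : Set (Hol (ZW p K))) :=
    fun x => mem_normalizer_coreOf (hθH x)
  have hqR : ¬ q ∣ Nat.card (psi (ZW p K)).range :=
    fun h => hq (h.trans (Subgroup.card_range_dvd (psi (ZW p K))))
  -- the subgroup to be shown to be everything
  obtain ⟨H₀, hH₀⟩ : ∃ H₀ : Subgroup K, H₀ =
      Subgroup.normalizer (Cfsg.thompsonSubgroupOf p (S : Subgroup K) : Set K) ⊔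
      Subgroup.centralizer (Cfsg.omegaOne p ((S : Subgroup K) ⊓
        Subgroup.centralizer ((S : Subgroup K) : Set K)) : Set K) ⊔ F := ⟨_, rfl⟩
  rw [← hH₀]
  have hNle : Subgroup.normalizer (Cfsg.thompsonSubgroupOf p (S : Subgroup K) : Set K) ≤ H₀ := by
    rw [hH₀]; exact le_sup_left.trans le_sup_left
  have hFle : F ≤ H₀ := by rw [hH₀]; exact le_sup_right
  have hker : Subgroup.centralizer ((ZW p K : Subgroup K) : Set K) ≤ H₀ := by
    have h1 : Subgroup.centralizer ((ZW p K : Subgroup K) : Set K) ≤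
        Subgroup.centralizer (Cfsg.omegaOne p ((S : Subgroup K) ⊓
          Subgroup.centralizer ((S : Subgroup K) : Set K)) : Set K) := by
      apply Subgroup.centralizer_le
      exact SetLike.coe_subset_coe.mpr (le_iSup (fun S : Sylow p K =>
        Cfsg.omegaOne p ((S : Subgroup K) ⊓ Subgroup.centralizer ((S : Subgroup K) : Set K))) S)
    rw [hH₀]
    exact h1.trans (le_sup_right.trans le_sup_left)
  have hSH₀ : (S : Subgroup K) ≤ H₀ :=
    (Subgroup.le_normalizer.trans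
      (Cfsg.Agent.Lib.Helper11.normalizer_le_normalizer_thompsonSubgroupOf p _)).trans hNle
  -- fixed points of the operators lie in the image of `H₀`
  have hfixed : ∀ n ∈ (psi (ZW p K)).range,
      (∀ y, (holAut (ZW p K) hWinv).comp Φ y * n = n * (holAut (ZW p K) hWinv).comp Φ y) →
      n ∈ H₀.map (psi (ZW p K)) := by
    rintro _ ⟨k, rfl⟩ hfix
    have h1 : ∀ x, k⁻¹ * Φ x k ∈ Subgroup.centralizer ((ZW p K : Subgroup K) : Set K) := by
      intro x
      rw [← psi_ker, MonoidHom.mem_ker, map_mul, map_inv, ← hθψ x k, hfix x]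
      group
    have hinv : ∀ x d, d ∈ Subgroup.centralizer ((ZW p K : Subgroup K) : Set K) →
        Φ x d ∈ Subgroup.centralizer ((ZW p K : Subgroup K) : Set K) := by
      intro x d hd
      rw [← psi_ker, MonoidHom.mem_ker] at hd ⊢
      rw [← hθψ x d, hd]
      group
    obtain ⟨d, hd, hkd⟩ := hlift _ hinv k h1
    refine ⟨k * d, hFle (hF _ hkd), ?_⟩
    have h2 : psi (ZW p K) d = 1 := by
      rw [← MonoidHom.mem_ker, psi_ker]
      exact hd
    rw [map_mul, h2, mul_one]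
  -- components of transvections in the image of `S`
  have hcomp : ∀ t, IsTransv p (VV (ZW p K)) (psi (ZW p K)).range t →
      t ∈ (S : Subgroup K).map (psi (ZW p K)) →
      EE (coreOf p (psi (ZW p K)).range) t ≤ H₀.map (psi (ZW p K)) := by
    intro t ht htS
    exact ht.EE_le_of_fixed hs hCK hqR hΓ ((holAut (ZW p K) hWinv).comp Φ) hθV hθH hθK
      (H₀.map (psi (ZW p K))) (Subgroup.map_mono hSH₀ htS) hfixed
  obtain ⟨T', hT'def⟩ : ∃ T' : Subgroup (Hol (ZW p K)), T' =
      ⨆ t : {t // IsTransv p (VV (ZW p K)) (psi (ZW p K)).range t ∧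
        t ∈ (S : Subgroup K).map (psi (ZW p K))},
        EE (coreOf p (psi (ZW p K)).range) t.1 := ⟨_, rfl⟩
  have hT' : T' ≤ H₀.map (psi (ZW p K)) := by
    rw [hT'def]
    exact iSup_le fun t => hcomp t.1 t.2.1 t.2.2
  have hmapR : ∀ B : Subgroup K, B.map (psi (ZW p K)) ≤ (psi (ZW p K)).range := by
    rintro B _ ⟨a, -, rfl⟩
    exact ⟨a, rfl⟩
  have hbo : ∀ A ∈ Cfsg.maxElementaryAbelianSubgroups p K,
      Cfsg.IsBestOffenderOn p (VV (ZW p K)) (A.map (psi (ZW p K))) := fun A hA =>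
    bestOffender_map (ZW p K) (isBestOffenderOn_of_mem_max (ZW p K) A hWe hA)
  have hnorm : ∀ A ∈ Cfsg.maxElementaryAbelianSubgroups p K,
      A.map (psi (ZW p K)) ≤ Subgroup.normalizer ((T' : Subgroup (Hol (ZW p K))) : Set _) := by
    intro A hA
    apply offender_le_of_transv_mem hs hCK _ ?_ (hmapR A) (hbo A hA)
    intro b hb
    rw [hT'def]
    apply mem_normalizer_iSup
    intro t
    exact transv_mem_normalizer_EE hs hCK t.2.1 hb
  have hA1 : ∀ A ∈ Cfsg.maxElementaryAbelianSubgroups p K, A ≤ (S : Subgroup K) →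
      A.map (psi (ZW p K)) ≤ T' := by
    intro A hA hAS
    apply offender_le_of_transv_mem' hs hCK T' (hmapR A) (hbo A hA)
    intro b hbA hb
    have hbS : b ∈ (S : Subgroup K).map (psi (ZW p K)) := Subgroup.map_mono hAS hbA
    rw [hT'def]
    exact (le_iSup (fun t : {t // IsTransv p (VV (ZW p K)) (psi (ZW p K)).range t ∧
        t ∈ (S : Subgroup K).map (psi (ZW p K))} =>
        EE (coreOf p (psi (ZW p K)).range) t.1) ⟨b, hb, hbS⟩) self_mem_EE
  haveI hJc : (Cfsg.thompsonSubgroup p K).Characteristic := (Cfsg.Agent.S0602.result (p := p)).1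
  haveI hJn : (Cfsg.thompsonSubgroup p K).Normal := Subgroup.normal_of_characteristic _
  have hJnorm : Cfsg.thompsonSubgroup p K ≤
      (Subgroup.normalizer ((T' : Subgroup (Hol (ZW p K))) : Set _)).comap (psi (ZW p K)) := by
    apply sSup_le
    intro A hA
    rw [← Subgroup.map_le_iff_le_comap]
    exact hnorm A hA
  have hJ : Cfsg.thompsonSubgroup p K ≤ T'.comap (psi (ZW p K)) := by
    apply sSup_le
    intro A hA
    have hAp : IsPGroup p A := Cfsg.Agent.Lib.Helper11.elemAb_isPGroup hA.1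
    obtain ⟨j, hj, hjA⟩ := exists_conj_le_sylow_of_normal S (Cfsg.thompsonSubgroup p K) hAp
      (le_thompsonSubgroup hA)
    have hA₁ : A.map (MulAut.conj j).toMonoidHom ∈ Cfsg.maxElementaryAbelianSubgroups p K := by
      have h1 := Cfsg.Agent.Lib.Helper11.maxElemAbIn_map p (MulAut.conj j).toMonoidHom
        (MulAut.conj j).injective (⊤ : Subgroup K)
      have h2 : (⊤ : Subgroup K).map (MulAut.conj j).toMonoidHom = ⊤ := by
        rw [← MonoidHom.range_eq_map, MonoidHom.range_eq_top]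
        exact (MulAut.conj j).surjective
      rw [h2, Cfsg.Agent.Lib.Helper11.maxElemAbIn_top] at h1
      rw [h1]
      exact ⟨A, hA, rfl⟩
    have hA₁S : A.map (MulAut.conj j).toMonoidHom ≤ (S : Subgroup K) := by
      rintro _ ⟨a, ha, rfl⟩
      exact hjA a ha
    have h3 := hA1 _ hA₁ hA₁S
    have hjn := hJnorm hj
    intro a ha
    show psi (ZW p K) a ∈ T'
    have h4 : psi (ZW p K) (j * a * j⁻¹) ∈ T' := h3 ⟨j * a * j⁻¹, ⟨a, ha, rfl⟩, rfl⟩
    have h5 : psi (ZW p K) j ∈ Subgroup.normalizer ((T' : Subgroup (Hol (ZW p K))) : Set _) :=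
      hjn
    have h6 := (Subgroup.mem_normalizer_iff.mp h5 (psi (ZW p K) a)).mpr
    apply h6
    rw [← map_inv, ← map_mul, ← map_mul]
    exact h4
  have hJH₀ : Cfsg.thompsonSubgroup p K ≤ H₀ := by
    intro g hg
    obtain ⟨h, hh, hhg⟩ := hT' (hJ hg)
    have h2 : h⁻¹ * g ∈ Subgroup.centralizer ((ZW p K : Subgroup K) : Set K) := by
      rw [← psi_ker, MonoidHom.mem_ker, map_mul, map_inv, hhg, inv_mul_cancel]
    have e : g = h * (h⁻¹ * g) := by group
    rw [e]
    exact H₀.mul_mem hh (hker h2)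
  have hfr := Cfsg.Agent.Lib.Helper11.frattini_inf S (Cfsg.thompsonSubgroup p K)
  rw [eq_top_iff, ← hfr]
  apply sup_le
  · refine le_trans ?_ hNle
    have e : Cfsg.thompsonSubgroupOf p ((S : Subgroup K) ⊓ Cfsg.thompsonSubgroup p K) =
        Cfsg.thompsonSubgroupOf p (S : Subgroup K) :=
      Cfsg.Agent.Lib.Helper11.thompsonSubgroupOf_eq_of_le inf_le_left
        (le_inf (Cfsg.Agent.Lib.Helper11.thompsonSubgroupOf_le p _)
          (Cfsg.Agent.Lib.Helper11.thompsonSubgroupOf_sylow_le S))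
    rw [← e]
    exact Cfsg.Agent.Lib.Helper11.normalizer_le_normalizer_thompsonSubgroupOf p _
  · exact hJH₀

end main

section concrete

variable {G : Type*} [Group G] [Finite G]

/-- the conjugation action of `X ≤ N_G(K)` on `K`, as automorphisms of `↥K`. -/
abbrev opAct (K X : Subgroup G) (hXK : X ≤ Subgroup.normalizer (K : Set G)) :
    ↥X →* MulAut ↥K :=
  (Cfsg.Agent.Lib.Helper48.normConj K).comp (Subgroup.inclusion hXK)

theorem opAct_apply (K X : Subgroup G) (hXK : X ≤ Subgroup.normalizer (K : Set G)) (x : ↥X)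
    (k : ↥K) : ((opAct K X hXK x k : ↥K) : G) = (x : G) * k * (x : G)⁻¹ := rfl

/-- Glauberman's lemma for cosets, in terms of the operator action. -/
theorem coprime_lift (K X : Subgroup G) (hXK : X ≤ Subgroup.normalizer (K : Set G))
    (hcop : (Nat.card X).Coprime (Nat.card K))
    (hsolv : Group.IsSolvable ↥X ∨ Group.IsSolvable ↥K) (D : Subgroup ↥K)
    (hD : ∀ (x : ↥X) (d : ↥K), d ∈ D → opAct K X hXK x d ∈ D) (k : ↥K)
    (hk : ∀ x : ↥X, k⁻¹ * opAct K X hXK x k ∈ D) :
    ∃ d ∈ D, ∀ x : ↥X, opAct K X hXK x (k * d) = k * d := by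
  have hDK : D.map K.subtype ≤ K := by
    rintro _ ⟨d, -, rfl⟩
    exact d.2
  have hAD : X ≤ Subgroup.normalizer ((D.map K.subtype : Subgroup G) : Set G) := by
    intro a ha
    apply Cfsg.Agent.Lib.Helper57.HSub.mem_normalizer_of_conj_mem
    rintro _ ⟨d, hd, rfl⟩
    exact ⟨opAct K X hXK ⟨a, ha⟩ d, hD ⟨a, ha⟩ d hd, rfl⟩
  have hinv : ∀ a ∈ X, a⁻¹ * (k : G)⁻¹ * a * (k : G) ∈ D.map K.subtype := by
    intro a ha
    have h1 := D.inv_mem (hk ⟨a⁻¹, X.inv_mem ha⟩)
    refine ⟨_, h1, ?_⟩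
    simp only [Subgroup.coe_subtype, Subgroup.coe_inv, Subgroup.coe_mul, opAct_apply]
    group
  obtain ⟨d', ⟨d, hd, rfl⟩, hc⟩ := Cfsg.Agent.Lib.Helper91.exists_mem_centralizer_coset X K hXK
    hcop hsolv (D.map K.subtype) hDK hAD (k : G) k.2 hinv
  refine ⟨d, hd, ?_⟩
  intro x
  apply Subtype.ext
  rw [opAct_apply]
  have h2 := Subgroup.mem_centralizer_iff.mp hc (x : G) x.2
  simp only [Subgroup.coe_subtype] at h2
  show (x : G) * ((k : G) * (d : G)) * (x : G)⁻¹ = (k : G) * (d : G)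
  rw [h2]
  group

end concrete

end Cfsg.Agent.Lib.Helper11.FFT
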