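import Mathlib
import Cfsg.Agent.Lib.Helper11.FFXT

/-!
Coprime operators and the failure of Thompson factorization, second part (Kurzweil–Stellmacher
9.3.10): if the factorization fails in a `p`-solvable `K` with `O_{p'}(K) = 1` on which a group
`Γ` of exponent `q`, `q ∤ |K|`, operates, then the fixed points of `Γ` contain a plane `W` and a
subgroup inducing `SL₂(p)` on it.
-/

set_option autoImplicit false

namespace Cfsg.Agent.Lib.Helper11.FFT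

open scoped commutatorElement
open Cfsg.Agent.Lib.Helper10 Cfsg.Agent.Lib.Helper11.FF

section normhom

variable {Γ A : Type*} [Group Γ] [Fintype Γ] [Group A]

/-- the norm map of a finite group of operators on an abelian group. -/
def normHom (hA : ∀ a b : A, a * b = b * a) (ρ : Γ →* MulAut A) : A →* A :=
  letI : CommGroup A := { (inferInstance : Group A) with mul_comm := hA }
  ∏ x : Γ, (ρ x).toMonoidHom

theorem normHom_fixed (hA : ∀ a b : A, a * b = b * a) (ρ : Γ →* MulAut A) (y : Γ) (a : A) :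
    ρ y (normHom hA ρ a) = normHom hA ρ a := by
  letI : CommGroup A := { (inferInstance : Group A) with mul_comm := hA }
  show ρ y ((∏ x : Γ, (ρ x).toMonoidHom) a) = (∏ x : Γ, (ρ x).toMonoidHom) a
  rw [MonoidHom.finsetProd_apply, map_prod]
  refine Fintype.prod_equiv (Equiv.mulLeft y) _ _ (fun x => ?_)
  show ρ y (ρ x a) = ρ (y * x) a
  rw [map_mul]
  rfl

theorem normHom_comm (hA : ∀ a b : A, a * b = b * a) (ρ : Γ →* MulAut A) (σ : MulAut A)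
    (hσ : ∀ x a, σ (ρ x a) = ρ x (σ a)) (a : A) :
    σ (normHom hA ρ a) = normHom hA ρ (σ a) := by
  letI : CommGroup A := { (inferInstance : Group A) with mul_comm := hA }
  show σ ((∏ x : Γ, (ρ x).toMonoidHom) a) = (∏ x : Γ, (ρ x).toMonoidHom) (σ a)
  rw [MonoidHom.finsetProd_apply, MonoidHom.finsetProd_apply, map_prod]
  exact Finset.prod_congr rfl (fun x _ => hσ x a)

theorem normHom_split (hA : ∀ a b : A, a * b = b * a) (ρ : Γ →* MulAut A) (Γ₁ : Subgroup Γ)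
    (B : Subgroup A) (a : A) (h1 : ∀ x ∈ Γ₁, ρ x a = a) (h2 : ∀ x, x ∉ Γ₁ → ρ x a ∈ B) :
    ∃ c ∈ B, normHom hA ρ a = a ^ Nat.card Γ₁ * c := by
  classical
  letI : CommGroup A := { (inferInstance : Group A) with mul_comm := hA }
  refine ⟨∏ x ∈ Finset.univ.filter (fun x => x ∉ Γ₁), ρ x a,
    Subgroup.prod_mem _ (fun x hx => h2 x (Finset.mem_filter.mp hx).2), ?_⟩
  show (∏ x : Γ, (ρ x).toMonoidHom) a = _
  rw [MonoidHom.finsetProd_apply,
    ← Finset.prod_filter_mul_prod_filter_not Finset.univ (fun x => x ∈ Γ₁)]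
  congr 1
  rw [Finset.prod_eq_pow_card (b := a)]
  · congr 1
    rw [Nat.card_eq_fintype_card, Fintype.card_subtype]
  · intro x hx
    exact h1 x (Finset.mem_filter.mp hx).2

end normhom

section aut

variable {G : Type*} [Group G] (V : Subgroup G) [V.Normal]

theorem holAut_conj_inl (hV : ∀ (α : MulAut G) (w : G), w ∈ V → α w ∈ V) (α : MulAut G)
    (v : V) : holAut V hV α * SemidirectProduct.inl v * (holAut V hV α)⁻¹ =
      (SemidirectProduct.inl (resAut V hV α v) : Hol V) := by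
  have := SemidirectProduct.inl_aut (φ := MonoidHom.id (MulAut ↥V)) (resAut V hV α) v
  rw [MonoidHom.id_apply] at this
  rw [this]
  simp [holAut]

end aut

section core

variable {K : Type*} [Group K] [Finite K] {p : ℕ} [Fact p.Prime]

/-- the group-theoretic core of KS 9.3.10, with the failure-of-factorization input abstracted
into hypotheses on a component `E` and its natural module `Sp` in the holomorph. -/
theorem coprime_sl2_core (W₀ : Subgroup K) [W₀.Normal] (hWe : Cfsg.IsElementaryAbelian p W₀)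
    (hWinv : ∀ (α : MulAut K) (w : K), w ∈ W₀ → α w ∈ W₀)
    {q : ℕ} [Fact q.Prime] (hq : ¬ q ∣ Nat.card K) (hqp : q ≠ p)
    {Γ : Type*} [Group Γ] [Finite Γ] (hΓ : ∀ x : Γ, x ^ q = 1) (Φ : Γ →* MulAut K)
    (hlift : ∀ D : Subgroup K, (∀ x d, d ∈ D → Φ x d ∈ D) → ∀ k : K,
      (∀ x, k⁻¹ * Φ x k ∈ D) → ∃ d ∈ D, ∀ x, Φ x (k * d) = k * d)
    (F : Subgroup K) (hF : ∀ k, k ∈ F ↔ ∀ x, Φ x k = k)
    (E Sp : Subgroup (Hol W₀)) (hSpV : Sp ≤ VV W₀) (hER : E ≤ (psi W₀).range)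
    (hEN : E ≤ Subgroup.normalizer (Sp : Set (Hol W₀)))
    (hES : E ⊓ Subgroup.centralizer (Sp : Set (Hol W₀)) = ⊥)
    (hSpE : Sp ⊓ (VV W₀ ⊓ Subgroup.centralizer (E : Set (Hol W₀))) = ⊥)
    (hcard : Nat.card Sp = p ^ 2)
    (hfix : ∀ x : Γ, holAut W₀ hWinv (Φ x) ∈ Subgroup.normalizer (E : Set (Hol W₀)) →
      ∀ w ∈ Sp, holAut W₀ hWinv (Φ x) * w * (holAut W₀ hWinv (Φ x))⁻¹ = w)
    (hout : ∀ x : Γ, holAut W₀ hWinv (Φ x) ∉ Subgroup.normalizer (E : Set (Hol W₀)) →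
      ∀ w ∈ Sp, holAut W₀ hWinv (Φ x) * w * (holAut W₀ hWinv (Φ x))⁻¹ ∈
        Subgroup.centralizer (E : Set (Hol W₀)))
    (hnorm : ∀ e ∈ E, ∃ (n c : Hol W₀) (m : ℕ), n ∈ (psi W₀).range ∧
      (∀ y, holAut W₀ hWinv (Φ y) * n = n * holAut W₀ hWinv (Φ y)) ∧ n = e ^ m * c ∧
      c ∈ Subgroup.centralizer (E : Set (Hol W₀)) ⊓ Subgroup.centralizer (Sp : Set (Hol W₀)) ∧
      m ∣ Nat.card Γ) :
    ∃ W D : Subgroup K, W ≤ F ∧ D ≤ F ∧ Cfsg.IsElementaryAbelian p W ∧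
      Nat.card W = p ^ 2 ∧ D ≤ Subgroup.normalizer (W : Set K) ∧
      ∃ g : ↥D →* ↥E, Function.Surjective g ∧
        ∀ d : ↥D, g d = 1 ↔ (d : K) ∈ Subgroup.centralizer (W : Set K) := by
  classical
  haveI : Fintype Γ := Fintype.ofFinite Γ
  have hpp : p.Prime := Fact.out
  have hqq : q.Prime := Fact.out
  have hA : ∀ a b : ↥W₀, a * b = b * a := fun a b => hWe.1.is_comm.comm a b
  have hexp : ∀ a : ↥W₀, a ^ p = 1 := fun a =>
    Subtype.ext (by rw [Subgroup.coe_pow]; exact hWe.2 a a.2)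
  have hΓp : IsPGroup q Γ := fun x => ⟨1, by rw [pow_one]; exact hΓ x⟩
  obtain ⟨kΓ, hkΓ⟩ := IsPGroup.iff_card.mp hΓp
  have hθψ : ∀ x k, holAut W₀ hWinv (Φ x) * psi W₀ k * (holAut W₀ hWinv (Φ x))⁻¹ =
      psi W₀ (Φ x k) := fun x k => holAut_conj_psi _ hWinv (Φ x) k
  have hθinl : ∀ x (w : ↥W₀),
      holAut W₀ hWinv (Φ x) * SemidirectProduct.inl w * (holAut W₀ hWinv (Φ x))⁻¹ =
      (SemidirectProduct.inl (resAut W₀ hWinv (Φ x) w) : Hol W₀) :=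
    fun x w => holAut_conj_inl _ hWinv (Φ x) w
  -- the norm map
  obtain ⟨ρ, hρ⟩ : ∃ ρ : Γ →* MulAut ↥W₀, ρ = (resAut W₀ hWinv).comp Φ := ⟨_, rfl⟩
  have hρa : ∀ x (w : ↥W₀), ((ρ x w : ↥W₀) : K) = Φ x w := by
    intro x w; rw [hρ]; rfl
  have hρr : ∀ x (w : ↥W₀), ρ x w = resAut W₀ hWinv (Φ x) w := by
    intro x w; rw [hρ]; rfl
  obtain ⟨Nm, hNm⟩ : ∃ Nm : ↥W₀ →* ↥W₀, Nm = normHom hA ρ := ⟨_, rfl⟩
  have hNfix : ∀ y (a : ↥W₀), Φ y (Nm a : K) = (Nm a : K) := by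
    intro y a
    have h1 := normHom_fixed hA ρ y a
    rw [← hNm] at h1
    have h2 := congrArg Subtype.val h1
    rw [hρa] at h2
    exact h2
  have hNcomm : ∀ d ∈ F, ∀ a : ↥W₀,
      MulAut.conjNormal d (Nm a) = Nm (MulAut.conjNormal d a) := by
    intro d hd a
    rw [hNm]
    apply normHom_comm
    intro x b
    apply Subtype.ext
    rw [MulAut.conjNormal_apply, hρa, hρa, MulAut.conjNormal_apply, map_mul, map_mul, map_inv,
      (hF d).mp hd x]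
  -- the plane `U` in `W₀`
  obtain ⟨U, hU⟩ : ∃ U : Subgroup ↥W₀,
      U = Sp.comap (SemidirectProduct.inl : ↥W₀ →* Hol W₀) := ⟨_, rfl⟩
  have hUmem : ∀ u : ↥W₀, u ∈ U ↔ (SemidirectProduct.inl u : Hol W₀) ∈ Sp := by
    intro u; rw [hU]; rfl
  have hSpU : ∀ w ∈ Sp, ∃ u ∈ U, (SemidirectProduct.inl u : Hol W₀) = w := by
    intro w hw
    obtain ⟨u, rfl⟩ := hSpV hw
    exact ⟨u, (hUmem u).mpr hw, rfl⟩
  obtain ⟨Γ₁, hΓ₁⟩ : ∃ Γ₁ : Subgroup Γ, Γ₁ =
      (Subgroup.normalizer (E : Set (Hol W₀))).comap ((holAut W₀ hWinv).comp Φ) := ⟨_, rfl⟩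
  have hΓ₁mem : ∀ x, x ∈ Γ₁ ↔
      holAut W₀ hWinv (Φ x) ∈ Subgroup.normalizer (E : Set (Hol W₀)) := by
    intro x; rw [hΓ₁]; rfl
  obtain ⟨B, hB⟩ : ∃ B : Subgroup ↥W₀, B = (Subgroup.centralizer (E : Set (Hol W₀))).comap
      (SemidirectProduct.inl : ↥W₀ →* Hol W₀) := ⟨_, rfl⟩
  have hBmem : ∀ u : ↥W₀, u ∈ B ↔
      (SemidirectProduct.inl u : Hol W₀) ∈ Subgroup.centralizer (E : Set (Hol W₀)) := by
    intro u; rw [hB]; rfl
  have hF1 : ∀ x ∈ Γ₁, ∀ u ∈ U, ρ x u = u := by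
    intro x hx u hu
    have h1 := hfix x ((hΓ₁mem x).mp hx) _ ((hUmem u).mp hu)
    rw [hθinl] at h1
    rw [hρr]
    exact SemidirectProduct.inl_injective h1
  have hF2 : ∀ x, x ∉ Γ₁ → ∀ u ∈ U, ρ x u ∈ B := by
    intro x hx u hu
    rw [hBmem]
    have h1 := hout x (fun h => hx ((hΓ₁mem x).mpr h)) _ ((hUmem u).mp hu)
    rw [hθinl] at h1
    rw [hρr]
    exact h1
  have hm : Nat.gcd (Nat.card Γ₁) p = 1 := by
    have h1 : Nat.card Γ₁ ∣ q ^ kΓ := hkΓ ▸ Subgroup.card_subgroup_dvd_card Γ₁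
    obtain ⟨j, -, hj⟩ := (Nat.dvd_prime_pow hqq).mp h1
    rw [hj]
    exact Nat.Coprime.pow_left j ((Nat.coprime_primes hqq hpp).mpr hqp)
  have hNinj : ∀ u ∈ U, Nm u = 1 → u = 1 := by
    intro u hu h1
    obtain ⟨c, hc, h2⟩ := normHom_split hA ρ Γ₁ B u (fun x hx => hF1 x hx u hu)
      (fun x hx => hF2 x hx u hu)
    rw [← hNm, h1] at h2
    have h3 : u ^ Nat.card Γ₁ = c⁻¹ := eq_inv_of_mul_eq_one_left h2.symm
    have h4 : (SemidirectProduct.inl (u ^ Nat.card Γ₁) : Hol W₀) ∈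
        Sp ⊓ (VV W₀ ⊓ Subgroup.centralizer (E : Set (Hol W₀))) := by
      refine ⟨?_, ⟨_, rfl⟩, ?_⟩
      · rw [map_pow]
        exact Sp.pow_mem ((hUmem u).mp hu) _
      · rw [h3]
        exact (hBmem _).mp (B.inv_mem hc)
    rw [hSpE, Subgroup.mem_bot] at h4
    have h5 : u ^ Nat.card Γ₁ = 1 := SemidirectProduct.inl_injective (by rw [h4, map_one])
    have h6 : orderOf u ∣ Nat.gcd (Nat.card Γ₁) p :=
      Nat.dvd_gcd (orderOf_dvd_of_pow_eq_one h5) (orderOf_dvd_of_pow_eq_one (hexp u))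
    rw [hm] at h6
    exact orderOf_eq_one_iff.mp (Nat.dvd_one.mp h6)
  -- the plane `W` of fixed points
  obtain ⟨W, hW⟩ : ∃ W : Subgroup K, W = (U.map Nm).map W₀.subtype := ⟨_, rfl⟩
  have hWmem : ∀ w, w ∈ W ↔ ∃ u ∈ U, ((Nm u : ↥W₀) : K) = w := by
    intro w
    rw [hW]
    constructor
    · rintro ⟨_, ⟨u, hu, rfl⟩, rfl⟩
      exact ⟨u, hu, rfl⟩
    · rintro ⟨u, hu, rfl⟩
      exact ⟨_, ⟨u, hu, rfl⟩, rfl⟩
  have hWF : W ≤ F := by
    intro w hw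
    obtain ⟨u, -, rfl⟩ := (hWmem w).mp hw
    exact (hF _).mpr (fun x => hNfix x u)
  have hWW₀ : W ≤ W₀ := by
    intro w hw
    obtain ⟨u, -, rfl⟩ := (hWmem w).mp hw
    exact (Nm u).2
  have hWel : Cfsg.IsElementaryAbelian p W := isElementaryAbelian_mono hWe hWW₀
  have hWcard : Nat.card W = p ^ 2 := by
    rw [hW, Subgroup.card_map_of_injective W₀.subtype_injective]
    have hinj : Function.Injective (Nm.comp U.subtype) := by
      rw [injective_iff_map_eq_one]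
      intro u hu
      exact Subtype.ext (hNinj u u.2 hu)
    have h1 : (Nm.comp U.subtype).range = U.map Nm := by
      rw [MonoidHom.range_comp, Subgroup.range_subtype]
    rw [← h1, ← Nat.card_congr (MonoidHom.ofInjective hinj).toEquiv]
    have h2 : U.map (SemidirectProduct.inl : ↥W₀ →* Hol W₀) = Sp := by
      rw [hU]
      exact Subgroup.map_comap_eq_self hSpV
    have h3 : Nat.card ↥(U.map (SemidirectProduct.inl : ↥W₀ →* Hol W₀)) = Nat.card ↥U :=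
      Subgroup.card_map_of_injective SemidirectProduct.inl_injective
    rw [← h3, h2, hcard]
  -- the subgroup `D`
  have hEconj : ∀ e ∈ E, ∀ w ∈ Sp, e * w * e⁻¹ ∈ Sp := fun e he w hw =>
    (Subgroup.mem_normalizer_iff.mp (hEN he) w).mp hw
  have hEconj' : ∀ e ∈ E, ∀ w ∈ Sp, e⁻¹ * w * e ∈ Sp := by
    intro e he w hw
    have := hEconj e⁻¹ (E.inv_mem he) w hw
    simpa using this
  have hconjU : ∀ d : K, ∀ e ∈ E,
      (∀ w ∈ Sp, psi W₀ d * w * (psi W₀ d)⁻¹ = e * w * e⁻¹) →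
      ∀ u ∈ U, MulAut.conjNormal d u ∈ U := by
    intro d e he h u hu
    rw [hUmem, ← psi_conj, h _ ((hUmem u).mp hu)]
    exact hEconj e he _ ((hUmem u).mp hu)
  obtain ⟨D, hD⟩ : ∃ D : Subgroup K, ∀ d, d ∈ D ↔
      (d ∈ F ∧ ∃ e ∈ E, ∀ w ∈ Sp, psi W₀ d * w * (psi W₀ d)⁻¹ = e * w * e⁻¹) := by
    refine ⟨{ carrier := {d | d ∈ F ∧ ∃ e ∈ E, ∀ w ∈ Sp,
                psi W₀ d * w * (psi W₀ d)⁻¹ = e * w * e⁻¹}
              one_mem' := ⟨F.one_mem, 1, E.one_mem, fun w _ => by simp⟩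
              mul_mem' := ?_
              inv_mem' := ?_ }, fun d => Iff.rfl⟩
    · rintro a b ⟨haF, e₁, he₁, h₁⟩ ⟨hbF, e₂, he₂, h₂⟩
      refine ⟨F.mul_mem haF hbF, e₁ * e₂, E.mul_mem he₁ he₂, fun w hw => ?_⟩
      have h3 := h₂ w hw
      have h4 := h₁ _ (hEconj e₂ he₂ w hw)
      calc psi W₀ (a * b) * w * (psi W₀ (a * b))⁻¹
          = psi W₀ a * (psi W₀ b * w * (psi W₀ b)⁻¹) * (psi W₀ a)⁻¹ := by
            rw [map_mul]; group
        _ = e₁ * (e₂ * w * e₂⁻¹) * e₁⁻¹ := by rw [h3, h4]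
        _ = e₁ * e₂ * w * (e₁ * e₂)⁻¹ := by group
    · rintro a ⟨haF, e, he, h⟩
      refine ⟨F.inv_mem haF, e⁻¹, E.inv_mem he, fun w hw => ?_⟩
      have h3 := h _ (hEconj' e he w hw)
      calc psi W₀ a⁻¹ * w * (psi W₀ a⁻¹)⁻¹
          = (psi W₀ a)⁻¹ * (e * (e⁻¹ * w * e) * e⁻¹) * psi W₀ a := by
            rw [map_inv]; group
        _ = (psi W₀ a)⁻¹ * (psi W₀ a * (e⁻¹ * w * e) * (psi W₀ a)⁻¹) * psi W₀ a := by rw [h3]
        _ = e⁻¹ * w * e⁻¹⁻¹ := by group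
  have hDF : D ≤ F := fun d hd => ((hD d).mp hd).1
  have hex : ∀ d : ↥D, ∃ e : ↥E, ∀ w ∈ Sp,
      psi W₀ (d : K) * w * (psi W₀ (d : K))⁻¹ = (e : Hol W₀) * w * (e : Hol W₀)⁻¹ := by
    intro d
    obtain ⟨-, e, he, h⟩ := (hD d).mp d.2
    exact ⟨⟨e, he⟩, h⟩
  choose ε hε using hex
  have huniq : ∀ e₁ e₂ : ↥E, (∀ w ∈ Sp, (e₁ : Hol W₀) * w * (e₁ : Hol W₀)⁻¹ =
      (e₂ : Hol W₀) * w * (e₂ : Hol W₀)⁻¹) → e₁ = e₂ := by
    intro e₁ e₂ h
    have h1 : (e₂ : Hol W₀)⁻¹ * (e₁ : Hol W₀) ∈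
        E ⊓ Subgroup.centralizer (Sp : Set (Hol W₀)) := by
      refine ⟨E.mul_mem (E.inv_mem e₂.2) e₁.2, ?_⟩
      show (e₂ : Hol W₀)⁻¹ * (e₁ : Hol W₀) ∈ Subgroup.centralizer (Sp : Set (Hol W₀))
      rw [Subgroup.mem_centralizer_iff]
      intro w hw
      have h2 := h w hw
      calc w * ((e₂ : Hol W₀)⁻¹ * (e₁ : Hol W₀))
          = (e₂ : Hol W₀)⁻¹ * ((e₂ : Hol W₀) * w * (e₂ : Hol W₀)⁻¹) * (e₁ : Hol W₀) := by group
        _ = (e₂ : Hol W₀)⁻¹ * ((e₁ : Hol W₀) * w * (e₁ : Hol W₀)⁻¹) * (e₁ : Hol W₀) := by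
            rw [h2]
        _ = (e₂ : Hol W₀)⁻¹ * (e₁ : Hol W₀) * w := by group
    rw [hES, Subgroup.mem_bot] at h1
    apply Subtype.ext
    calc (e₁ : Hol W₀) = (e₂ : Hol W₀) * ((e₂ : Hol W₀)⁻¹ * (e₁ : Hol W₀)) := by group
      _ = e₂ := by rw [h1, mul_one]
  have hεmul : ∀ d₁ d₂ : ↥D, ε (d₁ * d₂) = ε d₁ * ε d₂ := by
    intro d₁ d₂
    apply huniq
    intro w hw
    rw [← hε (d₁ * d₂) w hw]
    have h3 := hε d₂ w hw
    have h4 := hε d₁ _ (hEconj _ (ε d₂).2 w hw)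
    calc psi W₀ ((d₁ * d₂ : ↥D) : K) * w * (psi W₀ ((d₁ * d₂ : ↥D) : K))⁻¹
        = psi W₀ (d₁ : K) * (psi W₀ (d₂ : K) * w * (psi W₀ (d₂ : K))⁻¹) *
            (psi W₀ (d₁ : K))⁻¹ := by
          rw [Subgroup.coe_mul, map_mul]; group
      _ = (ε d₁ : Hol W₀) * ((ε d₂ : Hol W₀) * w * (ε d₂ : Hol W₀)⁻¹) *
            (ε d₁ : Hol W₀)⁻¹ := by rw [h3, h4]
      _ = ((ε d₁ * ε d₂ : ↥E) : Hol W₀) * w * ((ε d₁ * ε d₂ : ↥E) : Hol W₀)⁻¹ := by
          rw [Subgroup.coe_mul]; group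
  obtain ⟨g, hg⟩ : ∃ g : ↥D →* ↥E, ∀ d, g d = ε d := ⟨MonoidHom.mk' ε hεmul, fun d => rfl⟩
  have hker1 : ∀ d : ↥D, ε d = 1 ↔
      ∀ w ∈ Sp, psi W₀ (d : K) * w * (psi W₀ (d : K))⁻¹ = w := by
    intro d
    constructor
    · intro h w hw
      rw [hε d w hw, h]
      simp
    · intro h
      apply huniq
      intro w hw
      rw [← hε d w hw, h w hw]
      simp
  have hker2 : ∀ d : ↥D, (∀ w ∈ Sp, psi W₀ (d : K) * w * (psi W₀ (d : K))⁻¹ = w) ↔
      (d : K) ∈ Subgroup.centralizer (W : Set K) := by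
    intro d
    have hdF : (d : K) ∈ F := hDF d.2
    have hdU : ∀ u ∈ U, MulAut.conjNormal (d : K) u ∈ U :=
      hconjU (d : K) (ε d) (ε d).2 (hε d)
    constructor
    · intro h
      rw [Subgroup.mem_centralizer_iff]
      intro w hw
      obtain ⟨u, hu, rfl⟩ := (hWmem w).mp hw
      have h1 : MulAut.conjNormal (d : K) u = u := by
        apply SemidirectProduct.inl_injective (φ := MonoidHom.id (MulAut ↥W₀))
        rw [← psi_conj]
        exact h _ ((hUmem u).mp hu)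
      have h2 := hNcomm (d : K) hdF u
      rw [h1] at h2
      have h3 := congrArg Subtype.val h2
      rw [MulAut.conjNormal_apply] at h3
      calc ((Nm u : ↥W₀) : K) * (d : K)
          = (d : K) * (Nm u : ↥W₀) * (d : K)⁻¹ * (d : K) := by rw [h3]
        _ = (d : K) * (Nm u : ↥W₀) := by group
    · intro h w hw
      obtain ⟨u, hu, rfl⟩ := hSpU w hw
      rw [psi_conj]
      congr 1
      have h1 : MulAut.conjNormal (d : K) (Nm u) = Nm u := by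
        apply Subtype.ext
        rw [MulAut.conjNormal_apply]
        have h2 := Subgroup.mem_centralizer_iff.mp h _ ((hWmem _).mpr ⟨u, hu, rfl⟩)
        rw [← h2]
        group
      rw [hNcomm (d : K) hdF u] at h1
      have h3 : Nm (MulAut.conjNormal (d : K) u * u⁻¹) = 1 := by
        rw [map_mul, map_inv, h1, mul_inv_cancel]
      have h4 := hNinj _ (U.mul_mem (hdU u hu) (U.inv_mem hu)) h3
      exact mul_inv_eq_one.mp h4
  have hDN : D ≤ Subgroup.normalizer (W : Set K) := by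
    intro d hd
    apply Cfsg.Agent.Lib.Helper57.HSub.mem_normalizer_of_conj_mem
    intro w hw
    obtain ⟨u, hu, rfl⟩ := (hWmem w).mp hw
    have hdF := hDF hd
    obtain ⟨-, e, he, h⟩ := (hD d).mp hd
    have h2 := hNcomm d hdF u
    have h3 := congrArg Subtype.val h2
    rw [MulAut.conjNormal_apply] at h3
    rw [h3]
    exact (hWmem _).mpr ⟨_, hconjU d e he h u hu, rfl⟩
  have hsurj : Function.Surjective g := by
    intro e
    obtain ⟨n, c, m, hnR, hnfix, hn, hc, hmΓ⟩ := hnorm e e.2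
    obtain ⟨k, rfl⟩ := hnR
    have h1 : ∀ x, k⁻¹ * Φ x k ∈ Subgroup.centralizer ((W₀ : Subgroup K) : Set K) := by
      intro x
      rw [← psi_ker, MonoidHom.mem_ker, map_mul, map_inv, ← hθψ x k, hnfix x]
      group
    have hinv : ∀ x d, d ∈ Subgroup.centralizer ((W₀ : Subgroup K) : Set K) →
        Φ x d ∈ Subgroup.centralizer ((W₀ : Subgroup K) : Set K) := by
      intro x d hd
      rw [← psi_ker, MonoidHom.mem_ker] at hd ⊢
      rw [← hθψ x d, hd]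
      group
    obtain ⟨d₀, hd₀, hkd⟩ := hlift _ hinv k h1
    have hψ : psi W₀ (k * d₀) = psi W₀ k := by
      have h2 : psi W₀ d₀ = 1 := by
        rw [← MonoidHom.mem_ker, psi_ker]
        exact hd₀
      rw [map_mul, h2, mul_one]
    have hact : ∀ w ∈ Sp, psi W₀ (k * d₀) * w * (psi W₀ (k * d₀))⁻¹ =
        (e : Hol W₀) ^ m * w * ((e : Hol W₀) ^ m)⁻¹ := by
      intro w hw
      rw [hψ, hn]
      have hcw : c * w * c⁻¹ = w := by
        have := Subgroup.mem_centralizer_iff.mp hc.2 w hw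
        rw [← this]
        group
      calc (e : Hol W₀) ^ m * c * w * ((e : Hol W₀) ^ m * c)⁻¹
          = (e : Hol W₀) ^ m * (c * w * c⁻¹) * ((e : Hol W₀) ^ m)⁻¹ := by group
        _ = (e : Hol W₀) ^ m * w * ((e : Hol W₀) ^ m)⁻¹ := by rw [hcw]
    have hkD : k * d₀ ∈ D :=
      (hD _).mpr ⟨(hF _).mpr hkd, (e : Hol W₀) ^ m, E.pow_mem e.2 m, hact⟩
    have hεk : ε ⟨k * d₀, hkD⟩ = e ^ m := by
      apply huniq
      intro w hw
      rw [← hε ⟨k * d₀, hkD⟩ w hw, Subgroup.coe_pow]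
      exact hact w hw
    obtain ⟨j, rfl⟩ : ∃ j, m = q ^ j := by
      rw [hkΓ] at hmΓ
      obtain ⟨j, -, hj⟩ := (Nat.dvd_prime_pow hqq).mp hmΓ
      exact ⟨j, hj⟩
    have hord : orderOf e ∣ Nat.card K :=
      (orderOf_dvd_natCard e).trans ((Subgroup.card_dvd_of_le hER).trans
        (Subgroup.card_range_dvd (psi W₀)))
    have hcop : (q ^ j).Coprime (orderOf e) := by
      apply Nat.Coprime.pow_left
      rw [Nat.Prime.coprime_iff_not_dvd hqq]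
      exact fun h => hq (h.trans hord)
    obtain ⟨i, hi⟩ := exists_pow_eq_self_of_coprime hcop
    refine ⟨⟨k * d₀, hkD⟩ ^ i, ?_⟩
    rw [map_pow, hg, hεk, hi]
  refine ⟨W, D, hWF, hDF, hWel, hWcard, hDN, g, hsurj, fun d => ?_⟩
  rw [hg, hker1, hker2]

/-- **KS 9.3.10**, for a group `Γ` of operators of prime exponent `q ∤ |K|`. -/
theorem coprime_sl2 (hsol : Cfsg.IsPSolvable p K) (hO : Cfsg.pPrimeCore p K = ⊥)
    (hnf : ¬ Cfsg.IsThompsonFactorizable p K)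
    {q : ℕ} [Fact q.Prime] (hq : ¬ q ∣ Nat.card K) {Γ : Type*} [Group Γ] [Finite Γ]
    (hΓ : ∀ x : Γ, x ^ q = 1) (Φ : Γ →* MulAut K)
    (hlift : ∀ D : Subgroup K, (∀ x d, d ∈ D → Φ x d ∈ D) → ∀ k : K,
      (∀ x, k⁻¹ * Φ x k ∈ D) → ∃ d ∈ D, ∀ x, Φ x (k * d) = k * d)
    (F : Subgroup K) (hF : ∀ k, k ∈ F ↔ ∀ x, Φ x k = k) :
    (p = 2 ∨ p = 3) ∧ ∃ W D : Subgroup K, W ≤ F ∧ D ≤ F ∧ Cfsg.IsElementaryAbelian p W ∧
      Nat.card W = p ^ 2 ∧ D ≤ Subgroup.normalizer (W : Set K) ∧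
      ∃ g : ↥D →* Matrix.SpecialLinearGroup (Fin 2) (ZMod p), Function.Surjective g ∧
        ∀ d : ↥D, g d = 1 ↔ (d : K) ∈ Subgroup.centralizer (W : Set K) := by
  have hWe := ZW_elem hsol hO
  have hOp := pCore_range_ZW (p := p) (G := K)
  obtain ⟨hs, hCK⟩ := setup_range (ZW p K) hWe hsol hOp
  have hJ : ¬ Cfsg.thompsonSubgroup p K ≤
      Subgroup.centralizer ((ZW p K : Subgroup K) : Set K) :=
    fun h => hnf ((Cfsg.Agent.S0608.result hO).mpr h)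
  obtain ⟨A, hA, hAC⟩ : ∃ A ∈ Cfsg.maxElementaryAbelianSubgroups p K,
      ¬ A ≤ Subgroup.centralizer ((ZW p K : Subgroup K) : Set K) := by
    by_contra hcon
    push Not at hcon
    exact hJ (sSup_le hcon)
  have hmapR : ∀ B : Subgroup K, B.map (psi (ZW p K)) ≤ (psi (ZW p K)).range := by
    rintro B _ ⟨a, -, rfl⟩
    exact ⟨a, rfl⟩
  have hbo := bestOffender_map (ZW p K) (isBestOffenderOn_of_mem_max (ZW p K) A hWe hA)
  have hA'1 : A.map (psi (ZW p K)) ≠ ⊥ := fun h => hAC ((map_eq_bot_iff (ZW p K) A).mp h)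
  obtain ⟨t, -, ht⟩ := exists_transv_mem hs hCK (hmapR A) hbo hA'1
  have hna := ht.hna hs hCK
  obtain ⟨hp, ⟨iso⟩, -, -⟩ := ht.EE_iso hs hna
  have hWinv : ∀ (α : MulAut K) (w : K), w ∈ ZW p K → α w ∈ ZW p K :=
    fun α w hw => ZW_aut_mem α hw
  have hqR : ¬ q ∣ Nat.card (psi (ZW p K)).range :=
    fun h => hq (h.trans (Subgroup.card_range_dvd (psi (ZW p K))))
  obtain ⟨hq2, hq3⟩ := ht.ne_of_not_dvd hs hna hqR
  have hqp : q ≠ p := by
    rcases hp with rfl | rfl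
    · exact hq2
    · exact hq3
  have hθV : ∀ x, (holAut (ZW p K) hWinv).comp Φ x ∈
      Subgroup.normalizer ((VV (ZW p K) : Subgroup (Hol (ZW p K))) : Set (Hol (ZW p K))) := by
    intro x
    rw [Subgroup.normalizer_eq_top]
    trivial
  have hθH : ∀ x, (holAut (ZW p K) hWinv).comp Φ x ∈
      Subgroup.normalizer ((psi (ZW p K)).range : Set (Hol (ZW p K))) :=
    fun x => holAut_mem_normalizer_range _ hWinv (Φ x)
  have hθK : ∀ x, (holAut (ZW p K) hWinv).comp Φ x ∈ Subgroup.normalizer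
      ((coreOf p (psi (ZW p K)).range : Subgroup (Hol (ZW p K))) : Set (Hol (ZW p K))) :=
    fun x => mem_normalizer_coreOf (hθH x)
  have hθq : ∀ x, (holAut (ZW p K) hWinv).comp Φ x ^ q = 1 := fun x => by
    rw [← map_pow, hΓ x, map_one]
  have hθt : ∀ x, (holAut (ZW p K) hWinv).comp Φ x * t *
      ((holAut (ZW p K) hWinv).comp Φ x)⁻¹ ∈ (psi (ZW p K)).range := fun x =>
    (Subgroup.mem_normalizer_iff.mp (hθH x) t).mp ht.mem
  obtain ⟨W, D, h1, h2, h3, h4, h5, g, hg1, hg2⟩ :=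
    coprime_sl2_core (ZW p K) hWe hWinv hq hqp hΓ Φ hlift F hF
      (EE (coreOf p (psi (ZW p K)).range) t)
      (spn (VV (ZW p K)) (coreOf p (psi (ZW p K)).range) t)
      (spn_le hs ht.mem) (EE_le_H hs ht.mem) (ht.EE_le_normalizer_spn hs)
      (ht.EE_inf_centralizer_spn hs hna) (ht.spn_inf_fix_EE hs hna) (ht.card_spn hs hna)
      (fun x hx => ht.conj_spn_eq_of_normalizes_EE hs hna hp hq2 hq3 (hθV x) hx (hθq x))
      (fun x hx => ht.conj_spn_mem_centralizer hs hCK (hθV x) (hθK x) (hθt x) hx)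
      (fun e he => ht.exists_norm' hs hCK hp hq2 hq3 ((holAut (ZW p K) hWinv).comp Φ)
        hθV hθH hθK hθq he)
  refine ⟨hp, W, D, h1, h2, h3, h4, h5, iso.toMonoidHom.comp g, ?_, ?_⟩
  · exact iso.surjective.comp hg1
  · intro d
    rw [← hg2 d]
    exact iso.map_eq_one_iff

end core

end Cfsg.Agent.Lib.Helper11.FFT
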