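import Mathlib
import Cfsg.Agent.Lib.Helper11.ZJ

/-!
The abelian-version Thompson subgroup `J(P)` of a subgroup `P ≤ G` (generated by the abelian
subgroups of `P` of largest order): ambient description, invariance, and the Frattini
factorization `G = ⟨J(T)^G⟩ N_G(J(T))` for a Sylow subgroup `T`.
-/

set_option autoImplicit false

namespace Cfsg.Agent.Lib.Helper11.TFS

open Cfsg.Agent.Lib.Helper11

universe u

variable {G : Type u} [Group G]

theorem thompsonA_eq (P : Subgroup G) : Cfsg.thompsonSubgroupAOf P = sSup (maxAbIn P) := by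
  unfold Cfsg.thompsonSubgroupAOf Cfsg.thompsonSubgroupA
  rw [← image_maxAb]
  apply le_antisymm
  · rw [Subgroup.map_le_iff_le_comap]
    apply sSup_le
    intro A hA
    rw [← Subgroup.map_le_iff_le_comap]
    exact le_sSup ⟨A, hA, rfl⟩
  · apply sSup_le
    rintro _ ⟨A, hA, rfl⟩
    exact Subgroup.map_mono (le_sSup hA)

theorem thompsonA_le (P : Subgroup G) : Cfsg.thompsonSubgroupAOf P ≤ P := by
  rw [thompsonA_eq]
  exact sSup_le (fun A hA => hA.1)

theorem le_thompsonA {P A : Subgroup G} (hA : A ∈ maxAbIn P) : A ≤ Cfsg.thompsonSubgroupAOf P := by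
  rw [thompsonA_eq]
  exact le_sSup hA

theorem maxAbIn_nonempty [Finite G] (P : Subgroup G) : (maxAbIn P).Nonempty :=
  maxIn_nonempty (Φ := fun A : Subgroup G => IsMulCommutative A) (replClass_comm G).bot P

theorem maxAbIn_eq_of_le [Finite G] {P P₁ : Subgroup G}
    (h1 : Cfsg.thompsonSubgroupAOf P ≤ P₁) (h2 : P₁ ≤ P) : maxAbIn P₁ = maxAbIn P := by
  obtain ⟨A₀, hA₀⟩ := maxAbIn_nonempty P
  have key := maxIn_subset_of_le (Φ := fun A : Subgroup G => IsMulCommutative A) hA₀
    ((le_thompsonA hA₀).trans h1) h2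
  apply Set.Subset.antisymm key.2
  intro A hA
  exact (maxIn_subset_of_le (Φ := fun A : Subgroup G => IsMulCommutative A) hA
    ((le_thompsonA hA).trans h1) h2).1

theorem thompsonA_eq_of_le [Finite G] {P P₁ : Subgroup G}
    (h1 : Cfsg.thompsonSubgroupAOf P ≤ P₁) (h2 : P₁ ≤ P) :
    Cfsg.thompsonSubgroupAOf P₁ = Cfsg.thompsonSubgroupAOf P := by
  rw [thompsonA_eq, thompsonA_eq, maxAbIn_eq_of_le h1 h2]

theorem maxAbIn_map_equiv (φ : G ≃* G) (P : Subgroup G) {A : Subgroup G} (hA : A ∈ maxAbIn P) :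
    A.map φ.toMonoidHom ∈ maxAbIn (P.map φ.toMonoidHom) :=
  maxIn_map_equiv (Φ := fun A : Subgroup G => IsMulCommutative A) (replClass_comm G).map_equiv φ P hA

theorem thompsonA_map_equiv (φ : G ≃* G) (P : Subgroup G) :
    (Cfsg.thompsonSubgroupAOf P).map φ.toMonoidHom =
      Cfsg.thompsonSubgroupAOf (P.map φ.toMonoidHom) := by
  rw [thompsonA_eq, thompsonA_eq]
  apply le_antisymm
  · rw [Subgroup.map_le_iff_le_comap]
    apply sSup_le
    intro A hA
    rw [← Subgroup.map_le_iff_le_comap]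
    exact le_sSup (maxAbIn_map_equiv φ P hA)
  · apply sSup_le
    intro A hA
    have h1 := maxAbIn_map_equiv φ.symm (P.map φ.toMonoidHom) hA
    rw [map_map_symm'] at h1
    have h2 := Subgroup.map_mono (f := φ.toMonoidHom) (le_sSup h1)
    rw [map_symm_map'] at h2
    exact h2

theorem normalizer_le_normalizer_thompsonA (P : Subgroup G) :
    Subgroup.normalizer (P : Set G) ≤
      Subgroup.normalizer ((Cfsg.thompsonSubgroupAOf P : Subgroup G) : Set G) := by
  intro g hg
  apply mem_normalizer_of_map_conj_eq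
  have h1 := thompsonA_map_equiv (MulAut.conj g) P
  rw [map_conj_eq_of_mem_normalizer hg] at h1
  exact h1

/-- **Frattini factorization with the Thompson subgroup.** -/
theorem normalClosure_sup_normalizer_thompsonA [Finite G] {p : ℕ} [Fact p.Prime] (T : Sylow p G) :
    Subgroup.normalClosure ((Cfsg.thompsonSubgroupAOf (T : Subgroup G) : Subgroup G) : Set G) ⊔
      Subgroup.normalizer ((Cfsg.thompsonSubgroupAOf (T : Subgroup G) : Subgroup G) : Set G) = ⊤ := by
  obtain ⟨Y, hY⟩ : ∃ Y : Subgroup G, Y = Subgroup.normalClosure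
    ((Cfsg.thompsonSubgroupAOf (T : Subgroup G) : Subgroup G) : Set G) := ⟨_, rfl⟩
  haveI : Y.Normal := by rw [hY]; exact Subgroup.normalClosure_normal
  rw [← hY]
  have h1 := frattini_inf T Y
  have hJY : Cfsg.thompsonSubgroupAOf (T : Subgroup G) ≤ Y := by
    rw [hY]; exact Subgroup.le_normalClosure
  have h2 : Cfsg.thompsonSubgroupAOf ((T : Subgroup G) ⊓ Y) =
      Cfsg.thompsonSubgroupAOf (T : Subgroup G) :=
    thompsonA_eq_of_le (le_inf (thompsonA_le _) hJY) inf_le_left
  have h3 := normalizer_le_normalizer_thompsonA ((T : Subgroup G) ⊓ Y)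
  rw [h2] at h3
  rw [eq_top_iff, ← h1, sup_comm]
  exact sup_le_sup_left h3 Y

end Cfsg.Agent.Lib.Helper11.TFS
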