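import Mathlib
import Cfsg.Agent.Lib.Helper11.FFTF
import Cfsg.Agent.Lib.Helper48.Coprime

/-!
Weak best offenders (abelian, only the cardinality condition): a Timmesfeld-type replacement.
Every nontrivial abelian weak best offender contains a nontrivial quadratic one with the same
value of `|B| |C_V(B)|`, which is then a best offender in the sense of `Cfsg.IsBestOffenderOn`.
-/

set_option autoImplicit false

namespace Cfsg.Agent.Lib.Helper11.FF

open scoped commutatorElement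
open Cfsg.Agent.Lib.Helper47 Cfsg.Agent.Lib.Helper34

variable {G : Type*} [Group G]

/-- the set of commutators `⁅x, v⁆`, `x ∈ D`. -/
def cset (D : Subgroup G) (v : G) : Set G := {g | ∃ x ∈ D, g = ⁅x, v⁆}

variable [Finite G] {p : ℕ} [Fact p.Prime] {V H K : Subgroup G}

theorem woff_mem_aux (hs : Setup p V H K) {D : Subgroup G} (hDH : D ≤ H)
    (hDc : ∀ x ∈ D, ∀ y ∈ D, x * y = y * x) {v : G} (hv : v ∈ V) {x y : G} (hx : x ∈ D)
    (hy : y ∈ D) {c c' : G} (hc : c ∈ V ⊓ Subgroup.centralizer (D : Set G))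
    (hc' : c' ∈ V ⊓ Subgroup.centralizer (D : Set G)) (h : ⁅x, v⁆ * c = ⁅y, v⁆ * c') :
    y⁻¹ * x ∈ D ⊓ Subgroup.centralizer (cset D v) := by
  have hxV : ⁅x, v⁆ ∈ V := comm_mem_of_mem_normalizer (hs.norm (hDH hx)) hv
  have hyV : ⁅y, v⁆ ∈ V := comm_mem_of_mem_normalizer (hs.norm (hDH hy)) hv
  obtain ⟨e, he_def⟩ : ∃ e, e = ⁅x, v⁆ * ⁅y, v⁆⁻¹ := ⟨_, rfl⟩
  obtain ⟨z, hz_def⟩ : ∃ z, z = y⁻¹ * x := ⟨_, rfl⟩
  have he : e = c' * c⁻¹ := by
    have h1 : ⁅y, v⁆⁻¹ * ⁅x, v⁆ = c' * c⁻¹ := by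
      calc ⁅y, v⁆⁻¹ * ⁅x, v⁆ = ⁅y, v⁆⁻¹ * (⁅x, v⁆ * c) * c⁻¹ := by group
        _ = c' * c⁻¹ := by rw [h]; group
    rw [he_def, ← h1]
    exact hs.comm _ hxV _ (V.inv_mem hyV)
  have heC : e ∈ V ⊓ Subgroup.centralizer (D : Set G) := by
    rw [he]
    exact Subgroup.mul_mem _ hc' (Subgroup.inv_mem _ hc)
  have hzD : z ∈ D := by rw [hz_def]; exact D.mul_mem (D.inv_mem hy) hx
  have hyc : y⁻¹ * e = e * y⁻¹ :=
    Subgroup.mem_centralizer_iff.mp heC.2 y⁻¹ (D.inv_mem hy)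
  have hz : ⁅z, v⁆ = e := by
    have h1 : ⁅z, v⁆ = y⁻¹ * e * y := by
      rw [hz_def, he_def]
      simp only [commutatorElement_def]; group
    rw [h1, hyc]; group
  rw [← hz_def]
  refine ⟨hzD, ?_⟩
  show z ∈ Subgroup.centralizer (cset D v)
  rw [Subgroup.mem_centralizer_iff]
  rintro s ⟨d, hd, rfl⟩
  have hdV : ⁅d, v⁆ ∈ V := comm_mem_of_mem_normalizer (hs.norm (hDH hd)) hv
  have hzd : z * d * z⁻¹ = d := by
    rw [hDc _ hzD _ hd]; group
  have hzv : z * v * z⁻¹ = e * v := by rw [conj_eq_comm_mul, hz]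
  have hde : d * e = e * d := Subgroup.mem_centralizer_iff.mp heC.2 d hd
  have hcomm : e * ⁅d, v⁆ = ⁅d, v⁆ * e := hs.comm _ heC.1 _ hdV
  have key : z * ⁅d, v⁆ * z⁻¹ = ⁅d, v⁆ := by
    calc z * ⁅d, v⁆ * z⁻¹ = (z * d * z⁻¹) * (z * v * z⁻¹) * (z * d * z⁻¹)⁻¹ * (z * v * z⁻¹)⁻¹ := by
          simp only [commutatorElement_def]; group
      _ = d * (e * v) * d⁻¹ * (e * v)⁻¹ := by rw [hzd, hzv]
      _ = (d * e) * v * d⁻¹ * v⁻¹ * e⁻¹ := by group
      _ = (e * d) * v * d⁻¹ * v⁻¹ * e⁻¹ := by rw [hde]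
      _ = e * ⁅d, v⁆ * e⁻¹ := by simp only [commutatorElement_def]; group
      _ = ⁅d, v⁆ := by rw [hcomm]; group
  calc ⁅d, v⁆ * z = (z * ⁅d, v⁆ * z⁻¹) * z := by rw [key]
    _ = z * ⁅d, v⁆ := by group

/-- the counting inequality behind Timmesfeld's replacement. -/
theorem woff_card (hs : Setup p V H K) {D : Subgroup G} (hDH : D ≤ H)
    (hDc : ∀ x ∈ D, ∀ y ∈ D, x * y = y * x) {v : G} (hv : v ∈ V) :
    Nat.card D * Nat.card ↥(V ⊓ Subgroup.centralizer (D : Set G)) ≤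
      Nat.card ↥(D ⊓ Subgroup.centralizer (cset D v)) *
        Nat.card ↥((⁅V, D⁆ ⊔ (V ⊓ Subgroup.centralizer (D : Set G))) ⊓
          Subgroup.centralizer ((D ⊓ Subgroup.centralizer (cset D v) : Subgroup G) : Set G)) := by
  classical
  obtain ⟨C, hC⟩ : ∃ C : Subgroup G, C = V ⊓ Subgroup.centralizer (D : Set G) := ⟨_, rfl⟩
  obtain ⟨D₁, hD₁⟩ : ∃ D₁ : Subgroup G, D₁ = D ⊓ Subgroup.centralizer (cset D v) := ⟨_, rfl⟩
  obtain ⟨P, hP⟩ : ∃ P : Subgroup G, P = (⁅V, D⁆ ⊔ C) ⊓ Subgroup.centralizer (D₁ : Set G) :=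
    ⟨_, rfl⟩
  rw [← hC, ← hD₁, ← hP]
  have hf : ∀ q : ↥D × ↥C, ⁅(q.1 : G), v⁆ * (q.2 : G) ∈ P := by
    rintro ⟨⟨x, hx⟩, ⟨c, hc⟩⟩
    rw [hP]
    refine ⟨Subgroup.mul_mem _ (Subgroup.mem_sup_left ?_) (Subgroup.mem_sup_right hc), ?_⟩
    · rw [Subgroup.commutator_comm]
      exact Subgroup.commutator_mem_commutator hx hv
    · show ⁅x, v⁆ * c ∈ Subgroup.centralizer (D₁ : Set G)
      rw [Subgroup.mem_centralizer_iff]
      intro d hd
      rw [SetLike.mem_coe, hD₁] at hd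
      rw [hC] at hc
      have h1 : ⁅x, v⁆ * d = d * ⁅x, v⁆ := Subgroup.mem_centralizer_iff.mp hd.2 _ ⟨x, hx, rfl⟩
      have h2 : d * c = c * d := Subgroup.mem_centralizer_iff.mp hc.2 d hd.1
      show d * (⁅x, v⁆ * c) = ⁅x, v⁆ * c * d
      calc d * (⁅x, v⁆ * c) = (d * ⁅x, v⁆) * c := by group
        _ = ⁅x, v⁆ * (d * c) := by rw [← h1]; group
        _ = ⁅x, v⁆ * c * d := by rw [h2]; group
  let f : ↥D × ↥C → ↥P := fun q => ⟨⁅(q.1 : G), v⁆ * (q.2 : G), hf q⟩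
  let rep : ↥P → ↥D := fun u => if h : ∃ q : ↥D × ↥C, f q = u then (Classical.choose h).1 else 1
  have hrep : ∀ q : ↥D × ↥C, ((rep (f q) : ↥D) : G)⁻¹ * (q.1 : G) ∈ D₁ := by
    intro q
    have hex : ∃ q' : ↥D × ↥C, f q' = f q := ⟨q, rfl⟩
    have hr : rep (f q) = (Classical.choose hex).1 := dif_pos hex
    have hspec := Classical.choose_spec hex
    rw [hr, hD₁]
    have h := congrArg Subtype.val hspec
    have hq2 : (q.2 : G) ∈ V ⊓ Subgroup.centralizer (D : Set G) := by rw [← hC]; exact q.2.2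
    have hq2' : ((Classical.choose hex).2 : G) ∈ V ⊓ Subgroup.centralizer (D : Set G) := by
      rw [← hC]; exact (Classical.choose hex).2.2
    exact woff_mem_aux hs hDH hDc hv q.1.2 (Classical.choose hex).1.2 hq2 hq2' h.symm
  let g : ↥D × ↥C → ↥D₁ × ↥P := fun q => (⟨_, hrep q⟩, f q)
  have hg : Function.Injective g := by
    intro q q' h
    have h1 : f q = f q' := congrArg Prod.snd h
    have h2 : ((rep (f q) : ↥D) : G)⁻¹ * (q.1 : G) = ((rep (f q') : ↥D) : G)⁻¹ * (q'.1 : G) :=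
      congrArg (fun t : ↥D₁ × ↥P => (t.1 : G)) h
    rw [h1] at h2
    have h3 : (q.1 : G) = q'.1 := mul_left_cancel h2
    have h4 : ⁅(q.1 : G), v⁆ * (q.2 : G) = ⁅(q'.1 : G), v⁆ * (q'.2 : G) :=
      congrArg Subtype.val h1
    rw [h3] at h4
    have h5 : (q.2 : G) = q'.2 := mul_left_cancel h4
    exact Prod.ext (Subtype.ext h3) (Subtype.ext h5)
  have := Nat.card_le_card_of_injective g hg
  rwa [Nat.card_prod, Nat.card_prod] at this

/-- a `p`-group `D` acting nontrivially (faithfully) on `V` has `[V, D] C_V(D) ≠ V`. -/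
theorem comm_sup_fix_ne (hs : Setup p V H K) {D : Subgroup G} (hDH : D ≤ H) (hD1 : D ≠ ⊥)
    (hDp : IsPGroup p D) : ⁅V, D⁆ ⊔ (V ⊓ Subgroup.centralizer (D : Set G)) ≠ V := by
  intro hV
  have hDV : D ≤ Subgroup.normalizer (V : Set G) := hDH.trans hs.norm
  have hN : ⁅V, D⁆ ≤ V := commutator_le_of_le_normalizer hDV le_rfl
  have hnN : D ≤ Subgroup.normalizer ((⁅V, D⁆ : Subgroup G) : Set G) := by
    intro d hd
    rw [Subgroup.mem_normalizer_iff]
    intro w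
    refine ⟨fun hw => conj_mem_commutator_right V D hd hw, fun hw => ?_⟩
    have h1 := conj_mem_commutator_right V D (D.inv_mem hd) hw
    have h2 : d⁻¹ * (d * w * d⁻¹) * d⁻¹⁻¹ = w := by group
    rwa [h2] at h1
  have hle : ⁅V, D⁆ ≤ ⁅⁅V, D⁆, D⁆ := by
    conv_lhs => rw [← hV]
    rw [Subgroup.commutator_le]
    intro u hu d hd
    have hcomm : ∀ a ∈ ⁅V, D⁆, ∀ b ∈ V ⊓ Subgroup.centralizer (D : Set G), a * b = b * a :=
      fun a ha b hb => hs.comm a (hN ha) b hb.1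
    rw [Cfsg.Agent.Lib.Helper25.mem_sup_of_commute hcomm] at hu
    obtain ⟨a, ha, c, hc, rfl⟩ := hu
    have hdc : d * c = c * d := Subgroup.mem_centralizer_iff.mp hc.2 d hd
    have e : ⁅a * c, d⁆ = ⁅a, d⁆ := by
      calc ⁅a * c, d⁆ = a * (c * d) * c⁻¹ * a⁻¹ * d⁻¹ := by
            simp only [commutatorElement_def]; group
        _ = a * (d * c) * c⁻¹ * a⁻¹ * d⁻¹ := by rw [hdc]
        _ = ⁅a, d⁆ := by simp only [commutatorElement_def]; group
    rw [e]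
    exact Subgroup.commutator_mem_commutator ha hd
  have hbot := Cfsg.Agent.Lib.Helper48.eq_bot_of_commutator_eq ⁅V, D⁆ D
    (hs.isPGroup_of_le hN) hDp hnN hle
  exact commutator_ne_bot hs hDH hD1 hbot

/-- **Timmesfeld-type replacement.** A nontrivial abelian weak best offender contains a nontrivial
quadratic subgroup with the same value of `|B| |C_V(B)|`. -/
theorem exists_quadratic (hs : Setup p V H K) {A : Subgroup G} (hAH : A ≤ H) (hA1 : A ≠ ⊥)
    (hAc : ∀ x ∈ A, ∀ y ∈ A, x * y = y * x) (hAp : IsPGroup p A)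
    (hbest : ∀ B : Subgroup G, B ≤ A →
      Nat.card B * Nat.card ↥(V ⊓ Subgroup.centralizer (B : Set G)) ≤
        Nat.card A * Nat.card ↥(V ⊓ Subgroup.centralizer (A : Set G))) :
    ∃ D : Subgroup G, D ≤ A ∧ D ≠ ⊥ ∧
      Nat.card D * Nat.card ↥(V ⊓ Subgroup.centralizer (D : Set G)) =
        Nat.card A * Nat.card ↥(V ⊓ Subgroup.centralizer (A : Set G)) ∧
      ∀ x ∈ D, ∀ y ∈ D, ∀ v ∈ V, ⁅x, ⁅y, v⁆⁆ = 1 := by
  classical
  let T : Set (Subgroup G) := {D | D ≤ A ∧ D ≠ ⊥ ∧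
    Nat.card D * Nat.card ↥(V ⊓ Subgroup.centralizer (D : Set G)) =
      Nat.card A * Nat.card ↥(V ⊓ Subgroup.centralizer (A : Set G))}
  have hTne : Nonempty T := ⟨⟨A, le_rfl, hA1, rfl⟩⟩
  obtain ⟨⟨D, hDA, hD1, hDm⟩, hmin⟩ := Finite.exists_min (fun D : T => Nat.card ↥(D : Subgroup G))
  refine ⟨D, hDA, hD1, hDm, ?_⟩
  have hDH : D ≤ H := hDA.trans hAH
  have hDc : ∀ x ∈ D, ∀ y ∈ D, x * y = y * x := fun x hx y hy => hAc x (hDA hx) y (hDA hy)
  have hDp : IsPGroup p D := hAp.to_le hDA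
  intro x hx y hy v hv
  have hcard := woff_card hs hDH hDc hv
  by_cases hD₁ : D ⊓ Subgroup.centralizer (cset D v) = ⊥
  · exfalso
    rw [hD₁, Subgroup.card_bot, one_mul, centralizer_bot, inf_top_eq] at hcard
    have hle : ⁅V, D⁆ ⊔ (V ⊓ Subgroup.centralizer (D : Set G)) ≤ V :=
      sup_le (commutator_le_of_le_normalizer (hDH.trans hs.norm) le_rfl) inf_le_left
    have h1 := hbest ⊥ bot_le
    rw [Subgroup.card_bot, one_mul, centralizer_bot, inf_top_eq] at h1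
    have h2 : Nat.card V ≤ Nat.card ↥(⁅V, D⁆ ⊔ (V ⊓ Subgroup.centralizer (D : Set G))) := by
      calc Nat.card V ≤ _ := h1
        _ = _ := hDm.symm
        _ ≤ _ := hcard
    exact comm_sup_fix_ne hs hDH hD1 hDp (Subgroup.eq_of_le_of_card_ge hle h2)
  · have hD₁A : D ⊓ Subgroup.centralizer (cset D v) ≤ A := inf_le_left.trans hDA
    have h1 := hbest _ hD₁A
    have h2 : Nat.card ↥((⁅V, D⁆ ⊔ (V ⊓ Subgroup.centralizer (D : Set G))) ⊓
          Subgroup.centralizer ((D ⊓ Subgroup.centralizer (cset D v) : Subgroup G) : Set G)) ≤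
        Nat.card ↥(V ⊓ Subgroup.centralizer
          ((D ⊓ Subgroup.centralizer (cset D v) : Subgroup G) : Set G)) := by
      apply Subgroup.card_le_of_le
      apply inf_le_inf_right
      exact sup_le (commutator_le_of_le_normalizer (hDH.trans hs.norm) le_rfl) inf_le_left
    have h3 : Nat.card ↥(D ⊓ Subgroup.centralizer (cset D v)) *
        Nat.card ↥(V ⊓ Subgroup.centralizer
          ((D ⊓ Subgroup.centralizer (cset D v) : Subgroup G) : Set G)) =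
        Nat.card A * Nat.card ↥(V ⊓ Subgroup.centralizer (A : Set G)) := by
      apply le_antisymm h1
      calc _ = _ := hDm.symm
        _ ≤ _ := hcard
        _ ≤ _ := Nat.mul_le_mul_left _ h2
    have h4 := hmin ⟨D ⊓ Subgroup.centralizer (cset D v), hD₁A, hD₁, h3⟩
    have h5 : D ⊓ Subgroup.centralizer (cset D v) = D :=
      Subgroup.eq_of_le_of_card_ge inf_le_left h4
    have h6 : x ∈ Subgroup.centralizer (cset D v) := by
      have : x ∈ D ⊓ Subgroup.centralizer (cset D v) := by rw [h5]; exact hx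
      exact this.2
    rw [comm_eq_one_iff]
    exact (Subgroup.mem_centralizer_iff.mp h6 _ ⟨y, hy, rfl⟩).symm

/-- a quadratic abelian weak best offender is a best offender. -/
theorem bestOffender_of_quadratic (hs : Setup p V H K) {D : Subgroup G} (hDH : D ≤ H)
    (hDc : ∀ x ∈ D, ∀ y ∈ D, x * y = y * x)
    (hbest : ∀ B : Subgroup G, B ≤ D →
      Nat.card B * Nat.card ↥(V ⊓ Subgroup.centralizer (B : Set G)) ≤
        Nat.card D * Nat.card ↥(V ⊓ Subgroup.centralizer (D : Set G)))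
    (hq : ∀ x ∈ D, ∀ v ∈ V, ⁅x, ⁅x, v⁆⁆ = 1) : Cfsg.IsBestOffenderOn p V D := by
  refine ⟨hbest, ?_, ?_⟩
  · rw [Subgroup.commutator_le]
    intro x hx y hy
    have : ⁅x, y⁆ = 1 := by
      rw [commutatorElement_eq_one_iff_mul_comm]
      exact hDc x hx y hy
    rw [this]
    exact Subgroup.one_mem _
  · intro d hd
    rw [Subgroup.mem_centralizer_iff]
    intro v hv
    have h1 : d * ⁅d, v⁆ = ⁅d, v⁆ * d := (comm_eq_one_iff _ _).mp (hq d hd v hv)
    have h2 : ⁅d ^ p, v⁆ = ⁅d, v⁆ ^ p := comm_pow_left h1 p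
    have h3 : ⁅d, v⁆ ^ p = 1 :=
      hs.exp _ (comm_mem_of_mem_normalizer (hs.norm (hDH hd)) hv)
    rw [h3, comm_eq_one_iff] at h2
    exact h2.symm

end Cfsg.Agent.Lib.Helper11.FF
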