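import Mathlib
import Cfsg.Agent.Lib.Helper11.WOff1

/-!
Abelian weak best offenders are elementary abelian (in the faithful `Setup` with
`C_H(K) ≤ K`), hence best offenders in the sense of `Cfsg.IsBestOffenderOn`.
-/

set_option autoImplicit false

namespace Cfsg.Agent.Lib.Helper11.FF

open scoped commutatorElement
open Cfsg.Agent.Lib.Helper47 Cfsg.Agent.Lib.Helper34

variable {G : Type*} [Group G] [Finite G] {p : ℕ} [Fact p.Prime] {V H K : Subgroup G}

/-- a `p`-element normalizing a subgroup of order `p` centralizes it. -/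
theorem commute_of_card_prime' {P : Subgroup G} (hP : Nat.card P = p) {g : G} {j : ℕ}
    (hg : g ^ (p ^ j) = 1)
    (hn : ∀ w ∈ P, g * w * g⁻¹ ∈ P) {w : G} (hw : w ∈ P) : g * w = w * g := by
  have hpp : p.Prime := Fact.out
  by_cases hw1 : w = 1
  · rw [hw1]; simp
  have hz := zpowers_eq_of_card_prime hP hw hw1
  have h1 : g * w * g⁻¹ ∈ Subgroup.zpowers w := by rw [hz]; exact hn w hw
  have hord : orderOf w = p := by
    have := Nat.card_zpowers w
    rw [hz, hP] at this
    exact this.symm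
  have h2 : (orderOf g).Coprime (orderOf w).totient := by
    rw [hord, Nat.totient_prime hpp]
    have h3 : orderOf g ∣ p ^ j := orderOf_dvd_of_pow_eq_one hg
    have h4 : (p - 1).Coprime p := by
      have h5 : p - 1 + 1 = p := Nat.sub_add_cancel hpp.one_lt.le
      have h4 : (p - 1).Coprime (p - 1 + 1) := by simp
      rwa [h5] at h4
    exact Nat.Coprime.coprime_dvd_left h3 (Nat.Coprime.pow_left j h4.symm)
  have h3 := Cfsg.Agent.Lib.Helper67.conj_eq_self_of_coprime_totient w g h1 h2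
  calc g * w = g * w * g⁻¹ * g := by group
    _ = w * g := by rw [h3]

theorem IsTransv.not_mem_centralizer_spn (hs : Setup p V H K)
    (hCK : H ⊓ Subgroup.centralizer (K : Set G) ≤ K) {t : G} (ht : IsTransv p V H t) :
    t ∉ Subgroup.centralizer ((spn V K t : Subgroup G) : Set G) := by
  intro hc
  obtain ⟨w, hw, hwL⟩ := ht.exists_mem_spn_not_mem_ctr hs (ht.hna hs hCK)
  exact hwL (ht.mem_ctr_of_mem_spn_of_commute hs hw
    ((Subgroup.mem_centralizer_iff.mp hc w hw).symm))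

/-- an element of `H` of `p`-power order commuting with the transvection `t` is, modulo a power
of `t`, trivial on the span of the centres of the `K`-conjugates of `t`. -/
theorem IsTransv.exists_pow_centralizes_spn (hs : Setup p V H K)
    (hCK : H ⊓ Subgroup.centralizer (K : Set G) ≤ K) {t : G} (ht : IsTransv p V H t)
    {a : G} (haH : a ∈ H) (hat : a * t = t * a) {j : ℕ} (haj : a ^ (p ^ j) = 1) :
    ∃ k : ℕ, a * (t ^ k)⁻¹ ∈ Subgroup.centralizer ((spn V K t : Subgroup G) : Set G) := by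
  have hpp : p.Prime := Fact.out
  have haV : a ∈ Subgroup.normalizer (V : Set G) := hs.norm haH
  have htV : t ∈ Subgroup.normalizer (V : Set G) := hs.norm ht.mem
  have haU : a ∈ Subgroup.normalizer ((spn V K t : Subgroup G) : Set G) :=
    ht.mem_normalizer_spn_of_commute hs haH hat
  have hUV : spn V K t ≤ V := spn_le hs ht.mem
  have hLV : ctr V t ≤ V := ctr_le htV
  have haL : ∀ w ∈ ctr V t, a * w * a⁻¹ ∈ ctr V t := by
    intro w hw
    have h1 := conj_mem_ctr_conj (x := a) haV hw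
    have h2 : a * t * a⁻¹ = t := by rw [hat, mul_inv_cancel_right]
    rwa [h2] at h1
  have haLc : ∀ w ∈ ctr V t, a * w = w * a := fun w hw =>
    commute_of_card_prime' ht.card haj haL hw
  have hcomm_mem : ∀ w ∈ spn V K t, ⁅a, w⁆ ∈ ctr V t := by
    intro w hw
    have hwV : w ∈ V := hUV hw
    apply ht.mem_ctr_of_mem_spn_of_commute hs (comm_mem_of_mem_normalizer haU hw)
    have htw : ⁅t, w⁆ ∈ ctr V t := comm_mem_ctr hwV
    have h1 : ⁅a, ⁅t, w⁆⁆ = 1 := by
      rw [comm_eq_one_iff]; exact haLc _ htw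
    have h2 : ⁅a, ⁅t, w⁆ * w⁆ = ⁅a, w⁆ := by
      rw [comm_mul hs.comm haV (hLV htw) hwV, h1, one_mul]
    have h3 : t * ⁅a, w⁆ * t⁻¹ = ⁅a, w⁆ := by
      calc t * ⁅a, w⁆ * t⁻¹ = ⁅t * a * t⁻¹, t * w * t⁻¹⁆ := by
            simp only [commutatorElement_def]; group
        _ = ⁅a, ⁅t, w⁆ * w⁆ := by
            rw [conj_eq_comm_mul t w]
            have : t * a * t⁻¹ = a := by rw [← hat, mul_inv_cancel_right]
            rw [this]
        _ = ⁅a, w⁆ := h2
    calc t * ⁅a, w⁆ = t * ⁅a, w⁆ * t⁻¹ * t := by group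
      _ = ⁅a, w⁆ * t := by rw [h3]
  obtain ⟨w₀, hw₀U, hw₀L⟩ := ht.exists_mem_spn_not_mem_ctr hs (ht.hna hs hCK)
  have hw₀V : w₀ ∈ V := hUV hw₀U
  have hne : ⁅t, w₀⁆ ≠ 1 := by
    intro h
    rw [comm_eq_one_iff] at h
    exact hw₀L (ht.mem_ctr_of_mem_spn_of_commute hs hw₀U h)
  obtain ⟨k, hk⟩ := exists_pow_of_card_prime ht.card (comm_mem_ctr hw₀V) hne (hcomm_mem w₀ hw₀U)
  refine ⟨k, ?_⟩
  obtain ⟨a₁, ha₁⟩ : ∃ a₁, a₁ = a * (t ^ k)⁻¹ := ⟨_, rfl⟩
  rw [← ha₁]
  have htk : ⁅t ^ k, w₀⁆ = ⁅t, w₀⁆ ^ k := ht.comm_pow hw₀V k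
  have ha₁L : ∀ w ∈ ctr V t, a₁ * w = w * a₁ := by
    intro w hw
    have h1 : Commute a w := haLc w hw
    have h2 : Commute t w := ht.commute_ctr hw
    have h3 : Commute (a * (t ^ k)⁻¹) w := h1.mul_left (h2.pow_left k).inv_left
    rw [ha₁]; exact h3.eq
  have ha_eq : a = a₁ * t ^ k := by rw [ha₁]; group
  have h4 : ⁅a₁, w₀⁆ = 1 := by
    have h5 := comm_mul_left a₁ (t ^ k) w₀
    rw [← ha_eq, hk, htk] at h5
    have h6 : a₁ * ⁅t, w₀⁆ ^ k * a₁⁻¹ = ⁅t, w₀⁆ ^ k := by
      rw [ha₁L _ (Subgroup.pow_mem _ (comm_mem_ctr hw₀V) k), mul_inv_cancel_right]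
    rw [h6] at h5
    have h7 : ⁅t, w₀⁆ ^ k * ⁅a₁, w₀⁆ = ⁅t, w₀⁆ ^ k * 1 := by rw [mul_one]; exact h5.symm
    exact mul_left_cancel h7
  have ha₁w : a₁ * w₀ = w₀ * a₁ := (comm_eq_one_iff _ _).mp h4
  have hMU : ctr V t ⊔ Subgroup.zpowers w₀ ≤ spn V K t :=
    sup_le ctr_self_le_spn (Subgroup.zpowers_le.mpr hw₀U)
  have hM : ctr V t ⊔ Subgroup.zpowers w₀ = spn V K t := by
    apply Subgroup.eq_of_le_of_card_ge hMU
    have hdvd := Subgroup.card_dvd_of_le hMU
    rw [ht.card_spn hs (ht.hna hs hCK)] at hdvd ⊢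
    obtain ⟨i, hi, hci⟩ := (Nat.dvd_prime_pow hpp).mp hdvd
    have hLM : ctr V t ≤ ctr V t ⊔ Subgroup.zpowers w₀ := le_sup_left
    have hlt : p < Nat.card ↥(ctr V t ⊔ Subgroup.zpowers w₀) := by
      by_contra hcon
      push Not at hcon
      have h7 : ctr V t = ctr V t ⊔ Subgroup.zpowers w₀ :=
        Subgroup.eq_of_le_of_card_ge hLM (by rw [ht.card]; exact hcon)
      apply hw₀L
      rw [h7]
      exact Subgroup.mem_sup_right (Subgroup.mem_zpowers w₀)
    rw [hci] at hlt ⊢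
    have hi2 : i = 2 := by
      by_contra hne2
      have hi1 : i ≤ 1 := by omega
      have : p ^ i ≤ p ^ 1 := Nat.pow_le_pow_right hpp.pos hi1
      rw [pow_one] at this
      omega
    rw [hi2]
  show a₁ ∈ Subgroup.centralizer ((spn V K t : Subgroup G) : Set G)
  rw [← hM, mem_centralizer_sup, centralizer_zpowers, mem_centralizer_singleton_iff]
  refine ⟨?_, ha₁w.symm⟩
  rw [Subgroup.mem_centralizer_iff]
  intro w hw
  exact (ha₁L w hw).symm

/-- adjoining the transvection `t` to a subgroup centralizing the span of `t` and commuting with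
`t` does not change `|B| |C_V(B)|`. -/
theorem IsTransv.m_sup (hs : Setup p V H K)
    (hCK : H ⊓ Subgroup.centralizer (K : Set G) ≤ K) {t : G} (ht : IsTransv p V H t)
    {B : Subgroup G} (hBU : B ≤ Subgroup.centralizer ((spn V K t : Subgroup G) : Set G))
    (hBt : ∀ b ∈ B, b * t = t * b) :
    Nat.card ↥(B ⊔ Subgroup.zpowers t) *
        Nat.card ↥(V ⊓ Subgroup.centralizer ((B ⊔ Subgroup.zpowers t : Subgroup G) : Set G)) =
      Nat.card B * Nat.card ↥(V ⊓ Subgroup.centralizer (B : Set G)) := by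
  have hpp : p.Prime := Fact.out
  have htV : t ∈ Subgroup.normalizer (V : Set G) := hs.norm ht.mem
  have htU := ht.not_mem_centralizer_spn hs hCK
  have hzt : Nat.card (Subgroup.zpowers t) = p := by
    rw [Nat.card_zpowers]
    exact orderOf_eq_prime ht.pow ht.ne_one
  have hinf : B ⊓ Subgroup.zpowers t = ⊥ := by
    rw [eq_bot_iff]
    rintro x ⟨hxB, hxt⟩
    rw [Subgroup.mem_bot]
    by_contra hx1
    have hz := zpowers_eq_of_card_prime hzt hxt hx1
    apply htU
    apply hBU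
    have : t ∈ Subgroup.zpowers x := by rw [hz]; exact Subgroup.mem_zpowers t
    exact (Subgroup.zpowers_le.mpr hxB) this
  have hcomm : ∀ b ∈ B, ∀ c ∈ Subgroup.zpowers t, b * c = c * b := by
    intro b hb c hc
    obtain ⟨k, rfl⟩ := Subgroup.mem_zpowers_iff.mp hc
    exact ((show Commute b t from hBt b hb).zpow_right k).eq
  have hcard := card_sup_of_comm_of_inf_eq_bot hcomm hinf
  rw [hzt] at hcard
  obtain ⟨V', hV'⟩ : ∃ V' : Subgroup G, V' = V ⊓ Subgroup.centralizer (B : Set G) := ⟨_, rfl⟩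
  have hV'c : ∀ u ∈ V', ∀ v ∈ V', u * v = v * u := by
    intro u hu v hv
    rw [hV'] at hu hv
    exact hs.comm u hu.1 v hv.1
  have key : ∀ s : G, s ∈ Subgroup.normalizer (V : Set G) → (∀ b ∈ B, b * s = s * b) →
      ∀ v ∈ V', s * v * s⁻¹ ∈ V' := by
    intro s hsV hsB v hv
    rw [hV'] at hv ⊢
    refine ⟨conj_mem_of_mem_normalizer hsV hv.1, ?_⟩
    show s * v * s⁻¹ ∈ Subgroup.centralizer (B : Set G)
    rw [Subgroup.mem_centralizer_iff]
    intro b hb
    have h1 : Commute b v := Subgroup.mem_centralizer_iff.mp hv.2 b hb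
    have h2 : Commute b s := hsB b hb
    exact ((h2.mul_right h1).mul_right h2.inv_right).eq
  have htV' : t ∈ Subgroup.normalizer (V' : Set G) := by
    rw [Subgroup.mem_normalizer_iff]
    intro v
    refine ⟨key t htV hBt v, fun hv => ?_⟩
    have hBt' : ∀ b ∈ B, b * t⁻¹ = t⁻¹ * b := fun b hb =>
      ((show Commute b t from hBt b hb).inv_right).eq
    have h1 := key t⁻¹ (Subgroup.inv_mem _ htV) hBt' _ hv
    have h2 : t⁻¹ * (t * v * t⁻¹) * t⁻¹⁻¹ = v := by group
    rwa [h2] at h1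
  have hfix := card_eq_fix_mul_ctr hV'c htV'
  have hctr : Nat.card ↥(ctr V' t) = p := by
    have hle : ctr V' t ≤ ctr V t :=
      Subgroup.commutator_mono (by rw [hV']; exact inf_le_left) le_rfl
    apply le_antisymm
    · have := Subgroup.card_le_of_le hle
      rwa [ht.card] at this
    · have hex : ∃ w ∈ spn V K t, t * w ≠ w * t := by
        by_contra hcon
        push Not at hcon
        apply htU
        rw [Subgroup.mem_centralizer_iff]
        intro w hw
        exact (hcon w hw).symm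
      obtain ⟨w, hwU, hwt⟩ := hex
      have hwV' : w ∈ V' := by
        rw [hV']
        refine ⟨spn_le hs ht.mem hwU, ?_⟩
        show w ∈ Subgroup.centralizer (B : Set G)
        rw [Subgroup.mem_centralizer_iff]
        intro b hb
        exact (Subgroup.mem_centralizer_iff.mp (hBU hb) w hwU).symm
      have hx : ⁅t, w⁆ ∈ ctr V' t := comm_mem_ctr hwV'
      have hx1 : ⁅t, w⁆ ≠ 1 := by
        intro h; rw [comm_eq_one_iff] at h; exact hwt h
      have hz := zpowers_eq_of_card_prime ht.card (hle hx) hx1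
      have h3 : ctr V t ≤ ctr V' t := by rw [← hz]; exact Subgroup.zpowers_le.mpr hx
      have := Subgroup.card_le_of_le h3
      rwa [ht.card] at this
  have hcen : V ⊓ Subgroup.centralizer ((B ⊔ Subgroup.zpowers t : Subgroup G) : Set G) =
      V' ⊓ Subgroup.centralizer ({t} : Set G) := by
    rw [centralizer_sup, centralizer_zpowers, hV', inf_assoc]
  rw [hcen, hcard, ← hV', hfix, hctr]
  ring

/-- **Abelian weak best offenders are elementary abelian.** -/
theorem weak_offender_elem (hs : Setup p V H K)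
    (hCK : H ⊓ Subgroup.centralizer (K : Set G) ≤ K) :
    ∀ n : ℕ, ∀ A : Subgroup G, Nat.card A = n → A ≤ H → IsPGroup p A →
      (∀ x ∈ A, ∀ y ∈ A, x * y = y * x) →
      (∀ B : Subgroup G, B ≤ A →
        Nat.card B * Nat.card ↥(V ⊓ Subgroup.centralizer (B : Set G)) ≤
          Nat.card A * Nat.card ↥(V ⊓ Subgroup.centralizer (A : Set G))) →
      ∀ a ∈ A, a ^ p = 1 := by
  intro n
  induction n using Nat.strong_induction_on with
  | _ n ih =>
  intro A hn hAH hAp hAc hbest a ha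
  by_cases hA1 : A = ⊥
  · rw [hA1, Subgroup.mem_bot] at ha
    rw [ha, one_pow]
  obtain ⟨D, hDA, hD1, hDm, hDq⟩ := exists_quadratic hs hAH hA1 hAc hAp hbest
  have hDH : D ≤ H := hDA.trans hAH
  have hDc : ∀ x ∈ D, ∀ y ∈ D, x * y = y * x := fun x hx y hy => hAc x (hDA hx) y (hDA hy)
  have hDbest : Cfsg.IsBestOffenderOn p V D := by
    apply bestOffender_of_quadratic hs hDH hDc
    · intro B hB
      rw [hDm]
      exact hbest B (hB.trans hDA)
    · intro x hx v hv
      exact hDq x hx x hx v hv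
  obtain ⟨t, htD, ht⟩ := Cfsg.Agent.Lib.Helper11.FFT.exists_transv_mem hs hCK hDH hDbest hD1
  have htA : t ∈ A := hDA htD
  obtain ⟨A₁, hA₁⟩ : ∃ A₁ : Subgroup G,
      A₁ = A ⊓ Subgroup.centralizer ((spn V K t : Subgroup G) : Set G) := ⟨_, rfl⟩
  have hA₁A : A₁ ≤ A := by rw [hA₁]; exact inf_le_left
  have hA₁U : A₁ ≤ Subgroup.centralizer ((spn V K t : Subgroup G) : Set G) := by
    rw [hA₁]; exact inf_le_right
  have htU := ht.not_mem_centralizer_spn hs hCK
  have hlt : Nat.card A₁ < n := by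
    rw [← hn]
    by_contra hcon
    push Not at hcon
    have := Subgroup.eq_of_le_of_card_ge hA₁A hcon
    apply htU
    apply hA₁U
    rw [this]; exact htA
  have hsplit : ∀ b ∈ A, ∃ k : ℕ, b * (t ^ k)⁻¹ ∈ A₁ := by
    intro b hb
    obtain ⟨j, hj⟩ := hAp ⟨b, hb⟩
    have hj' : b ^ (p ^ j) = 1 := by
      have := congrArg Subtype.val hj
      simpa using this
    obtain ⟨k, hk⟩ := ht.exists_pow_centralizes_spn hs hCK (hAH hb) (hAc b hb t htA) hj'
    refine ⟨k, ?_⟩
    rw [hA₁]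
    exact ⟨A.mul_mem hb (A.inv_mem (A.pow_mem htA k)), hk⟩
  have hA₁t : ∀ b ∈ A₁, b * t = t * b := fun b hb => hAc b (hA₁A hb) t htA
  have hsup : A₁ ⊔ Subgroup.zpowers t = A := by
    apply le_antisymm
    · exact sup_le hA₁A (Subgroup.zpowers_le.mpr htA)
    · intro b hb
      obtain ⟨k, hk⟩ := hsplit b hb
      have : b = b * (t ^ k)⁻¹ * t ^ k := by group
      rw [this]
      exact Subgroup.mul_mem _ (Subgroup.mem_sup_left hk)
        (Subgroup.mem_sup_right (Subgroup.pow_mem _ (Subgroup.mem_zpowers t) k))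
  have hmA : Nat.card A * Nat.card ↥(V ⊓ Subgroup.centralizer (A : Set G)) =
      Nat.card A₁ * Nat.card ↥(V ⊓ Subgroup.centralizer (A₁ : Set G)) := by
    have := ht.m_sup hs hCK hA₁U hA₁t
    rw [hsup] at this
    exact this
  have hbest₁ : ∀ B : Subgroup G, B ≤ A₁ →
        Nat.card B * Nat.card ↥(V ⊓ Subgroup.centralizer (B : Set G)) ≤
          Nat.card A₁ * Nat.card ↥(V ⊓ Subgroup.centralizer (A₁ : Set G)) := by
    intro B hB
    rw [← hmA, ← ht.m_sup hs hCK (hB.trans hA₁U) (fun b hb => hA₁t b (hB hb))]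
    apply hbest
    exact sup_le (hB.trans hA₁A) (Subgroup.zpowers_le.mpr htA)
  obtain ⟨k, hk⟩ := hsplit a ha
  have h1 := ih (Nat.card A₁) hlt A₁ rfl (hA₁A.trans hAH) (hAp.to_le hA₁A)
    (fun x hx y hy => hAc x (hA₁A hx) y (hA₁A hy)) hbest₁ _ hk
  have h2 : a = a * (t ^ k)⁻¹ * t ^ k := by group
  have h3 : Commute (a * (t ^ k)⁻¹) (t ^ k) := hAc _ (hA₁A hk) _ (A.pow_mem htA k)
  rw [h2, h3.mul_pow, h1, one_mul, ← pow_mul, mul_comm, pow_mul, ht.pow, one_pow]

/-- an abelian weak best offender of `p`-power order is a best offender. -/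
theorem bestOffender_of_weak (hs : Setup p V H K)
    (hCK : H ⊓ Subgroup.centralizer (K : Set G) ≤ K) {A : Subgroup G} (hAH : A ≤ H)
    (hAp : IsPGroup p A) (hAc : ∀ x ∈ A, ∀ y ∈ A, x * y = y * x)
    (hbest : ∀ B : Subgroup G, B ≤ A →
        Nat.card B * Nat.card ↥(V ⊓ Subgroup.centralizer (B : Set G)) ≤
          Nat.card A * Nat.card ↥(V ⊓ Subgroup.centralizer (A : Set G))) :
    Cfsg.IsBestOffenderOn p V A := by
  refine ⟨hbest, ?_, ?_⟩
  · rw [Subgroup.commutator_le]
    intro x hx y hy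
    have : ⁅x, y⁆ = 1 := by
      rw [commutatorElement_eq_one_iff_mul_comm]
      exact hAc x hx y hy
    rw [this]
    exact Subgroup.one_mem _
  · intro a ha
    rw [weak_offender_elem hs hCK _ A rfl hAH hAp hAc hbest a ha]
    exact Subgroup.one_mem _

end Cfsg.Agent.Lib.Helper11.FF
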