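import Mathlib
import Cfsg.Agent.Lib.Helper11.TFS1
import Cfsg.Agent.Lib.Helper11.WOff2
import Cfsg.Agent.Lib.Helper51.ReplOdd
import Cfsg.Agent.Lib.Helper79.SolvPSolv
import Cfsg.Agent.Lib.Helper23.Transport

/-!
The module `W = Ω₁(⟨Z(T)^X⟩)` for a Sylow `p`-subgroup `T` of a group `X` with
`C_X(O_p(X)) ≤ O_p(X)`: `C_X(W)` is the largest normal subgroup of `X` centralizing `Z(T)`,
`O_p(X / C_X(W)) = 1`, and abelian subgroups of largest order of Sylow subgroups are weak best
offenders on `W`.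
-/

set_option autoImplicit false

namespace Cfsg.Agent.Lib.Helper11.TFS

open scoped commutatorElement
open Cfsg.Agent.Lib.Helper11 Cfsg.Agent.Lib.Helper11.FFT Cfsg.Agent.Lib.Helper11.FF

variable {X : Type*} [Group X]

/-- `Z(T)`. -/
abbrev ZT {p : ℕ} (T : Sylow p X) : Subgroup X :=
  (T : Subgroup X) ⊓ Subgroup.centralizer ((T : Subgroup X) : Set X)

/-- the normal closure of `Z(T)`. -/
abbrev V0 {p : ℕ} (T : Sylow p X) : Subgroup X := Subgroup.normalClosure (ZT T : Set X)

/-- the largest normal subgroup centralizing `Z(T)`. -/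
abbrev CZ {p : ℕ} (T : Sylow p X) : Subgroup X :=
  (Subgroup.centralizer (ZT T : Set X)).normalCore

/-- `Ω₁` of the normal closure of `Z(T)`. -/
abbrev WT {p : ℕ} (T : Sylow p X) : Subgroup X := Cfsg.omegaOne p (V0 T)

instance WT_normal {p : ℕ} (T : Sylow p X) : (WT T).Normal :=
  omegaOne_normal p (V0 T)

theorem CZ_eq {p : ℕ} (T : Sylow p X) : CZ T = Subgroup.centralizer (V0 T : Set X) := by
  apply le_antisymm
  · haveI : (Subgroup.centralizer (CZ T : Set X)).Normal := Subgroup.normal_centralizer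
    rw [Subgroup.le_centralizer_iff]
    apply Subgroup.normalClosure_le_normal
    have : ZT T ≤ Subgroup.centralizer (CZ T : Set X) := by
      rw [Subgroup.le_centralizer_iff]
      exact Subgroup.normalCore_le _
    exact this
  · haveI : (Subgroup.centralizer (V0 T : Set X)).Normal := Subgroup.normal_centralizer
    rw [Subgroup.normal_le_normalCore]
    exact Subgroup.centralizer_le Subgroup.subset_normalClosure

/-- a normal subgroup that is a `p`-group modulo `CZ T` lies in `CZ T`. -/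
theorem le_CZ_of_pow_mem [Finite X] {p : ℕ} [Fact p.Prime] (T : Sylow p X) (D : Subgroup X)
    [D.Normal] (hD : ∀ d ∈ D, ∃ k : ℕ, d ^ (p ^ k) ∈ CZ T) : D ≤ CZ T := by
  have h0 := Cfsg.Agent.Lib.Helper47.le_sup_sylow_of_pow_mem D (CZ T) hD T
  rw [Subgroup.normal_le_normalCore]
  refine h0.trans (sup_le (Subgroup.normalCore_le _) ?_)
  intro t ht
  rw [Subgroup.mem_centralizer_iff]
  intro z hz
  exact (Subgroup.mem_centralizer_iff.mp hz.2 t ht).symm

section hC

variable {p : ℕ} (T : Sylow p X)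
  (hC : Subgroup.centralizer (Cfsg.pCore p X : Set X) ≤ Cfsg.pCore p X)

include hC in
theorem V0_le : V0 T ≤ Cfsg.pCore p X ⊓ Subgroup.centralizer (Cfsg.pCore p X : Set X) := by
  haveI : (Cfsg.pCore p X).Normal := pCore_normal' p X
  haveI : (Subgroup.centralizer (Cfsg.pCore p X : Set X)).Normal := Subgroup.normal_centralizer
  apply Subgroup.normalClosure_le_normal
  intro z hz
  have hzc : z ∈ Subgroup.centralizer (Cfsg.pCore p X : Set X) :=
    Subgroup.centralizer_le (by exact_mod_cast Cfsg.Agent.Lib.Helper63.pCore_le_sylow' p T) hz.2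
  exact ⟨hC hzc, hzc⟩

include hC in
theorem V0_comm : ∀ a ∈ V0 T, ∀ b ∈ V0 T, a * b = b * a := by
  intro a ha b hb
  have ha' := V0_le T hC ha
  have hb' := V0_le T hC hb
  exact Subgroup.mem_centralizer_iff.mp hb'.2 a ha'.1

include hC in
theorem V0_isPGroup : IsPGroup p (V0 T) :=
  (Cfsg.Agent.Lib.Helper63.pCore_isPGroup' p X).to_le ((V0_le T hC).trans inf_le_left)

include hC in
theorem WT_elem : Cfsg.IsElementaryAbelian p (WT T) :=
  Cfsg.Agent.Lib.Helper47.isElementaryAbelian_omegaOne p (V0 T) (V0_comm T hC)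

include hC in
theorem mem_WT (x : X) : x ∈ WT T ↔ x ∈ V0 T ∧ x ^ p = 1 :=
  Cfsg.Agent.Lib.Helper51.mem_omegaOne_of_comm p (V0 T)
    (IsMulCommutative.of_setLike_mul_comm (V0_comm T hC)) x

include hC in
theorem WT_le_pCore : WT T ≤ Cfsg.pCore p X :=
  (omegaOne_le p (V0 T)).trans ((V0_le T hC).trans inf_le_left)

include hC in
theorem WT_comm : ∀ a ∈ WT T, ∀ b ∈ WT T, a * b = b * a := fun a ha b hb =>
  V0_comm T hC a (omegaOne_le p (V0 T) ha) b (omegaOne_le p (V0 T) hb)

include hC in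
/-- an element of order prime to `p` centralizing `Ω₁(V₀)` centralizes `V₀`. -/
theorem commute_V0_of_coprime {g : X} {m : ℕ} (hm : m.Coprime p) (hgm : g ^ m = 1)
    (hgW : g ∈ Subgroup.centralizer (WT T : Set X)) :
    ∀ j : ℕ, ∀ v ∈ V0 T, v ^ (p ^ j) = 1 → g * v = v * g := by
  intro j
  induction j with
  | zero =>
    intro v _ hv
    rw [pow_zero, pow_one] at hv
    rw [hv]; simp
  | succ j ih =>
    intro v hv hvp
    have hVn : (V0 T).Normal := Subgroup.normalClosure_normal
    have hu : g * v ^ p = v ^ p * g :=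
      ih (v ^ p) (Subgroup.pow_mem _ hv p) (by rw [← pow_mul, ← pow_succ']; exact hvp)
    have hgv : g * v * g⁻¹ ∈ V0 T := hVn.conj_mem v hv g
    have hwV : ⁅g, v⁆ ∈ V0 T := by
      rw [commutatorElement_def]; exact Subgroup.mul_mem _ hgv (Subgroup.inv_mem _ hv)
    have hwp : ⁅g, v⁆ ^ p = 1 := by
      have hc : Commute (g * v * g⁻¹) v⁻¹ := V0_comm T hC _ hgv _ (Subgroup.inv_mem _ hv)
      rw [commutatorElement_def, hc.mul_pow, conj_pow, inv_pow, hu, mul_inv_cancel_right]
      exact mul_inv_cancel _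
    have hwW : ⁅g, v⁆ ∈ WT T := (mem_WT T hC _).mpr ⟨hwV, hwp⟩
    have hgw : g * ⁅g, v⁆ = ⁅g, v⁆ * g := (Subgroup.mem_centralizer_iff.mp hgW _ hwW).symm
    have h1 := comm_pow_left hgw m
    rw [hgm] at h1
    have h2 : ⁅g, v⁆ ^ m = 1 := by rw [← h1]; simp [commutatorElement_def]
    have h3 : orderOf ⁅g, v⁆ ∣ Nat.gcd m p :=
      Nat.dvd_gcd (orderOf_dvd_of_pow_eq_one h2) (orderOf_dvd_of_pow_eq_one hwp)
    rw [Nat.Coprime.gcd_eq_one hm, Nat.dvd_one, orderOf_eq_one_iff] at h3
    exact (comm_eq_one_iff _ _).mp h3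

include hC in
theorem centralizer_WT [Finite X] [Fact p.Prime] :
    Subgroup.centralizer (WT T : Set X) = CZ T := by
  have hpp : p.Prime := Fact.out
  apply le_antisymm
  · haveI : (Subgroup.centralizer (WT T : Set X)).Normal := Subgroup.normal_centralizer
    apply le_CZ_of_pow_mem T
    intro d hd
    have hd0 : orderOf d ≠ 0 := (orderOf_pos d).ne'
    obtain ⟨k, m, hm, hkm⟩ := Nat.exists_eq_pow_mul_and_not_dvd hd0 p hpp.ne_one
    refine ⟨k, ?_⟩
    rw [CZ_eq, Subgroup.mem_centralizer_iff]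
    intro v hv
    have hg : (d ^ (p ^ k)) ^ m = 1 := by rw [← pow_mul, ← hkm, pow_orderOf_eq_one]
    have hgW : d ^ (p ^ k) ∈ Subgroup.centralizer (WT T : Set X) := Subgroup.pow_mem _ hd _
    have hmc : m.Coprime p := ((Nat.Prime.coprime_iff_not_dvd hpp).mpr hm).symm
    obtain ⟨j, hj⟩ := (V0_isPGroup T hC) ⟨v, hv⟩
    have hj' : v ^ (p ^ j) = 1 := by simpa using congrArg Subtype.val hj
    exact (commute_V0_of_coprime T hC hmc hg hgW j v hv hj').symm
  · rw [CZ_eq]
    exact Subgroup.centralizer_le (by exact_mod_cast omegaOne_le p (V0 T))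

include hC in
theorem psi_ker_WT [Finite X] [Fact p.Prime] : (psi (WT T)).ker = CZ T := by
  rw [psi_ker, centralizer_WT T hC]

include hC in
theorem pCore_range_WT [Finite X] [Fact p.Prime] :
    Cfsg.pCore p ↥(psi (WT T)).range = ⊥ := by
  haveI hPc : (Cfsg.pCore p ↥(psi (WT T)).range).Characteristic :=
    Cfsg.Agent.Lib.Helper63.pCore_characteristic' p _
  haveI hPn : (Cfsg.pCore p ↥(psi (WT T)).range).Normal :=
    Subgroup.normal_of_characteristic _
  set D : Subgroup X := (Cfsg.pCore p ↥(psi (WT T)).range).comap (psi (WT T)).rangeRestrict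
    with hD
  haveI hDn : D.Normal := Subgroup.Normal.comap hPn _
  have hDC : ∀ d ∈ D, ∃ k : ℕ, d ^ (p ^ k) ∈ CZ T := by
    intro d hd
    obtain ⟨k, hk⟩ := (Cfsg.Agent.Lib.Helper63.pCore_isPGroup' p ↥(psi (WT T)).range)
      ⟨(psi (WT T)).rangeRestrict d, hd⟩
    refine ⟨k, ?_⟩
    rw [← psi_ker_WT T hC, MonoidHom.mem_ker, map_pow]
    have h1 := congrArg (fun x : ↥(Cfsg.pCore p ↥(psi (WT T)).range) =>
      ((x : ↥(psi (WT T)).range) : Hol (WT T))) hk
    simpa using h1
  have hDle := le_CZ_of_pow_mem T D hDC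
  rw [eq_bot_iff]
  intro x hx
  obtain ⟨g, rfl⟩ := (psi (WT T)).rangeRestrict_surjective x
  have hg : g ∈ D := hx
  have h3 := hDle hg
  rw [← psi_ker_WT T hC, MonoidHom.mem_ker] at h3
  rw [Subgroup.mem_bot]
  exact Subtype.ext h3

end hC

section general

variable {G : Type*} [Group G]

/-- the faithful setup in the holomorph for the image of a normal subgroup `Y`. -/
theorem setup_map_normal [Finite G] {p : ℕ} [Fact p.Prime] (V : Subgroup G) [V.Normal]
    (hV : Cfsg.IsElementaryAbelian p V) (hsol : Cfsg.IsPSolvable p G)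
    (hOp : Cfsg.pCore p ↥(psi V).range = ⊥) (Y : Subgroup G) [hY : Y.Normal] :
    FF.Setup p (VV V) (Y.map (psi V)) (FF.coreOf p (Y.map (psi V))) ∧
      Y.map (psi V) ⊓ Subgroup.centralizer (FF.coreOf p (Y.map (psi V)) : Set (Hol V)) ≤
        FF.coreOf p (Y.map (psi V)) := by
  have hle : Y.map (psi V) ≤ (psi V).range := by
    rintro _ ⟨y, -, rfl⟩
    exact ⟨y, rfl⟩
  have hfaith : Y.map (psi V) ⊓ Subgroup.centralizer (VV V : Set (Hol V)) = ⊥ := by
    rw [eq_bot_iff]
    exact (inf_le_inf_right _ hle).trans (faith V).le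
  have hsol' : Cfsg.IsPSolvable p ↥(Y.map (psi V)) :=
    Cfsg.Agent.Lib.Helper11.isPSolvable_of_le_range p (psi V) hsol _ hle
  have hOp' : Cfsg.pCore p ↥(Y.map (psi V)) = ⊥ := by
    haveI hH'n : ((Y.map (psi V)).subgroupOf (psi V).range).Normal := by
      constructor
      intro n hn g
      rw [Subgroup.mem_subgroupOf] at hn ⊢
      obtain ⟨y, hy, hyn⟩ := hn
      obtain ⟨g', hg'⟩ := g.2
      refine ⟨g' * y * g'⁻¹, hY.conj_mem y hy g', ?_⟩
      rw [map_mul, map_mul, map_inv, hyn, hg']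
      rfl
    have h1 : Cfsg.pCore p ↥((Y.map (psi V)).subgroupOf (psi V).range) = ⊥ := by
      haveI : (Cfsg.pCore p ↥((Y.map (psi V)).subgroupOf (psi V).range)).Characteristic :=
        Cfsg.Agent.Lib.Helper63.pCore_characteristic' p _
      have hn : ((Cfsg.pCore p ↥((Y.map (psi V)).subgroupOf (psi V).range)).map
          ((Y.map (psi V)).subgroupOf (psi V).range).subtype).Normal :=
        ConjAct.normal_of_characteristic_of_normal
      have h2 := Cfsg.Agent.Lib.Helper63.le_pCore' hn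
        ((Cfsg.Agent.Lib.Helper63.pCore_isPGroup' p _).map _)
      rw [hOp, le_bot_iff, Subgroup.map_eq_bot_iff_of_injective _
        (Subgroup.subtype_injective _)] at h2
      exact h2
    have h3 := Cfsg.Agent.Lib.Helper23.pCore_map p (Subgroup.subgroupOfEquivOfLe hle)
    rw [h1, Subgroup.map_bot] at h3
    exact h3.symm
  refine ⟨FF.setup_of_hyp (VV V) _ (VV_elem V hV) ?_ hfaith,
    FF.hCK_of_hyp _ (centralizer_pPrimeCore_le hsol' hOp')⟩
  rw [Subgroup.normalizer_eq_top]; exact le_top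

/-- an abelian subgroup of largest order of `S` is a weak best offender on every abelian
subgroup `W ≤ S`. -/
theorem weak_of_maxAb [Finite G] {S W A : Subgroup G} (hWS : W ≤ S)
    (hWc : ∀ a ∈ W, ∀ b ∈ W, a * b = b * a) (hA : A ∈ maxAbIn S) :
    ∀ B : Subgroup G, B ≤ A →
      Nat.card B * Nat.card ↥(W ⊓ Subgroup.centralizer (B : Set G)) ≤
        Nat.card A * Nat.card ↥(W ⊓ Subgroup.centralizer (A : Set G)) := by
  intro B hBA
  obtain ⟨hAS, hAc, hmax⟩ := hA
  have hAcomm : ∀ a ∈ A, ∀ b ∈ A, a * b = b * a := fun a ha b hb => setLike_mul_comm ha hb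
  obtain ⟨C, hCdef⟩ : ∃ C : Subgroup G, C = W ⊓ Subgroup.centralizer (B : Set G) := ⟨_, rfl⟩
  rw [← hCdef]
  have hBC : ∀ b ∈ B, ∀ c ∈ C, b * c = c * b := by
    intro b hb c hc
    rw [hCdef] at hc
    exact Subgroup.mem_centralizer_iff.mp hc.2 b hb
  have hcomm : IsMulCommutative ↥(B ⊔ C) := by
    apply IsMulCommutative.of_setLike_mul_comm
    have hle : B ⊔ C ≤ Subgroup.centralizer ((B ⊔ C : Subgroup G) : Set G) := by
      apply sup_le
      · intro x hx
        rw [mem_centralizer_sup]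
        refine ⟨?_, ?_⟩
        · rw [Subgroup.mem_centralizer_iff]
          intro b hb
          exact hAcomm b (hBA hb) x (hBA hx)
        · rw [Subgroup.mem_centralizer_iff]
          intro c hc
          exact (hBC x hx c hc).symm
      · intro x hx
        rw [mem_centralizer_sup]
        refine ⟨?_, ?_⟩
        · rw [Subgroup.mem_centralizer_iff]
          intro b hb
          exact hBC b hb x hx
        · rw [Subgroup.mem_centralizer_iff]
          intro c hc
          rw [hCdef] at hc hx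
          exact hWc c hc.1 x hx.1
    intro a ha b hb
    exact Subgroup.mem_centralizer_iff.mp (hle hb) a ha
  have hBCS : B ⊔ C ≤ S := sup_le (hBA.trans hAS) (by rw [hCdef]; exact inf_le_left.trans hWS)
  have h1 := hmax (B ⊔ C) hBCS hcomm
  have h2 := Cfsg.Agent.Lib.Helper91.card_sup_mul_card_inf_of_le_normalizer B C
    (le_normalizer_of_comm (fun c hc b hb => (hBC b hb c hc).symm))
  have h3 : B ⊓ C ≤ W ⊓ Subgroup.centralizer (A : Set G) := by
    intro x hx
    have hxC := hx.2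
    rw [hCdef] at hxC
    refine ⟨hxC.1, ?_⟩
    show x ∈ Subgroup.centralizer (A : Set G)
    rw [Subgroup.mem_centralizer_iff]
    intro a ha
    exact hAcomm a ha x (hBA hx.1)
  have h4 := Subgroup.card_le_of_le h3
  calc Nat.card B * Nat.card C = Nat.card ↥(B ⊔ C) * Nat.card ↥(B ⊓ C) := h2.symm
    _ ≤ Nat.card A * Nat.card ↥(W ⊓ Subgroup.centralizer (A : Set G)) :=
      Nat.mul_le_mul h1 h4

/-- weak best offenders are mapped to weak best offenders in the holomorph. -/
theorem weak_map [Finite G] (V : Subgroup G) [V.Normal] {A : Subgroup G}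
    (hA : ∀ B : Subgroup G, B ≤ A →
      Nat.card B * Nat.card ↥(V ⊓ Subgroup.centralizer (B : Set G)) ≤
        Nat.card A * Nat.card ↥(V ⊓ Subgroup.centralizer (A : Set G))) :
    ∀ B' : Subgroup (Hol V), B' ≤ A.map (psi V) →
      Nat.card B' * Nat.card ↥(VV V ⊓ Subgroup.centralizer (B' : Set (Hol V))) ≤
        Nat.card (A.map (psi V)) *
          Nat.card ↥(VV V ⊓ Subgroup.centralizer ((A.map (psi V) : Subgroup (Hol V)) : Set (Hol V))) := by
  intro B' hB'
  have hB : (A ⊓ B'.comap (psi V)).map (psi V) = B' := by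
    apply le_antisymm
    · rintro _ ⟨b, hb, rfl⟩
      exact hb.2
    · intro y hy
      obtain ⟨a, ha, rfl⟩ := hB' hy
      exact ⟨a, ⟨ha, hy⟩, rfl⟩
  have hBC : (A ⊓ B'.comap (psi V)) ⊓ Subgroup.centralizer (V : Set G) =
      A ⊓ Subgroup.centralizer (V : Set G) := by
    apply le_antisymm (inf_le_inf_right _ inf_le_left)
    rintro x ⟨hx, hxc⟩
    refine ⟨⟨hx, ?_⟩, hxc⟩
    have hxc' : x ∈ (psi V).ker := by rw [psi_ker]; exact hxc
    rw [MonoidHom.mem_ker] at hxc'
    show psi V x ∈ B'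
    rw [hxc']; exact B'.one_mem
  have h1 := hA (A ⊓ B'.comap (psi V)) inf_le_left
  rw [card_map V (A ⊓ B'.comap (psi V)), card_map V A, hBC, hB, ← card_fix V, ← card_fix V A,
    hB] at h1
  have hpos : 0 < Nat.card ↥(A ⊓ Subgroup.centralizer (V : Set G)) := Nat.card_pos
  nlinarith [h1, hpos]

end general

end Cfsg.Agent.Lib.Helper11.TFS
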