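import Mathlib
import Cfsg.Agent.Lib.Helper11.TFS2
import Cfsg.Agent.Lib.Helper11.FFThm
import Cfsg.Agent.S0044
import Cfsg.Agent.S0250

/-!
Solvable groups `X` with `F(X) = O_2(X)`: either `⟨J(T)^X⟩` centralizes `Z(T)` modulo the core,
or it induces a direct product of copies of `S₃` (Thompson factorization and its failure).
-/

set_option autoImplicit false

namespace Cfsg.Agent.Lib.Helper11.TFS

open scoped commutatorElement
open Cfsg.Agent.Lib.Helper11 Cfsg.Agent.Lib.Helper11.FFT Cfsg.Agent.Lib.Helper11.FF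

/-- an internal direct product of finitely many normal subgroups isomorphic to `M`. -/
theorem exists_pi_equiv {G : Type*} [Group G] {ι : Type*} [Finite ι] (f : ι → Subgroup G)
    (H : Subgroup G) (hnorm : ∀ i, H ≤ Subgroup.normalizer ((f i : Subgroup G) : Set G))
    (hind : iSupIndep f) (hsup : (⨆ i, f i) = H) {M : Type*} [Group M]
    (hiso : ∀ i, Nonempty (↥(f i) ≃* M)) :
    Nonempty (↥H ≃* (Fin (Nat.card ι) → M)) := by
  classical
  haveI := Fintype.ofFinite ι
  have hle : ∀ i, f i ≤ H := fun i => hsup ▸ le_iSup f i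
  have hcomm : Pairwise fun i j => ∀ x y, x ∈ f i → y ∈ f j → Commute x y := by
    intro i j hij x y hx hy
    have hdis : Disjoint (f i) (f j) := hind.pairwiseDisjoint hij
    have h1 : ⁅x, y⁆ ∈ f j := by
      rw [commutatorElement_def]
      have := (Subgroup.mem_normalizer_iff.mp (hnorm j (hle i hx)) y).mp hy
      exact Subgroup.mul_mem _ this (Subgroup.inv_mem _ hy)
    have h2 : ⁅x, y⁆ ∈ f i := by
      have h3 : ⁅x, y⁆ = x * (y * x⁻¹ * y⁻¹) := by rw [commutatorElement_def]; group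
      rw [h3]
      have := (Subgroup.mem_normalizer_iff.mp (hnorm i (hle j hy)) x⁻¹).mp (Subgroup.inv_mem _ hx)
      exact Subgroup.mul_mem _ hx this
    have h4 : ⁅x, y⁆ = 1 := by
      have : ⁅x, y⁆ ∈ f i ⊓ f j := ⟨h2, h1⟩
      rw [hdis.eq_bot] at this
      exact Subgroup.mem_bot.mp this
    exact commutatorElement_eq_one_iff_commute.mp h4
  have hinj := Subgroup.injective_noncommPiCoprod_of_iSupIndep (hcomm := hcomm) hind
  have hrange : (Subgroup.noncommPiCoprod hcomm).range = H := by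
    rw [Subgroup.noncommPiCoprod_range, hsup]
  let e1 : (∀ i, ↥(f i)) ≃* ↥H :=
    (MonoidHom.ofInjective hinj).trans (MulEquiv.subgroupCongr hrange)
  let e2 : (∀ i, ↥(f i)) ≃* (ι → M) := MulEquiv.piCongrRight (fun i => (hiso i).some)
  let e3 : (ι → M) ≃* (Fin (Nat.card ι) → M) :=
    MulEquiv.arrowCongr (Finite.equivFin ι) (MulEquiv.refl M)
  exact ⟨e1.symm.trans (e2.trans e3)⟩

variable {X : Type*} [Group X] [Finite X]

/-- the images of the abelian subgroups of largest order of the conjugates of `T` are best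
offenders on `W`. -/
theorem bestOffender_of_maxAb (T : Sylow 2 X)
    (hC : Subgroup.centralizer (Cfsg.pCore 2 X : Set X) ≤ Cfsg.pCore 2 X)
    (Y : Subgroup X) [hY : Y.Normal]
    (hs : FF.Setup 2 (VV (WT T)) (Y.map (psi (WT T))) (FF.coreOf 2 (Y.map (psi (WT T)))))
    (hCK : Y.map (psi (WT T)) ⊓
      Subgroup.centralizer (FF.coreOf 2 (Y.map (psi (WT T))) : Set (Hol (WT T))) ≤
        FF.coreOf 2 (Y.map (psi (WT T))))
    (g : X) {A : Subgroup X}
    (hA : A ∈ maxAbIn ((T : Subgroup X).map (MulAut.conj g).toMonoidHom)) (hAY : A ≤ Y) :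
    Cfsg.IsBestOffenderOn 2 (VV (WT T)) (A.map (psi (WT T))) := by
  have hWT : WT T ≤ (T : Subgroup X).map (MulAut.conj g).toMonoidHom := by
    intro w hw
    have h1 : g⁻¹ * w * g⁻¹⁻¹ ∈ WT T := (WT_normal T).conj_mem w hw g⁻¹
    have h2 : g⁻¹ * w * g⁻¹⁻¹ ∈ (T : Subgroup X) :=
      Cfsg.Agent.Lib.Helper63.pCore_le_sylow' 2 T (WT_le_pCore T hC h1)
    refine ⟨g⁻¹ * w * g⁻¹⁻¹, h2, ?_⟩
    simp only [MulEquiv.coe_toMonoidHom, MulAut.conj_apply]
    group
  have hweak := weak_of_maxAb hWT (WT_comm T hC) hA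
  have hAp : IsPGroup 2 A := (T.isPGroup'.map (MulAut.conj g).toMonoidHom).to_le hA.1
  have hAc : ∀ x ∈ A, ∀ y ∈ A, x * y = y * x := by
    haveI := hA.2.1
    exact fun x hx y hy => setLike_mul_comm hx hy
  apply bestOffender_of_weak hs hCK (Subgroup.map_mono hAY) (hAp.map _)
  · rintro _ ⟨x, hx, rfl⟩ _ ⟨y, hy, rfl⟩
    rw [← map_mul, ← map_mul, hAc x hx y hy]
  · exact weak_map (WT T) hweak

/-- **Thompson factorization in solvable groups with `F(X) = O_2(X)`.** -/
theorem tfs_main [Group.IsSolvable X] (hF : Cfsg.fittingSubgroup X = Cfsg.pCore 2 X)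
    (T : Sylow 2 X) :
    Subgroup.normalClosure (Cfsg.thompsonSubgroupAOf (T : Subgroup X) : Set X) ≤ CZ T ∨
      ∃ n : ℕ, 1 ≤ n ∧
        Nonempty (↥(Subgroup.normalClosure (Cfsg.thompsonSubgroupAOf (T : Subgroup X) : Set X)) ⧸
            (CZ T).subgroupOf
              (Subgroup.normalClosure (Cfsg.thompsonSubgroupAOf (T : Subgroup X) : Set X))
          ≃* (Fin n → Equiv.Perm (Fin 3))) := by
  have hC : Subgroup.centralizer (Cfsg.pCore 2 X : Set X) ≤ Cfsg.pCore 2 X := by
    have := Cfsg.Agent.S0044.result (G := X)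
    rwa [hF] at this
  obtain ⟨Y, hYdef⟩ : ∃ Y : Subgroup X, Y = Subgroup.normalClosure
    (Cfsg.thompsonSubgroupAOf (T : Subgroup X) : Set X) := ⟨_, rfl⟩
  haveI hYn : Y.Normal := by rw [hYdef]; exact Subgroup.normalClosure_normal
  rw [← hYdef]
  have hW := WT_elem T hC
  have hsol : Cfsg.IsPSolvable 2 X :=
    Cfsg.Agent.Lib.Helper79.isPSolvable_of_isSolvable 2 inferInstance
  have hOp := pCore_range_WT T hC
  obtain ⟨hs, hCK⟩ := setup_map_normal (WT T) hW hsol hOp Y
  -- generation by best offenders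
  have hS3 : Y.map (psi (WT T)) = ⨆ A : {A : Subgroup (Hol (WT T)) //
      A ≤ Y.map (psi (WT T)) ∧ Cfsg.IsBestOffenderOn 2 (VV (WT T)) A}, (A : Subgroup (Hol (WT T))) := by
    apply le_antisymm
    · rw [Subgroup.map_le_iff_le_comap]
      refine hYdef.le.trans ?_
      unfold Subgroup.normalClosure
      rw [Subgroup.closure_le]
      intro x hx
      rw [Group.mem_conjugatesOfSet_iff] at hx
      obtain ⟨a, ha, hax⟩ := hx
      rw [isConj_iff] at hax
      obtain ⟨g, rfl⟩ := hax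
      have h1 : g * a * g⁻¹ ∈ (Cfsg.thompsonSubgroupAOf (T : Subgroup X)).map
          (MulAut.conj g).toMonoidHom := ⟨a, ha, by simp⟩
      rw [thompsonA_map_equiv, thompsonA_eq] at h1
      have h2 : sSup (maxAbIn ((T : Subgroup X).map (MulAut.conj g).toMonoidHom)) ≤
          (⨆ A : {A : Subgroup (Hol (WT T)) //
            A ≤ Y.map (psi (WT T)) ∧ Cfsg.IsBestOffenderOn 2 (VV (WT T)) A},
              (A : Subgroup (Hol (WT T)))).comap (psi (WT T)) := by
        apply sSup_le
        intro A hA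
        have hAY : A ≤ Y := by
          intro b hb
          have h3 : b ∈ Cfsg.thompsonSubgroupAOf ((T : Subgroup X).map (MulAut.conj g).toMonoidHom) :=
            le_thompsonA hA hb
          rw [← thompsonA_map_equiv] at h3
          obtain ⟨j, hj, rfl⟩ := h3
          have hjY : j ∈ Y := by rw [hYdef]; exact Subgroup.subset_normalClosure hj
          simp only [MulEquiv.coe_toMonoidHom, MulAut.conj_apply]
          exact hYn.conj_mem j hjY g
        rw [← Subgroup.map_le_iff_le_comap]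
        exact le_iSup (fun A : {A : Subgroup (Hol (WT T)) //
            A ≤ Y.map (psi (WT T)) ∧ Cfsg.IsBestOffenderOn 2 (VV (WT T)) A} =>
              (A : Subgroup (Hol (WT T))))
          ⟨A.map (psi (WT T)), Subgroup.map_mono hAY, bestOffender_of_maxAb T hC Y hs hCK g hA hAY⟩
      exact SetLike.mem_coe.mpr (h2 h1)
    · exact iSup_le (fun A => A.2.1)
  by_cases hH1 : Y.map (psi (WT T)) = ⊥
  · left
    rw [FFT.map_eq_bot_iff, centralizer_WT T hC] at hH1
    exact hH1
  · right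
    obtain ⟨-, hstr, hind, hsup, -, -⟩ := structure_thm hs hCK hS3 hH1
      (ι := {E : Subgroup (Hol (WT T)) // ∃ a, IsTransv 2 (VV (WT T)) (Y.map (psi (WT T))) a ∧
        E = EE (FF.coreOf 2 (Y.map (psi (WT T)))) a})
      (fun E => E.1) Subtype.val_injective (fun i => i.2)
      (fun a ha => ⟨⟨_, a, ha, rfl⟩, rfl⟩)
    obtain ⟨b, hb⟩ := exists_transv_of_ne_bot hs hCK hS3 hH1
    haveI hne : Nonempty {E : Subgroup (Hol (WT T)) //
        ∃ a, IsTransv 2 (VV (WT T)) (Y.map (psi (WT T))) a ∧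
          E = EE (FF.coreOf 2 (Y.map (psi (WT T)))) a} := ⟨⟨_, b, hb, rfl⟩⟩
    have hSL : Nonempty (Matrix.SpecialLinearGroup (Fin 2) (ZMod 2) ≃* Equiv.Perm (Fin 3)) :=
      Cfsg.Agent.S0250.result (F := ZMod 2) (by rw [ZMod.card])
    obtain ⟨e0⟩ := hSL
    obtain ⟨e⟩ := exists_pi_equiv (fun E : {E : Subgroup (Hol (WT T)) //
        ∃ a, IsTransv 2 (VV (WT T)) (Y.map (psi (WT T))) a ∧
          E = EE (FF.coreOf 2 (Y.map (psi (WT T)))) a} => E.1) (Y.map (psi (WT T)))
      (fun i => (hstr i).1) hind hsup (M := Equiv.Perm (Fin 3))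
      (fun i => by
        obtain ⟨e1⟩ := (hstr i).2.1
        exact ⟨e1.trans e0⟩)
    refine ⟨Nat.card {E : Subgroup (Hol (WT T)) //
        ∃ a, IsTransv 2 (VV (WT T)) (Y.map (psi (WT T))) a ∧
          E = EE (FF.coreOf 2 (Y.map (psi (WT T)))) a}, Nat.card_pos, ?_⟩
    have hker : ((psi (WT T)).comp Y.subtype).ker = (CZ T).subgroupOf Y := by
      ext x
      rw [MonoidHom.mem_ker, Subgroup.mem_subgroupOf, MonoidHom.comp_apply, ← psi_ker_WT T hC,
        MonoidHom.mem_ker]
      rfl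
    have hrange : ((psi (WT T)).comp Y.subtype).range = Y.map (psi (WT T)) := by
      rw [← MonoidHom.map_range, Subgroup.range_subtype]
    exact ⟨(QuotientGroup.quotientMulEquivOfEq hker.symm).trans
      ((QuotientGroup.quotientKerEquivRange ((psi (WT T)).comp Y.subtype)).trans
        ((MulEquiv.subgroupCongr hrange).trans e))⟩

end Cfsg.Agent.Lib.Helper11.TFS
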