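import Mathlib
import Cfsg.Prelude.Def_Local
import Cfsg.Prelude.Def_PLocal
import Cfsg.Agent.Lib.Helper11.PSolvStable
import Cfsg.Agent.Lib.Helper1.Tools

/-!
# Quadratic elements acting on normal `p'`-subgroups

* `quad_pow_mem_centralizer`: a quadratically acting element has `p`-th power acting trivially;
* `isPSolvable_of_normal_pPrime`: a normal `p'`-subgroup of `p`-power index gives `p`-solvability;
* `sl23_section_of_quad_pPrime`: a quadratic element acting nontrivially on a normal `p'`-subgroup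
  of a faithful group forces `p = 3` and an `SL₂(3)`-section.
-/

set_option autoImplicit false
open scoped commutatorElement

namespace Cfsg.Agent.Lib.Helper11

open Cfsg

/-- The `p`-th power of an element acting quadratically on an elementary abelian `p`-group
acts trivially. -/
theorem quad_pow_mem_centralizer {G : Type*} [Group G] {p : ℕ} (V : Subgroup G)
    (hV : IsElementaryAbelian p V) (a : G) (haN : a ∈ Subgroup.normalizer (V : Set G))
    (hq : ⁅⁅V, Subgroup.zpowers a⁆, Subgroup.zpowers a⁆ = ⊥) :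
    a ^ p ∈ Subgroup.centralizer (V : Set G) := by
  rw [Subgroup.mem_centralizer_iff]
  intro v hv
  have h1 : ⁅⁅v, a⁆, a⁆ = 1 := by
    have : ⁅⁅v, a⁆, a⁆ ∈ ⁅⁅V, Subgroup.zpowers a⁆, Subgroup.zpowers a⁆ :=
      Subgroup.commutator_mem_commutator
        (Subgroup.commutator_mem_commutator hv (Subgroup.mem_zpowers a)) (Subgroup.mem_zpowers a)
    rw [hq] at this
    exact Subgroup.mem_bot.mp this
  have hc : Commute ⁅a, v⁆ a := by
    have := (commutatorElement_eq_one_iff_commute.mp h1).inv_left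
    rwa [commutatorElement_inv] at this
  have hcV : ⁅a, v⁆ ∈ V := by
    rw [commutatorElement_def]
    exact V.mul_mem ((Subgroup.mem_normalizer_iff.mp haN v).mp hv) (V.inv_mem hv)
  have key : ∀ n : ℕ, a ^ n * v * (a ^ n)⁻¹ = ⁅a, v⁆ ^ n * v := by
    intro n
    induction n with
    | zero => simp
    | succ n ih =>
      have h2 : a ^ (n + 1) * v * (a ^ (n + 1))⁻¹ = a * (a ^ n * v * (a ^ n)⁻¹) * a⁻¹ := by
        rw [pow_succ']; group
      have h3 : a * (⁅a, v⁆ ^ n * v) * a⁻¹ = (a * ⁅a, v⁆ ^ n * a⁻¹) * (a * v * a⁻¹) := by group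
      have h4 : a * ⁅a, v⁆ ^ n * a⁻¹ = ⁅a, v⁆ ^ n := by
        have := (hc.pow_left n).eq
        rw [← this, mul_inv_cancel_right]
      have h5 : a * v * a⁻¹ = ⁅a, v⁆ * v := by
        rw [commutatorElement_def]; group
      rw [h2, ih, h3, h4, h5, pow_succ, mul_assoc]
  have h6 := key p
  rw [hV.2 _ hcV, one_mul, mul_inv_eq_iff_eq_mul] at h6
  exact h6.symm

/-- A finite group with a normal `p'`-subgroup of `p`-power index is `p`-solvable. -/
theorem isPSolvable_of_normal_pPrime {X : Type*} [Group X] {p : ℕ}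
    (N : Subgroup X) (hN : N.Normal) (hc : (Nat.card N).Coprime p)
    (hi : ∃ m : ℕ, N.index = p ^ m) : IsPSolvable p X := by
  refine ⟨2, ![⊥, N, ⊤], rfl, rfl, ?_, ?_, ?_⟩
  · rw [Fin.monotone_iff_le_succ]
    intro i
    fin_cases i
    · exact bot_le
    · exact le_top
  · intro i
    fin_cases i
    · exact Subgroup.normal_bot
    · exact hN
    · exact Subgroup.normal_top
  · intro i
    fin_cases i
    · right
      show ((⊥ : Subgroup X).relIndex N).Coprime p
      rw [Subgroup.relIndex_bot_left]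
      exact hc
    · left
      obtain ⟨m, hm⟩ := hi
      refine ⟨m, ?_⟩
      show N.relIndex ⊤ = p ^ m
      rw [Subgroup.relIndex_top_right, hm]

/-- For odd `p`, a quadratic element of a group acting faithfully on an elementary abelian
`p`-group which acts nontrivially on a normal `p'`-subgroup forces `p = 3` and an
`SL₂(3)`-section. -/
theorem sl23_section_of_quad_pPrime {G : Type*} [Group G] [Finite G] {p : ℕ} [Fact p.Prime]
    (hp : p ≠ 2) (V H : Subgroup G) (hV : IsElementaryAbelian p V)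
    (hHV : H ≤ Subgroup.normalizer (V : Set G))
    (hf : H ⊓ Subgroup.centralizer (V : Set G) = ⊥) (a : G) (haH : a ∈ H)
    (ha : ⁅⁅V, Subgroup.zpowers a⁆, Subgroup.zpowers a⁆ = ⊥) (Q : Subgroup G) (hQH : Q ≤ H)
    (hQn : H ≤ Subgroup.normalizer (Q : Set G)) (hQ : (Nat.card Q).Coprime p)
    (hQa : ⁅Q, Subgroup.zpowers a⁆ ≠ ⊥) :
    p = 3 ∧ ∃ (K L : Subgroup G) (_ : (L.subgroupOf K).Normal), K ≤ H ∧
      Nonempty ((K ⧸ L.subgroupOf K) ≃* Matrix.SpecialLinearGroup (Fin 2) (ZMod 3)) := by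
  have hpp : p.Prime := Fact.out
  have hap : a ^ p = 1 := by
    have h1 := quad_pow_mem_centralizer V hV a (hHV haH) ha
    have h2 : a ^ p ∈ H ⊓ Subgroup.centralizer (V : Set G) := ⟨H.pow_mem haH p, h1⟩
    rw [hf] at h2
    exact Subgroup.mem_bot.mp h2
  set H₁ := Q ⊔ Subgroup.zpowers a with hH₁
  have hH₁H : H₁ ≤ H := sup_le hQH (by rw [Subgroup.zpowers_le]; exact haH)
  have haH₁ : a ∈ H₁ := Subgroup.mem_sup_right (Subgroup.mem_zpowers a)
  have hQH₁ : Q ≤ H₁ := le_sup_left
  have hsol : IsPSolvable p H₁ := by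
    apply isPSolvable_of_normal_pPrime (Q.subgroupOf H₁)
    · exact Subgroup.normal_subgroupOf_of_le_normalizer (hH₁H.trans hQn)
    · rw [Nat.card_congr (Subgroup.subgroupOfEquivOfLe hQH₁).toEquiv]
      exact hQ
    · have h1 := Cfsg.Agent.Lib.Helper91.card_sup_mul_card_inf_of_le_normalizer Q
        (Subgroup.zpowers a) (by rw [Subgroup.zpowers_le]; exact hQn haH)
      have h2 : Nat.card H₁ = Nat.card Q * Q.relIndex H₁ :=
        Cfsg.Agent.Lib.Helper1.card_eq_card_mul_relIndex hQH₁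
      have h3 : (Q.subgroupOf H₁).index = Q.relIndex H₁ := rfl
      have h4 : Q.relIndex H₁ ∣ Nat.card (Subgroup.zpowers a) := by
        rw [← hH₁, h2, mul_assoc] at h1
        have hQpos : 0 < Nat.card Q := Nat.card_pos
        have := Nat.eq_of_mul_eq_mul_left hQpos h1
        exact Dvd.intro _ this
      rw [Nat.card_zpowers] at h4
      have h5 : orderOf a ∣ p ^ 1 := by
        rw [pow_one]
        exact orderOf_dvd_of_pow_eq_one hap
      obtain ⟨m, -, hm⟩ := (Nat.dvd_prime_pow hpp).mp (h4.trans h5)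
      exact ⟨m, by rw [h3, hm]⟩
  have hna : a ∉ (pCore p H₁).map H₁.subtype := by
    intro hmem
    apply hQa
    rw [eq_bot_iff, Subgroup.commutator_le]
    intro g hg z hz
    rw [Subgroup.mem_bot]
    have hzO : z ∈ (pCore p H₁).map H₁.subtype := by
      have : Subgroup.zpowers a ≤ (pCore p H₁).map H₁.subtype := by
        rw [Subgroup.zpowers_le]
        exact hmem
      exact this hz
    obtain ⟨z', hz', rfl⟩ := hzO
    have hgH₁ : g ∈ H₁ := hQH₁ hg
    have h1 : ⁅g, (z' : G)⁆ ∈ (pCore p H₁).map H₁.subtype := by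
      refine ⟨⟨g, hgH₁⟩ * z' * ⟨g, hgH₁⟩⁻¹ * z'⁻¹, ?_, ?_⟩
      · exact Subgroup.mul_mem _
          ((inferInstance : (pCore p H₁).Normal).conj_mem z' hz' _) (Subgroup.inv_mem _ hz')
      · simp [commutatorElement_def]
    have h2 : ⁅g, (z' : G)⁆ ∈ Q := by
      rw [commutatorElement_def]
      have hzn : (z' : G) ∈ Subgroup.normalizer (Q : Set G) := hQn (hH₁H z'.2)
      have h3 : (z' : G) * g⁻¹ * (z' : G)⁻¹ ∈ Q :=
        (Subgroup.mem_normalizer_iff.mp hzn g⁻¹).mp (Q.inv_mem hg)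
      have h4 : g * (z' : G) * g⁻¹ * (z' : G)⁻¹ = g * ((z' : G) * g⁻¹ * (z' : G)⁻¹) := by group
      rw [h4]
      exact Q.mul_mem hg h3
    obtain ⟨w, hw, hwe⟩ := h1
    obtain ⟨k, hk⟩ := (Cfsg.Agent.Lib.Helper63.pCore_isPGroup' p H₁) ⟨w, hw⟩
    have hk' : ⁅g, (z' : G)⁆ ^ p ^ k = 1 := by
      rw [← hwe]
      have := congrArg (fun t : pCore p H₁ => ((t : H₁) : G)) hk
      simpa using this
    have h5 : orderOf ⁅g, (z' : G)⁆ ∣ p ^ k := orderOf_dvd_of_pow_eq_one hk'
    have h6 : orderOf ⁅g, (z' : G)⁆ ∣ Nat.card Q := by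
      have := orderOf_dvd_natCard (⟨_, h2⟩ : Q)
      rwa [Subgroup.orderOf_mk] at this
    have h7 := Nat.Coprime.eq_one_of_dvd
      (Nat.Coprime.coprime_dvd_left h6 (Nat.Coprime.pow_right k hQ)) h5
    exact orderOf_eq_one_iff.mp h7
  obtain ⟨hp3, K, L, hL, hK, he⟩ := sl23_section_of_quad hp V H₁ hV (hH₁H.trans hHV)
    (by rw [eq_bot_iff, ← hf]; exact inf_le_inf_right _ hH₁H) hsol a haH₁ ha hna
  exact ⟨hp3, K, L, hL, hK.trans hH₁H, he⟩

end Cfsg.Agent.Lib.Helper11
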