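import Mathlib
import Cfsg.Prelude.Def_Local
import Cfsg.Prelude.Def_PLocal
import Cfsg.Prelude.Def_LocalEven
import Cfsg.Agent.Lib.Helper11.PSolvStable
import Cfsg.Agent.Lib.Helper11.NormStable
import Cfsg.Agent.Lib.Helper89.Dickson
import Cfsg.Agent.Lib.Helper91.Coprime2

/-!
# `SL₂(p)`-sections from failure of `p`-stability (via Dickson's theorem)

* `slp_section_of_not_noSL2`: a subgroup failing `NoSL2` has a section isomorphic to `SL₂(p)`;
* `isPStable_of_noSL2`: `NoSL2` gives `Cfsg.IsPStable`;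
* `exists_pGroup_lift_normalizer`: lifting `p`-subgroups of a quotient with their normalizers;
* `isNormalizerPStable_of_noSL2`.
-/

set_option autoImplicit false
open scoped commutatorElement

namespace Cfsg.Agent.Lib.Helper11

open Cfsg

universe u

/-- Surjections from subgroups of the image of `f : Y →* B` lift to sections inside `Y`. -/
theorem exists_section_of_hom_surj {G B X : Type*} [Group G] [Group B] [Group X]
    (Y : Subgroup G) (f : Y →* B) (L : Subgroup B) (hL : L ≤ f.range) (φ : L →* X)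
    (hφ : Function.Surjective φ) :
    ∃ (L' K' : Subgroup G) (_ : (K'.subgroupOf L').Normal), L' ≤ Y ∧
      Nonempty ((L' ⧸ K'.subgroupOf L') ≃* X) := by
  have hg : Function.Surjective (f.subgroupComap L) := by
    rintro ⟨z, hz⟩
    obtain ⟨a, rfl⟩ := hL hz
    exact ⟨⟨a, hz⟩, rfl⟩
  let e₀ : (L.comap f) ≃* (L.comap f).map Y.subtype :=
    (L.comap f).equivMapOfInjective Y.subtype Y.subtype_injective
  let ψ : ((L.comap f).map Y.subtype) →* X :=
    φ.comp ((f.subgroupComap L).comp e₀.symm.toMonoidHom)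
  have hψ : Function.Surjective ψ := hφ.comp (hg.comp e₀.symm.surjective)
  obtain ⟨K', hK', he⟩ := exists_section_of_surjective ((L.comap f).map Y.subtype) ψ hψ
  exact ⟨(L.comap f).map Y.subtype, K', hK', Subgroup.map_subtype_le _, he⟩

/-- A subgroup failing `NoSL2` has a section isomorphic to `SL₂(p)` (Dickson). -/
theorem slp_section_of_not_noSL2 {G : Type*} [Group G] [Finite G] {p : ℕ} [Fact p.Prime]
    (hp : p ≠ 2) (H : Subgroup G) (hno : ¬ NoSL2 p H) :
    ∃ (K L : Subgroup G) (_ : (L.subgroupOf K).Normal), K ≤ H ∧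
      Nonempty ((K ⧸ L.subgroupOf K) ≃* Matrix.SpecialLinearGroup (Fin 2) (ZMod p)) := by
  unfold NoSL2 at hno
  push Not at hno
  obtain ⟨K, instF, instFin, instC, Y, hYH, f, x, y, hx, hy, hxy⟩ := hno
  letI : Fintype K := Fintype.ofFinite K
  haveI : Finite (Matrix.SpecialLinearGroup (Fin 2) K) := by
    unfold Matrix.SpecialLinearGroup
    infer_instance
  set X := Subgroup.closure ({f x, f y} : Set (Matrix.SpecialLinearGroup (Fin 2) K)) with hX
  have hcl : X ≤ f.range := by
    rw [hX, Subgroup.closure_le]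
    intro z hz
    rcases hz with hz | hz
    · rw [hz]; exact ⟨x, rfl⟩
    · rw [Set.mem_singleton_iff.mp hz]; exact ⟨y, rfl⟩
  have hxX : f x ∈ X := Subgroup.subset_closure (by simp)
  have hyX : f y ∈ X := Subgroup.subset_closure (by simp)
  have hSyl : 1 < Nat.card (Sylow p X) := by
    by_contra hcon
    have hle : Nat.card (Sylow p X) ≤ 1 := not_lt.mp hcon
    have hsub : Subsingleton (Sylow p X) := Finite.card_le_one_iff_subsingleton.mp hle
    have hxp : (⟨f x, hxX⟩ : X) ^ p ^ 1 = 1 :=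
      Subtype.ext (by rw [pow_one, Subgroup.coe_pow]; exact hx)
    have hyp : (⟨f y, hyX⟩ : X) ^ p ^ 1 = 1 :=
      Subtype.ext (by rw [pow_one, Subgroup.coe_pow]; exact hy)
    obtain ⟨Q₁, hQ₁⟩ := (isPGroup_zpowers_of_pow _ hxp).exists_le_sylow
    obtain ⟨Q₂, hQ₂⟩ := (isPGroup_zpowers_of_pow _ hyp).exists_le_sylow
    have hQ : Q₂ = Q₁ := Subsingleton.elim _ _
    rw [hQ] at hQ₂
    have hT : IsPGroup p ((Q₁ : Subgroup X).map X.subtype) := Q₁.isPGroup'.map _
    apply hxy
    exact sl2_pGroup_comm p hp _ hT (f x) ⟨⟨f x, hxX⟩, hQ₁ (Subgroup.mem_zpowers _), rfl⟩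
      (f y) ⟨⟨f y, hyX⟩, hQ₂ (Subgroup.mem_zpowers _), rfl⟩
  obtain ⟨K₀, hK₀, ⟨e⟩⟩ := Cfsg.Agent.Lib.Helper89.dickson_sl2 p hp X hSyl
  obtain ⟨L', K', hK', hL', he⟩ := exists_section_of_hom_surj Y f K₀ (hK₀.trans hcl)
    e.toMonoidHom e.surjective
  exact ⟨L', K', hK', hL'.trans hYH, he⟩

/-- A finite group with nontrivial `O_p` and without non-commuting unipotent pairs in
`SL₂`-images is `p`-stable (`p` odd). -/
theorem isPStable_of_noSL2 {G : Type u} [Group G] [Finite G] {p : ℕ} [Fact p.Prime]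
    (hp : p ≠ 2) (hns : NoSL2 p (⊤ : Subgroup G)) (hO : pCore p G ≠ ⊥) : IsPStable p G := by
  have hpp : p.Prime := Fact.out
  refine ⟨hpp.odd_of_ne_two hp, hO, ?_⟩
  intro A P _ hP _ _ _ hquad
  exact map_le_pCore_of_quadratic hp P A hP (hns.mono le_top) hquad

/-- Lifting a `p`-subgroup of a quotient together with its normalizer (Frattini argument). -/
theorem exists_pGroup_lift_normalizer {Γ X : Type*} [Group Γ] [Group X] [Finite Γ] {p : ℕ}
    [Fact p.Prime] (f : Γ →* X) (hf : Function.Surjective f) (Q : Subgroup X)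
    (hQ : IsPGroup p Q) :
    ∃ P : Subgroup Γ, IsPGroup p P ∧ P.map f = Q ∧
      Subgroup.normalizer (Q : Set X) ≤ (Subgroup.normalizer (P : Set Γ)).map f := by
  set L : Subgroup Γ := Q.comap f with hL
  have hf' : Function.Surjective (f.subgroupComap Q) :=
    MonoidHom.subgroupComap_surjective_of_surjective f Q hf
  obtain ⟨P₀⟩ : Nonempty (Sylow p L) := inferInstance
  have h1 : ((P₀.mapSurjective hf' : Sylow p Q) : Subgroup Q) = ⊤ := by
    have hT : IsPGroup p (⊤ : Subgroup Q) := fun x => by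
      obtain ⟨k, hk⟩ := hQ x.1
      exact ⟨k, Subtype.ext (by rw [Subgroup.coe_pow, Subgroup.coe_one]; exact hk)⟩
    exact ((P₀.mapSurjective hf').is_maximal' hT le_top).symm
  rw [Sylow.coe_mapSurjective] at h1
  set P := (P₀ : Subgroup L).map L.subtype with hPdef
  have hPQ : P.map f = Q := by
    ext y
    constructor
    · rintro ⟨_, ⟨c, hc, rfl⟩, rfl⟩
      exact c.2
    · intro hy
      have h2 : (⟨y, hy⟩ : Q) ∈ (P₀ : Subgroup L).map (f.subgroupComap Q) := by
        rw [h1]; trivial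
      obtain ⟨c, hc, hcy⟩ := h2
      exact ⟨_, ⟨c, hc, rfl⟩, congrArg Subtype.val hcy⟩
  refine ⟨P, P₀.isPGroup'.map _, hPQ, ?_⟩
  intro x hx
  obtain ⟨a, rfl⟩ := hf x
  have haL : a ∈ Subgroup.normalizer (L : Set Γ) := by
    rw [Subgroup.mem_normalizer_iff]
    intro l
    show f l ∈ Q ↔ f (a * l * a⁻¹) ∈ Q
    rw [map_mul, map_mul, map_inv]
    exact Subgroup.mem_normalizer_iff.mp hx (f l)
  obtain ⟨k, hk, hka⟩ := Cfsg.Agent.Lib.Helper91.frattini_normalizer L p P₀ a haL
  have hfk : f k ∈ P.map f := by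
    rw [hPQ]
    exact hk
  obtain ⟨u, hu, huk⟩ := hfk
  refine ⟨u * (k⁻¹ * a), Subgroup.mul_mem _ (Subgroup.le_normalizer hu) hka, ?_⟩
  rw [map_mul, map_mul, map_inv, huk, mul_inv_cancel_left]

/-- Normalizer-form `p`-stability from `NoSL2` on the normalizers of nontrivial `p`-subgroups. -/
theorem isNormalizerPStable_of_noSL2 {X : Type u} [Group X] [Finite X] {p : ℕ} [Fact p.Prime]
    (hp : p ≠ 2)
    (h : ∀ P : Subgroup X, IsPGroup p P → P ≠ ⊥ → NoSL2 p (Subgroup.normalizer (P : Set X))) :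
    IsNormalizerPStable p X := by
  intro P hP g hg hquad
  by_cases hbot : P = ⊥
  · subst hbot
    have h1 : (QuotientGroup.mk (s := (Subgroup.centralizer ((⊥ : Subgroup X) : Set X)).subgroupOf
        (Subgroup.normalizer ((⊥ : Subgroup X) : Set X)))
        (⟨g, hg⟩ : ↥(Subgroup.normalizer ((⊥ : Subgroup X) : Set X)))) = 1 := by
      rw [QuotientGroup.eq_one_iff, Subgroup.mem_subgroupOf, Subgroup.mem_centralizer_iff]
      intro y hy
      rw [SetLike.mem_coe, Subgroup.mem_bot] at hy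
      rw [hy, one_mul, mul_one]
    rw [h1]
    exact Subgroup.one_mem _
  · have h1 := map_le_pCore_of_quadratic hp P (Subgroup.zpowers g) hP (h P hP hbot) hquad
    apply h1
    exact ⟨⟨g, hg⟩, Subgroup.mem_subgroupOf.mpr (Subgroup.mem_zpowers g), rfl⟩

end Cfsg.Agent.Lib.Helper11
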