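import Mathlib
import Cfsg.Agent.Lib.Helper49.Shunt.ShDefs

/-!
# Shunt chain package (K2) for S4359

`lemChain`: Glauberman's hypotheses (`P ⊓ g⁻¹Pg` normal of index `p` in `g⁻¹Pg`, no nontrivial
`g`-invariant normal subgroup of `P` inside `P`) give a shunt situation `Sh P g p t`.
-/

namespace Cfsg.Agent.Lib.Helper11.Shunt

open Pointwise
open Cfsg.Agent.Lib.Helper49.Shunt

universe u

variable {G : Type*} [Group G]

/-- `card H * H.relIndex K = card K` for `H ≤ K` -/
theorem card_mul_relIndex_of_le {H K : Subgroup G} (h : H ≤ K) :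
    Nat.card H * H.relIndex K = Nat.card K := by
  have := Subgroup.relIndex_mul_relIndex ⊥ H K bot_le h
  rwa [Subgroup.relIndex_bot_left, Subgroup.relIndex_bot_left] at this

theorem card_mulAut_smul (c : MulAut G) (H : Subgroup G) :
    Nat.card (c • H : Subgroup G) = Nat.card H :=
  (Nat.card_congr (Subgroup.equivSMul c H).toEquiv).symm

theorem mem_conj_inv_smul {H : Subgroup G} {g y : G} :
    y ∈ MulAut.conj g⁻¹ • H ↔ g * y * g⁻¹ ∈ H := by
  rw [Subgroup.mem_pointwise_smul_iff_inv_smul_mem]
  simp [MulAut.smul_def]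

/-- the descending chain `D k = ⋂_{0 ≤ j ≤ k} g^{-j} P g^{j}` -/
def chD (P : Subgroup G) (g : G) : ℕ → Subgroup G
  | 0 => P
  | (k + 1) => P ⊓ MulAut.conj g⁻¹ • chD P g k

theorem chD_zero (P : Subgroup G) (g : G) : chD P g 0 = P := rfl

theorem chD_succ (P : Subgroup G) (g : G) (k : ℕ) :
    chD P g (k + 1) = P ⊓ MulAut.conj g⁻¹ • chD P g k := rfl

theorem chD_le (P : Subgroup G) (g : G) (k : ℕ) : chD P g k ≤ P := by
  cases k with
  | zero => exact le_rfl
  | succ k => exact inf_le_left

theorem chD_anti (P : Subgroup G) (g : G) (k : ℕ) : chD P g (k + 1) ≤ chD P g k := by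
  induction k with
  | zero => exact inf_le_left
  | succ k ih =>
    rw [chD_succ P g (k + 1), chD_succ P g k]
    exact inf_le_inf_left _ (Subgroup.pointwise_smul_le_pointwise_smul_iff.mpr ih)

theorem mem_chD {P : Subgroup G} {g : G} {k : ℕ} {y : G} :
    y ∈ chD P g k ↔ ∀ j : ℕ, j ≤ k → g ^ j * y * (g ^ j)⁻¹ ∈ P := by
  induction k generalizing y with
  | zero =>
    rw [chD_zero]
    constructor
    · intro h j hj
      have : j = 0 := by omega
      subst this
      simpa using h
    · intro h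
      simpa using h 0 le_rfl
  | succ k ih =>
    rw [chD_succ, Subgroup.mem_inf, mem_conj_inv_smul, ih]
    constructor
    · rintro ⟨h1, h2⟩ j hj
      rcases Nat.eq_zero_or_pos j with rfl | hj0
      · simpa using h1
      · obtain ⟨j', rfl⟩ : ∃ j', j = j' + 1 := ⟨j - 1, by omega⟩
        have := h2 j' (by omega)
        have e : g ^ (j' + 1) * y * (g ^ (j' + 1))⁻¹ = g ^ j' * (g * y * g⁻¹) * (g ^ j')⁻¹ := by
          rw [pow_succ]; group
        rw [e]; exact this
    · intro h
      refine ⟨by simpa using h 0 (Nat.zero_le _), fun j hj => ?_⟩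
      have := h (j + 1) (by omega)
      have e : g ^ (j + 1) * y * (g ^ (j + 1))⁻¹ = g ^ j * (g * y * g⁻¹) * (g ^ j)⁻¹ := by
        rw [pow_succ]; group
      rw [e] at this; exact this

theorem Qv_eq_smul_chD (P : Subgroup G) (g : G) {t ℓ : ℕ} (a : ℤ) (h : ℓ ≤ t) :
    Qv P g t a ℓ = MulAut.conj (g ^ a) • chD P g (t - ℓ) := by
  ext y
  rw [mem_Qv, Subgroup.mem_pointwise_smul_iff_inv_smul_mem, mem_chD]
  have hsm : (MulAut.conj (g ^ a))⁻¹ • y = (g ^ a)⁻¹ * y * g ^ a := by
    rw [← map_inv, MulAut.smul_def, MulAut.conj_apply, inv_inv]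
  rw [hsm]
  constructor
  · intro hy j hj
    have := hy (a - j) (by omega) (by omega)
    have e : g ^ j * ((g ^ a)⁻¹ * y * g ^ a) * (g ^ j)⁻¹
        = (g ^ (a - (j : ℤ)))⁻¹ * y * g ^ (a - (j : ℤ)) := by
      rw [zpow_sub, zpow_natCast]; group
    rw [e]; exact this
  · intro hy i hi1 hi2
    obtain ⟨j, hj⟩ : ∃ j : ℕ, (j : ℤ) = a - i := ⟨(a - i).toNat, Int.toNat_of_nonneg (by omega)⟩
    have hi : i = a - j := by omega
    subst hi
    have := hy j (by omega)
    have e : g ^ j * ((g ^ a)⁻¹ * y * g ^ a) * (g ^ j)⁻¹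
        = (g ^ (a - (j : ℤ)))⁻¹ * y * g ^ (a - (j : ℤ)) := by
      rw [zpow_sub, zpow_natCast]; group
    rw [e] at this; exact this

theorem chD_card_step (P : Subgroup G) (g : G) (p : ℕ) (hp : p.Prime)
    (hN : ((P ⊓ MulAut.conj g⁻¹ • P).subgroupOf (MulAut.conj g⁻¹ • P)).Normal)
    (hidx : (P ⊓ MulAut.conj g⁻¹ • P).relIndex (MulAut.conj g⁻¹ • P) = p) (k : ℕ) :
    Nat.card (chD P g k) = Nat.card (chD P g (k + 1)) ∨
      Nat.card (chD P g k) = Nat.card (chD P g (k + 1)) * p := by
  have hXL : MulAut.conj g⁻¹ • chD P g k ≤ MulAut.conj g⁻¹ • P :=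
    Subgroup.pointwise_smul_le_pointwise_smul_iff.mpr (chD_le P g k)
  have hD : chD P g (k + 1) = (P ⊓ MulAut.conj g⁻¹ • P) ⊓ MulAut.conj g⁻¹ • chD P g k := by
    rw [chD_succ, inf_assoc, inf_eq_right.mpr hXL]
  have h1 : (P ⊓ MulAut.conj g⁻¹ • P).relIndex (MulAut.conj g⁻¹ • chD P g k) ∣ p := by
    haveI := hN
    have := Subgroup.relIndex_dvd_index_of_normal
      ((P ⊓ MulAut.conj g⁻¹ • P).subgroupOf (MulAut.conj g⁻¹ • P))
      ((MulAut.conj g⁻¹ • chD P g k).subgroupOf (MulAut.conj g⁻¹ • P))
    rw [Subgroup.relIndex_subgroupOf hXL] at this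
    exact hidx ▸ this
  have h2 : Nat.card (chD P g (k + 1))
      * (P ⊓ MulAut.conj g⁻¹ • P).relIndex (MulAut.conj g⁻¹ • chD P g k)
      = Nat.card (MulAut.conj g⁻¹ • chD P g k : Subgroup G) := by
    rw [hD, ← Subgroup.inf_relIndex_right]
    exact card_mul_relIndex_of_le inf_le_right
  have h3 : Nat.card (MulAut.conj g⁻¹ • chD P g k : Subgroup G) = Nat.card (chD P g k) :=
    card_mulAut_smul _ _
  rcases (Nat.dvd_prime hp).mp h1 with h | h
  · left; rw [← h3, ← h2, h, mul_one]
  · right; rw [← h3, ← h2, h]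

theorem chD_stab [Finite G] (P : Subgroup G) (g : G) (k : ℕ)
    (h : Nat.card (chD P g (k + 1)) = Nat.card (chD P g k)) :
    chD P g (k + 1) = chD P g k ∧ MulAut.conj g⁻¹ • chD P g k = chD P g k := by
  have e1 : chD P g (k + 1) = chD P g k :=
    Subgroup.eq_of_le_of_card_ge (chD_anti P g k) (le_of_eq h.symm)
  have e2 : chD P g (k + 1) = MulAut.conj g⁻¹ • chD P g k :=
    Subgroup.eq_of_le_of_card_ge inf_le_right (by rw [card_mulAut_smul, h])
  exact ⟨e1, by rw [← e2, e1]⟩

theorem lemChain : LemChain.{u} := by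
  intro G _ _ P g p hp hN hidx h1
  classical
  -- the chain stabilises
  have hex : ∃ k, Nat.card (chD P g (k + 1)) = Nat.card (chD P g k) := by
    by_contra hne
    push_neg at hne
    have hlt : ∀ k, Nat.card (chD P g (k + 1)) < Nat.card (chD P g k) := fun k =>
      lt_of_le_of_ne (Nat.le_of_dvd Nat.card_pos (Subgroup.card_dvd_of_le (chD_anti P g k)))
        (hne k)
    have hb : ∀ k, Nat.card (chD P g k) + k ≤ Nat.card (chD P g 0) := by
      intro k
      induction k with
      | zero => simp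
      | succ k ih => have := hlt k; omega
    have := hb (Nat.card (chD P g 0) + 1)
    omega
  obtain ⟨m, hm, hmin⟩ : ∃ m, Nat.card (chD P g (m + 1)) = Nat.card (chD P g m) ∧
      ∀ k, k < m → Nat.card (chD P g (k + 1)) ≠ Nat.card (chD P g k) :=
    ⟨Nat.find hex, Nat.find_spec hex, fun k hk => Nat.find_min hex hk⟩
  obtain ⟨hT1, hTσ⟩ := chD_stab P g m hm
  have hcard : ∀ k, k < m → Nat.card (chD P g k) = Nat.card (chD P g (k + 1)) * p := by
    intro k hk
    rcases chD_card_step P g p hp hN hidx k with h | h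
    · exact absurd h.symm (hmin k hk)
    · exact h
  -- m ≥ 1
  have hm1 : 1 ≤ m := by
    by_contra h0
    have hm0 : m = 0 := by omega
    subst hm0
    have e1 : Nat.card (P ⊓ MulAut.conj g⁻¹ • P : Subgroup G) = Nat.card P := hm
    have e2 := card_mul_relIndex_of_le (inf_le_right : P ⊓ MulAut.conj g⁻¹ • P ≤ MulAut.conj g⁻¹ • P)
    rw [hidx, card_mulAut_smul, e1] at e2
    have hpos : 0 < Nat.card P := Nat.card_pos
    have := hp.two_le
    nlinarith
  -- invariance of T := chD m
  have hTg : MulAut.conj g • chD P g m = chD P g m := by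
    have h := congrArg (fun H : Subgroup G => MulAut.conj g • H) hTσ
    simp only [smul_smul, ← map_mul, mul_inv_cancel, map_one, one_smul] at h
    exact h.symm
  have hNσ : MulAut.conj g⁻¹ • Subgroup.normalizer (chD P g m : Set G) = Subgroup.normalizer (chD P g m : Set G) := by
    have := Subgroup.map_equiv_normalizer_eq (chD P g m) (MulAut.conj g⁻¹)
    calc MulAut.conj g⁻¹ • Subgroup.normalizer (chD P g m : Set G)
        = Subgroup.normalizer ((MulAut.conj g⁻¹ • chD P g m : Subgroup G) : Set G) := this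
      _ = Subgroup.normalizer (chD P g m : Set G) := by rw [hTσ]
  have hdown : ∀ H : Subgroup G, MulAut.conj g⁻¹ • H ≤ Subgroup.normalizer (chD P g m : Set G) →
      H ≤ Subgroup.normalizer (chD P g m : Set G) := by
    intro H hH
    rw [← hNσ] at hH
    exact Subgroup.pointwise_smul_le_pointwise_smul_iff.mp hH
  have hup : ∀ H : Subgroup G, H ≤ Subgroup.normalizer (chD P g m : Set G) →
      MulAut.conj g⁻¹ • H ≤ Subgroup.normalizer (chD P g m : Set G) := by
    intro H hH
    rw [← hNσ]
    exact Subgroup.pointwise_smul_le_pointwise_smul_iff.mpr hH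
  -- normalizer induction
  have hnorm : ∀ j, j ≤ m → chD P g (m - j) ≤ Subgroup.normalizer (chD P g m : Set G) := by
    intro j
    induction j with
    | zero => intro _; exact Subgroup.le_normalizer
    | succ j ih =>
      intro hj
      have ih' := ih (by omega)
      obtain ⟨k, hk⟩ : ∃ k, m - (j + 1) = k := ⟨_, rfl⟩
      have hk1 : m - j = k + 1 := by omega
      rw [hk]
      rw [hk1] at ih'
      apply hdown
      have hAX : chD P g (k + 1) ≤ MulAut.conj g⁻¹ • chD P g k := inf_le_right
      have hBX : MulAut.conj g⁻¹ • chD P g (k + 1) ≤ MulAut.conj g⁻¹ • chD P g k :=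
        Subgroup.pointwise_smul_le_pointwise_smul_iff.mpr (chD_anti P g k)
      have hXL : MulAut.conj g⁻¹ • chD P g k ≤ MulAut.conj g⁻¹ • P :=
        Subgroup.pointwise_smul_le_pointwise_smul_iff.mpr (chD_le P g k)
      by_cases hAB : chD P g (k + 1) = MulAut.conj g⁻¹ • chD P g (k + 1)
      · -- then m = k + 1 and T = chD (k+1) is normalised by X
        have h2 : chD P g (k + 1 + 1) = chD P g (k + 1) := by
          rw [chD_succ P g (k + 1), ← hAB]
          exact inf_eq_right.mpr (chD_le P g (k + 1))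
        have hmk : m = k + 1 := by
          by_contra hne
          have hlt : k + 1 < m := by omega
          exact hmin (k + 1) hlt (by rw [h2])
        rw [hmk]
        have hXN : MulAut.conj g⁻¹ • chD P g k ≤ Subgroup.normalizer ((P ⊓ MulAut.conj g⁻¹ • P : Subgroup G) : Set G) :=
          hXL.trans ((Subgroup.normal_subgroupOf_iff_le_normalizer inf_le_right).mp hN)
        have hD : chD P g (k + 1) = (P ⊓ MulAut.conj g⁻¹ • P) ⊓ MulAut.conj g⁻¹ • chD P g k := by
          rw [chD_succ, inf_assoc, inf_eq_right.mpr hXL]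
        intro x hx
        rw [Subgroup.mem_normalizer_iff]
        intro y
        rw [hD, Subgroup.mem_inf, Subgroup.mem_inf]
        exact and_congr ((Subgroup.mem_normalizer_iff.mp (hXN hx)) y)
          ((Subgroup.mem_normalizer_iff.mp (Subgroup.le_normalizer hx)) y)
      · -- two distinct subgroups of index p generate X
        have hkm : k < m := by omega
        have hcX : Nat.card (MulAut.conj g⁻¹ • chD P g k : Subgroup G)
            = Nat.card (chD P g (k + 1)) * p := by
          rw [card_mulAut_smul]; exact hcard k hkm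
        have hcB : Nat.card (MulAut.conj g⁻¹ • chD P g (k + 1) : Subgroup G)
            = Nat.card (chD P g (k + 1)) := card_mulAut_smul _ _
        have hsup : chD P g (k + 1) ⊔ MulAut.conj g⁻¹ • chD P g (k + 1)
            = MulAut.conj g⁻¹ • chD P g k := by
          apply Subgroup.eq_of_le_of_card_ge (sup_le hAX hBX)
          obtain ⟨c, hc⟩ := Subgroup.card_dvd_of_le
            (le_sup_left : chD P g (k + 1) ≤
              chD P g (k + 1) ⊔ MulAut.conj g⁻¹ • chD P g (k + 1))
          have hdvd := Subgroup.card_dvd_of_le (sup_le hAX hBX)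
          rw [hcX, hc] at hdvd
          have hApos : 0 < Nat.card (chD P g (k + 1)) := Nat.card_pos
          have hcp : c ∣ p := Nat.dvd_of_mul_dvd_mul_left hApos hdvd
          rcases (Nat.dvd_prime hp).mp hcp with h | h
          · exfalso
            rw [h, mul_one] at hc
            have hA : chD P g (k + 1) = chD P g (k + 1) ⊔ MulAut.conj g⁻¹ • chD P g (k + 1) :=
              Subgroup.eq_of_le_of_card_ge le_sup_left (le_of_eq hc)
            have hBA : MulAut.conj g⁻¹ • chD P g (k + 1) ≤ chD P g (k + 1) :=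
              le_sup_right.trans (le_of_eq hA.symm)
            exact hAB (Subgroup.eq_of_le_of_card_ge hBA (le_of_eq hcB.symm)).symm
          · rw [hcX, hc, h]
        rw [← hsup]
        exact sup_le ih' (hup _ ih')
  have hPn : P ≤ Subgroup.normalizer (chD P g m : Set G) := by
    have := hnorm m le_rfl
    rwa [Nat.sub_self] at this
  have hTbot : chD P g m = ⊥ :=
    h1 (chD P g m) (chD_le P g m)
      ((Subgroup.normal_subgroupOf_iff_le_normalizer (chD_le P g m)).mpr hPn) hTg
  have hpow : ∀ j, j ≤ m → Nat.card (chD P g (m - j)) = p ^ j := by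
    intro j
    induction j with
    | zero =>
      intro _
      rw [Nat.sub_zero, hTbot, pow_zero]
      exact Subgroup.card_bot
    | succ j ih =>
      intro hj
      have ih' := ih (by omega)
      have hk1 : m - j = (m - (j + 1)) + 1 := by omega
      rw [hk1] at ih'
      rw [hcard (m - (j + 1)) (by omega), ih', pow_succ]
  refine ⟨m, hp, hm1, ?_⟩
  intro a ℓ hℓ
  rw [Qv_eq_smul_chD P g a hℓ, card_mulAut_smul]
  exact hpow ℓ hℓ

end Cfsg.Agent.Lib.Helper11.Shunt
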