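import Mathlib
import Cfsg.Prelude.Def_Local
import Cfsg.Prelude.Def_PLocal
import Cfsg.Agent.Lib.Helper11.NormStable
import Cfsg.Agent.Lib.Helper11.NPCFunctor
import Cfsg.Agent.Lib.Helper11.ZJ
import Cfsg.Agent.Lib.Lead.ZJLocals

/-!
# Glauberman–Thompson normal `p`-complement theorem, abelian version of `Z(J(P))`

`npc_of_centerThompsonA`: for odd `p`, if `N_G(Z(J(P)))` has a normal `p`-complement then so has
`G`, via the generic reduction `npc_of_charFunctor` and the ZJ-theorem `zj_generic`.
-/

set_option autoImplicit false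
open scoped commutatorElement

namespace Cfsg.Agent.Lib.Helper11

open Cfsg.Agent.Lib.Helper34

universe u

/-- The functor `S ↦ Z(J(S))` (abelian version). -/
def zjA (S : Type u) [Group S] : Subgroup S := Cfsg.centerThompsonAOf (⊤ : Subgroup S)

theorem jOf_zjA {G : Type u} [Group G] [Finite G] (P : Subgroup G) :
    JOf (fun (S : Type u) [Group S] => zjA S) P = Cfsg.centerThompsonAOf P := by
  unfold JOf zjA
  rw [← Cfsg.Agent.Lib.Lead.centerThompsonAOf_map_subtype P ⊤, ← MonoidHom.range_eq_map,
    Subgroup.range_subtype]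

theorem charFunctor_zjA (p : ℕ) [Fact p.Prime] :
    CharFunctor p (fun (S : Type u) [Group S] => zjA S) where
  iso := by
    intro S S' _ _ _ e
    haveI : Finite S' := Finite.of_equiv S e.toEquiv
    have hker : (⊤ : Subgroup S) ⊓ e.toMonoidHom.ker = ⊥ := by
      rw [(MonoidHom.ker_eq_bot_iff _).mpr e.injective, inf_bot_eq]
    have htop : (⊤ : Subgroup S') = (⊤ : Subgroup S).map e.toMonoidHom :=
      (Subgroup.map_top_of_surjective _ e.surjective).symm
    show (Cfsg.centerThompsonAOf (⊤ : Subgroup S)).map e.toMonoidHom =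
      Cfsg.centerThompsonAOf (⊤ : Subgroup S')
    rw [htop, centerThompsonAOf_eq, centerThompsonAOf_eq,
      Cfsg.Agent.Lib.Lead.maxIn_comm_map _ _ hker,
      ← Cfsg.Agent.Lib.Lead.map_sInf_of_inf_ker _ _ hker _
        (maxIn_nonempty (Φ := fun A : Subgroup S => IsMulCommutative A)
          (replClass_comm S).bot _)
        (fun A hA => hA.1)]
  ne_bot := by
    intro S _ _ hS hnt
    exact Cfsg.Agent.Lib.Lead.centerThompsonAOf_ne_bot (⊤ : Subgroup S) (hS.to_subgroup ⊤)
      top_ne_bot

/-- **Glauberman–Thompson** (abelian version of `J`): for odd `p`, `G` has a normal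
`p`-complement as soon as `N_G(Z(J(P)))` has one. -/
theorem npc_of_centerThompsonA {G : Type u} [Group G] [Finite G] {p : ℕ} [Fact p.Prime]
    (hp : p ≠ 2) (P : Sylow p G)
    (hN : Cfsg.HasNormalPComplement p
      ↥(Subgroup.normalizer (Cfsg.centerThompsonAOf ((P : Subgroup G)) : Set G))) :
    Cfsg.HasNormalPComplement p G := by
  have hX := charFunctor_zjA.{u} p
  have hifc : IFC p (Subgroup.normalizer
      (JOf (fun (S : Type u) [Group S] => zjA S) (P : Subgroup G) : Set G)) := by
    rw [jOf_zjA]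
    exact (ifc_iff_hnpc _).mpr hN
  refine npc_of_charFunctor hp hX ?_ (Nat.card G) G rfl P hifc
  intro G' _ _ P' hc h2
  rw [jOf_zjA, centerThompsonAOf_eq]
  have hns : NoSL2 p (⊤ : Subgroup G') := noSL2_of_twoAb hp h2
  haveI := zj_generic hp hc
    (fun V _ hV => isPStableOn_pGroup_of_noSL2 hp hns V hV) P' (replClass_comm G')
  infer_instance

end Cfsg.Agent.Lib.Helper11
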